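import Cfsg.Agent.H254.FxOddThree
import Cfsg.Agent.LargeExtra.W2.LFour.EnumMainChk2_mg_m3
import Cfsg.Agent.H956.EigBasis
import Cfsg.Agent.Lib.MatDec
import Cfsg.Agent.Lib.FinFast
import Cfsg.Agent.H124.LinCyc
import Cfsg.Agent.H254.FxTools
import Cfsg.Agent.OddOrderLocal.CyclicSub
import Cfsg.Agent.S0243
import Cfsg.Agent.H242.StrP.LinAll
import Cfsg.Agent.H818.StrP.Own
import Cfsg.Agent.S0249
import Cfsg.Agent.S2476
import Cfsg.Agent.LThreeFour.Inv_m3
import Cfsg.Agent.StdL3.OneNoTwo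
import Mathlib
import Cfsg.Agent.H808.D4.Chev
import Cfsg.Agent.TwoFusion.SLTwoFacts
import Cfsg.Agent.S4278
import Cfsg.Agent.S1055
import Cfsg.Agent.H724.UThree
import Cfsg.Agent.H242.StrP.UniAll
import Cfsg.Agent.S0283
import Cfsg.Agent.TypeM.FactsMcL
import Cfsg.Agent.TypeM.FactsLy
import Cfsg.Agent.GTwoRows.Rows
import Cfsg.Agent.KFacts.QMinus
import Cfsg.Agent.CpAutJThree.Row
import Cfsg.Agent.KFacts.MM.Main
import Cfsg.Agent.H992.Stages.Mathieu
import Cfsg.Agent.FastGrp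
import Cfsg.Agent.Prune
set_option linter.all false

section
prune_inst 0x7ff0adf8a9b8addfdfff7e7fa6dccffc39901fffa4dff943ffe061ff0bdf030009c5638d8de010fe0ef6c21410a87843f9ffeeffe26bdc7ffffd5ff41ffbee0fe5f7b508519488340fbc0ffe03f0778e7f3fffffffffffffffffffffffffffaeffbfffffffff

-- part: H546/Fx/PslFin
section
prune_inst 0xe1007464010002000000058031001c6296000080000b80009880024006861c0009020620f0200900000004040030002001000080420000000a000400011901a0808200000040000406000f800080000000000000000000000000000000051000000000000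
set_option linter.all false
open scoped Cfsg.Agent.FastGrp

-- part: H546/Fx/AltBase
section
/-!
# Fixity 4 for alternating groups: the pigeonhole rule for subgroups of `Perm (Fin n)` (for S3002)
-/

set_option autoImplicit false

namespace Cfsg.Agent.H546.Fx

open Equiv Equiv.Perm Cfsg.Agent.H254.Ev

/-- among five elements commuting with `x ∈ H` two lie in the same coset of `H` -/
theorem pigeon {G : Type*} [Group G] [Finite G] {H : Subgroup G} (h : FixLE 4 H) {x : G} (hx : x ∈ H) (hx1 : x ≠ 1)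
    (c : Fin 5 → G) (hc : ∀ i, c i * x = x * c i) : ∃ i j, i < j ∧ (c i)⁻¹ * c j ∈ H := by
  have h1 := h.cent_le hx hx1
  let C := Subgroup.centralizer ({x} : Set G)
  have hcC : ∀ i, c i ∈ C := fun i => Subgroup.mem_centralizer_singleton_iff.2 (hc i)
  let f : Fin 5 → C ⧸ (H.subgroupOf C) := fun i => QuotientGroup.mk ⟨c i, hcC i⟩
  have hni : ¬ Function.Injective f := by
    intro hf
    have h2 := Nat.card_le_card_of_injective f hf
    rw [Nat.card_fin] at h2
    have h3 : Nat.card (C ⧸ (H.subgroupOf C)) = H.relIndex (Subgroup.centralizer ({x} : Set G)) := rfl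
    rw [h3] at h2
    omega
  rw [Function.Injective] at hni
  push Not at hni
  obtain ⟨i, j, hij, hne⟩ := hni
  have key : ∀ i j, f i = f j → (c i)⁻¹ * c j ∈ H := by
    intro i j hij
    have := QuotientGroup.eq.1 hij
    exact this
  rcases lt_or_gt_of_ne hne with h2 | h2
  · exact ⟨i, j, h2, key i j hij⟩
  · exact ⟨j, i, h2, key j i hij.symm⟩

variable {n : ℕ}

/-- the pigeonhole rule for a subgroup of `Perm (Fin n)` -/
def PG (K : Subgroup (Perm (Fin n))) : Prop :=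
  ∀ x ∈ K, x ≠ 1 → ∀ c : Fin 5 → Perm (Fin n), (∀ i, Perm.sign (c i) = 1) → (∀ i, c i * x = x * c i) →
    ∃ i j, i < j ∧ (c i)⁻¹ * c j ∈ K

theorem pg_of_fixLE {H : Subgroup (alternatingGroup (Fin n))} (h : FixLE 4 H) :
    PG (H.map (alternatingGroup (Fin n)).subtype) := by
  rintro _ ⟨x, hx, rfl⟩ hx1 c hs hc
  obtain ⟨i, j, hij, hh⟩ := pigeon h hx (fun h1 => hx1 (by rw [h1, map_one]))
    (fun i => ⟨c i, Perm.mem_alternatingGroup.2 (hs i)⟩) (fun i => Subtype.ext (hc i))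
  exact ⟨i, j, hij, _, hh, rfl⟩

/-- conjugation -/
def cj (σ : Perm (Fin n)) (K : Subgroup (Perm (Fin n))) : Subgroup (Perm (Fin n)) :=
  K.comap (MulAut.conj σ).toMonoidHom

theorem mem_cj {σ g : Perm (Fin n)} {K : Subgroup (Perm (Fin n))} : g ∈ cj σ K ↔ σ * g * σ⁻¹ ∈ K := Iff.rfl

theorem PG.conj {K : Subgroup (Perm (Fin n))} (h : PG K) (σ : Perm (Fin n)) : PG (cj σ K) := by
  intro x hx hx1 c hs hc
  obtain ⟨i, j, hij, hh⟩ := h (σ * x * σ⁻¹) hx (by
    intro h1
    apply hx1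
    have : x = σ⁻¹ * (σ * x * σ⁻¹) * σ := by group
    rw [this, h1]; group) (fun i => σ * c i * σ⁻¹) (fun i => by
      rw [Perm.sign_mul, Perm.sign_mul, hs i, mul_one, ← Perm.sign_mul, mul_inv_cancel, Perm.sign_one]) (fun i => by
      have := hc i
      calc σ * c i * σ⁻¹ * (σ * x * σ⁻¹) = σ * (c i * x) * σ⁻¹ := by group
        _ = σ * (x * c i) * σ⁻¹ := by rw [this]
        _ = _ := by group)
  refine ⟨i, j, hij, ?_⟩
  rw [mem_cj]
  have : σ * ((c i)⁻¹ * c j) * σ⁻¹ = (σ * c i * σ⁻¹)⁻¹ * (σ * c j * σ⁻¹) := by group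
  rw [this]; exact hh

theorem PG.five {K : Subgroup (Perm (Fin n))} (h : PG K) {x z : Perm (Fin n)} (hx : x ∈ K) (hx1 : x ≠ 1)
    (hz : z * x = x * z) (hz5 : z ^ 5 = 1) : z ∈ K := by
  have hs : Perm.sign z = 1 := by
    have h6 := congrArg Perm.sign hz5
    rw [map_pow, Perm.sign_one] at h6
    rcases Int.units_eq_one_or (Perm.sign z) with h7 | h7
    · exact h7
    · rw [h7] at h6
      exact absurd h6 (by decide)
  have hcm : Commute z x := hz
  obtain ⟨i, j, hij, hh⟩ := h x hx hx1 (fun i => z ^ (i : ℕ)) (fun i => by rw [map_pow, hs, one_pow])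
    (fun i => (hcm.pow_left i).eq)
  have h1 : (z ^ (i : ℕ))⁻¹ * z ^ (j : ℕ) = z ^ ((j : ℕ) - (i : ℕ)) := by
    have : (i : ℕ) ≤ j := hij.le
    obtain ⟨k, hk⟩ := Nat.exists_eq_add_of_le this
    rw [hk, pow_add, inv_mul_cancel_left]
    congr 1; omega
  simp only [h1] at hh
  have hlt : (i : ℕ) < j := hij
  have hj5 := j.2
  have hcop : Nat.Coprime ((j : ℕ) - (i : ℕ)) 5 := by
    rw [Nat.coprime_comm, Nat.Prime.coprime_iff_not_dvd (by norm_num)]
    intro hd
    have := Nat.le_of_dvd (by omega) hd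
    omega
  obtain ⟨m, hm⟩ := exists_pow_eq_self_of_coprime (x := z) (n := (j : ℕ) - (i : ℕ))
    (hcop.coprime_dvd_right (orderOf_dvd_of_pow_eq_one hz5))
  rw [← hm]
  exact K.pow_mem hh m

theorem conj_of_cycleType {g h : Perm (Fin n)} (hgh : g.cycleType = h.cycleType) : ∃ σ : Perm (Fin n), σ * h * σ⁻¹ = g := by
  have := Perm.isConj_iff_cycleType_eq.2 hgh.symm
  obtain ⟨σ, hσ⟩ := isConj_iff.1 this
  exact ⟨σ, hσ⟩

theorem three_conj {g x0 : Perm (Fin n)} (hg : g.support.card = 3) (hx : x0.support.card = 3) :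
    ∃ σ : Perm (Fin n), σ * x0 * σ⁻¹ = g := by
  apply conj_of_cycleType
  rw [card_support_eq_three_iff] at hg hx
  rw [hg.cycleType, hx.cycleType]

theorem invol_cycleType {g : Perm (Fin n)} (hg : g * g = 1) (hg1 : g ≠ 1) :
    g.cycleType = Multiset.replicate (g.support.card / 2) 2 := by
  have ho : orderOf g = 2 := orderOf_eq_prime (by rw [sq, hg]) hg1
  obtain ⟨m, hm⟩ := Perm.cycleType_prime_order (σ := g) (by rw [ho]; exact Nat.prime_two)
  rw [ho] at hm
  have hs : g.support.card = 2 * (m + 1) := by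
    rw [← Perm.sum_cycleType, hm, Multiset.sum_replicate, smul_eq_mul, mul_comm]
  rw [hm, hs, Nat.mul_div_cancel_left _ (by norm_num)]

theorem invol_conj {g t : Perm (Fin n)} (hg : g * g = 1) (ht : t * t = 1) (hs : g.support.card = t.support.card)
    (ht0 : t.support.card ≠ 0) : ∃ σ : Perm (Fin n), σ * t * σ⁻¹ = g := by
  have ht1 : t ≠ 1 := by rintro rfl; exact ht0 (by rw [Perm.support_one]; rfl)
  have hg1 : g ≠ 1 := by rintro rfl; exact ht0 (by rw [← hs, Perm.support_one]; rfl)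
  apply conj_of_cycleType
  rw [invol_cycleType hg hg1, invol_cycleType ht ht1, hs]

/-- even involutions in degree at most 11 -/
theorem invol_support (h11 : n ≤ 11) {g : Perm (Fin n)} (hg : g * g = 1) (hg1 : g ≠ 1) (hs : Perm.sign g = 1) :
    g.support.card = 4 ∨ g.support.card = 8 := by
  have h1 := invol_cycleType hg hg1
  have ho : orderOf g = 2 := orderOf_eq_prime (by rw [sq, hg]) hg1
  obtain ⟨m, hm⟩ := Perm.cycleType_prime_order (σ := g) (by rw [ho]; exact Nat.prime_two)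
  rw [ho] at hm
  have hs2 : g.support.card = 2 * (m + 1) := by
    rw [← Perm.sum_cycleType, hm, Multiset.sum_replicate, smul_eq_mul, mul_comm]
  have hle : g.support.card ≤ n := by
    have := Finset.card_le_univ g.support
    rwa [Fintype.card_fin] at this
  rw [Perm.sign_of_cycleType, hm, Multiset.sum_replicate, Multiset.card_replicate] at hs
  have hm4 : m ≤ 4 := by omega
  interval_cases m
  · exact absurd hs (by decide)
  · left; omega
  · exact absurd hs (by decide)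
  · right; omega
  · exact absurd hs (by decide)

/-- all three-cycles: the alternating group -/
theorem alt_le_of_three {K : Subgroup (Perm (Fin n))} (h : ∀ g : Perm (Fin n), g.support.card = 3 → g ∈ K) :
    alternatingGroup (Fin n) ≤ K := by
  rw [← Perm.closure_three_cycles_eq_alternating, Subgroup.closure_le]
  intro g hg
  exact h g (card_support_eq_three_iff.2 hg)

/-! ### Propagation of three-cycles -/

/-- every `K` with the pigeonhole rule containing `x0` contains its conjugate by `π` -/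
def Pr (x0 π : Perm (Fin n)) : Prop := ∀ K : Subgroup (Perm (Fin n)), PG K → x0 ∈ K → π * x0 * π⁻¹ ∈ K

theorem Pr.mul {x0 π π' : Perm (Fin n)} (h : Pr x0 π) (h' : Pr x0 π') : Pr x0 (π * π') := by
  intro K hK hx
  have h1 := h' (cj π K) (hK.conj π) (h K hK hx)
  rw [mem_cj] at h1
  have : π * π' * x0 * (π * π')⁻¹ = π * (π' * x0 * π'⁻¹) * π⁻¹ := by group
  rw [this]; exact h1

theorem Pr.of_comm {x0 π : Perm (Fin n)} (h : π * x0 = x0 * π) : Pr x0 π := by
  intro K _ hx
  rw [h, mul_inv_cancel_right]; exact hx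

theorem Pr.of_inv {x0 π : Perm (Fin n)} (h : π * x0 = x0⁻¹ * π) : Pr x0 π := by
  intro K _ hx
  rw [h, mul_inv_cancel_right]; exact K.inv_mem hx

theorem Pr.all {m : ℕ} {x0 : Perm (Fin (m + 1))} (h : ∀ i : Fin m, Pr x0 (swap i.castSucc i.succ))
    (π : Perm (Fin (m + 1))) : Pr x0 π := by
  have h1 : π ∈ Submonoid.closure (Set.range fun i : Fin m => swap i.castSucc i.succ) := by
    rw [Perm.mclosure_swap_castSucc_succ]; trivial
  induction h1 using Submonoid.closure_induction with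
  | mem x hx => obtain ⟨i, rfl⟩ := hx; exact h i
  | one => exact Pr.of_comm (by simp)
  | mul x y _ _ hx hy => exact hx.mul hy

theorem alt_le_of_mem_three {x0 : Perm (Fin n)} (hx0 : x0.support.card = 3) (hall : ∀ π, Pr x0 π)
    {K : Subgroup (Perm (Fin n))} (hK : PG K) {g : Perm (Fin n)} (hg : g ∈ K) (hg3 : g.support.card = 3) :
    alternatingGroup (Fin n) ≤ K := by
  obtain ⟨σ, hσ⟩ := three_conj hg3 hx0
  have h1 : x0 ∈ cj σ K := by rw [mem_cj, hσ]; exact hg
  apply alt_le_of_three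
  intro g' hg'
  obtain ⟨τ, hτ⟩ := three_conj hg' hx0
  have h2 := hall (σ⁻¹ * τ) (cj σ K) (hK.conj σ) h1
  rw [mem_cj] at h2
  have : σ * (σ⁻¹ * τ * x0 * (σ⁻¹ * τ)⁻¹) * σ⁻¹ = τ * x0 * τ⁻¹ := by group
  rw [this, hτ] at h2
  exact h2

end Cfsg.Agent.H546.Fx
end

-- part: H546/Fx/AltProp
section
/-!
# Fixity 4 for alternating groups of degree 8, 9, 10, 11: propagation (for S3002)
-/

set_option autoImplicit false
set_option maxRecDepth 10000

namespace Cfsg.Agent.H546.Fx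

open Equiv

/-! ### Degree 8 -/

namespace N8

theorem y0_mem (K : Subgroup (Perm (Fin 8))) (h : PG K) (hx : List.formPerm [(0 : Fin 8), 1, 2] ∈ K) :
    (List.formPerm [(3 : Fin 8), 4, 5] : Perm (Fin 8)) ∈ K := by
  have h1 : (List.formPerm [(3 : Fin 8), 5, 4, 6, 7] : Perm (Fin 8)) ∈ K :=
    h.five hx (by decide +kernel) (by decide +kernel) (by decide +kernel)
  have h2 : (List.formPerm [(3 : Fin 8), 5, 7, 6, 4] : Perm (Fin 8)) ∈ K :=
    h.five hx (by decide +kernel) (by decide +kernel) (by decide +kernel)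
  have : (List.formPerm [(3 : Fin 8), 4, 5] : Perm (Fin 8)) = List.formPerm [(3 : Fin 8), 5, 4, 6, 7] * List.formPerm [(3 : Fin 8), 5, 7, 6, 4] := by
    decide +kernel
  rw [this]; exact K.mul_mem h1 h2

theorem pr_pi : Pr (List.formPerm [(0 : Fin 8), 1, 2] : Perm (Fin 8)) (swap (0 : Fin 8) 3 * swap (1 : Fin 8) 4 * swap (2 : Fin 8) 5) := by
  intro K hK hx
  have : (swap (0 : Fin 8) 3 * swap (1 : Fin 8) 4 * swap (2 : Fin 8) 5 : Perm (Fin 8)) * List.formPerm [(0 : Fin 8), 1, 2] * (swap (0 : Fin 8) 3 * swap (1 : Fin 8) 4 * swap (2 : Fin 8) 5)⁻¹ =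
      List.formPerm [(3 : Fin 8), 4, 5] := by decide +kernel
  rw [this]; exact y0_mem K hK hx

theorem pr_23 : Pr (List.formPerm [(0 : Fin 8), 1, 2] : Perm (Fin 8)) (swap (2 : Fin 8) 3) := by
  have e : (swap (2 : Fin 8) 3 : Perm (Fin 8)) = swap (0 : Fin 8) 2 * swap (3 : Fin 8) 6 * ((swap (0 : Fin 8) 3 * swap (1 : Fin 8) 4 * swap (2 : Fin 8) 5) * swap (3 : Fin 8) 6 *
      (swap (0 : Fin 8) 3 * swap (1 : Fin 8) 4 * swap (2 : Fin 8) 5)) * (swap (0 : Fin 8) 2 * swap (3 : Fin 8) 6) := by decide +kernel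
  have h1 : Pr (List.formPerm [(0 : Fin 8), 1, 2] : Perm (Fin 8)) (swap (0 : Fin 8) 2) := Pr.of_inv (by decide +kernel)
  have h2 : Pr (List.formPerm [(0 : Fin 8), 1, 2] : Perm (Fin 8)) (swap (3 : Fin 8) 6) := Pr.of_comm (by decide +kernel)
  rw [e]
  exact ((h1.mul h2).mul ((pr_pi.mul h2).mul pr_pi)).mul (h1.mul h2)

theorem pr_all (π : Perm (Fin 8)) : Pr (List.formPerm [(0 : Fin 8), 1, 2] : Perm (Fin 8)) π := by
  refine Pr.all (m := 7) ?_ π
  intro i
  fin_cases i
  · exact Pr.of_inv (by decide +kernel)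
  · exact Pr.of_inv (by decide +kernel)
  · exact pr_23
  · exact Pr.of_comm (by decide +kernel)
  · exact Pr.of_comm (by decide +kernel)
  · exact Pr.of_comm (by decide +kernel)
  · exact Pr.of_comm (by decide +kernel)

theorem alt_le {K : Subgroup (Perm (Fin 8))} (hK : PG K) {g : Perm (Fin 8)} (hg : g ∈ K)
    (hg3 : g.support.card = 3) : alternatingGroup (Fin 8) ≤ K :=
  alt_le_of_mem_three (x0 := List.formPerm [(0 : Fin 8), 1, 2]) (by decide +kernel) pr_all hK hg hg3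

end N8

/-! ### Degree 9 -/

namespace N9

theorem y0_mem (K : Subgroup (Perm (Fin 9))) (h : PG K) (hx : List.formPerm [(0 : Fin 9), 1, 2] ∈ K) :
    (List.formPerm [(3 : Fin 9), 4, 5] : Perm (Fin 9)) ∈ K := by
  have h1 : (List.formPerm [(3 : Fin 9), 5, 4, 6, 7] : Perm (Fin 9)) ∈ K :=
    h.five hx (by decide +kernel) (by decide +kernel) (by decide +kernel)
  have h2 : (List.formPerm [(3 : Fin 9), 5, 7, 6, 4] : Perm (Fin 9)) ∈ K :=
    h.five hx (by decide +kernel) (by decide +kernel) (by decide +kernel)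
  have : (List.formPerm [(3 : Fin 9), 4, 5] : Perm (Fin 9)) = List.formPerm [(3 : Fin 9), 5, 4, 6, 7] * List.formPerm [(3 : Fin 9), 5, 7, 6, 4] := by
    decide +kernel
  rw [this]; exact K.mul_mem h1 h2

theorem pr_pi : Pr (List.formPerm [(0 : Fin 9), 1, 2] : Perm (Fin 9)) (swap (0 : Fin 9) 3 * swap (1 : Fin 9) 4 * swap (2 : Fin 9) 5) := by
  intro K hK hx
  have : (swap (0 : Fin 9) 3 * swap (1 : Fin 9) 4 * swap (2 : Fin 9) 5 : Perm (Fin 9)) * List.formPerm [(0 : Fin 9), 1, 2] * (swap (0 : Fin 9) 3 * swap (1 : Fin 9) 4 * swap (2 : Fin 9) 5)⁻¹ =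
      List.formPerm [(3 : Fin 9), 4, 5] := by decide +kernel
  rw [this]; exact y0_mem K hK hx

theorem pr_23 : Pr (List.formPerm [(0 : Fin 9), 1, 2] : Perm (Fin 9)) (swap (2 : Fin 9) 3) := by
  have e : (swap (2 : Fin 9) 3 : Perm (Fin 9)) = swap (0 : Fin 9) 2 * swap (3 : Fin 9) 6 * ((swap (0 : Fin 9) 3 * swap (1 : Fin 9) 4 * swap (2 : Fin 9) 5) * swap (3 : Fin 9) 6 *
      (swap (0 : Fin 9) 3 * swap (1 : Fin 9) 4 * swap (2 : Fin 9) 5)) * (swap (0 : Fin 9) 2 * swap (3 : Fin 9) 6) := by decide +kernel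
  have h1 : Pr (List.formPerm [(0 : Fin 9), 1, 2] : Perm (Fin 9)) (swap (0 : Fin 9) 2) := Pr.of_inv (by decide +kernel)
  have h2 : Pr (List.formPerm [(0 : Fin 9), 1, 2] : Perm (Fin 9)) (swap (3 : Fin 9) 6) := Pr.of_comm (by decide +kernel)
  rw [e]
  exact ((h1.mul h2).mul ((pr_pi.mul h2).mul pr_pi)).mul (h1.mul h2)

theorem pr_all (π : Perm (Fin 9)) : Pr (List.formPerm [(0 : Fin 9), 1, 2] : Perm (Fin 9)) π := by
  refine Pr.all (m := 8) ?_ π
  intro i
  fin_cases i
  · exact Pr.of_inv (by decide +kernel)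
  · exact Pr.of_inv (by decide +kernel)
  · exact pr_23
  · exact Pr.of_comm (by decide +kernel)
  · exact Pr.of_comm (by decide +kernel)
  · exact Pr.of_comm (by decide +kernel)
  · exact Pr.of_comm (by decide +kernel)
  · exact Pr.of_comm (by decide +kernel)

theorem alt_le {K : Subgroup (Perm (Fin 9))} (hK : PG K) {g : Perm (Fin 9)} (hg : g ∈ K)
    (hg3 : g.support.card = 3) : alternatingGroup (Fin 9) ≤ K :=
  alt_le_of_mem_three (x0 := List.formPerm [(0 : Fin 9), 1, 2]) (by decide +kernel) pr_all hK hg hg3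

theorem two_two {K : Subgroup (Perm (Fin 9))} (hK : PG K) {g : Perm (Fin 9)} (hg : g ∈ K) (hg2 : g * g = 1)
    (hg4 : g.support.card = 4) : alternatingGroup (Fin 9) ≤ K := by
  obtain ⟨σ, hσ⟩ := invol_conj (t := (swap (0 : Fin 9) 1 * swap (2 : Fin 9) 3 : Perm (Fin 9))) hg2 (by decide +kernel)
    (by rw [hg4]; decide +kernel) (by decide +kernel)
  have h1 : (swap (0 : Fin 9) 1 * swap (2 : Fin 9) 3 : Perm (Fin 9)) ∈ cj σ K := by rw [mem_cj, hσ]; exact hg
  have h2 : (List.formPerm [(4 : Fin 9), 6, 5, 7, 8] : Perm (Fin 9)) ∈ cj σ K :=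
    (hK.conj σ).five h1 (by decide +kernel) (by decide +kernel) (by decide +kernel)
  have h3 : (List.formPerm [(4 : Fin 9), 6, 8, 7, 5] : Perm (Fin 9)) ∈ cj σ K :=
    (hK.conj σ).five h1 (by decide +kernel) (by decide +kernel) (by decide +kernel)
  have h4 := (cj σ K).mul_mem h2 h3
  rw [mem_cj] at h4
  refine alt_le hK h4 ?_
  rw [Perm.card_support_conj]
  decide +kernel

end N9

/-! ### Degree 10 -/

namespace N10

theorem y0_mem (K : Subgroup (Perm (Fin 10))) (h : PG K) (hx : List.formPerm [(0 : Fin 10), 1, 2] ∈ K) :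
    (List.formPerm [(3 : Fin 10), 4, 5] : Perm (Fin 10)) ∈ K := by
  have h1 : (List.formPerm [(3 : Fin 10), 5, 4, 6, 7] : Perm (Fin 10)) ∈ K :=
    h.five hx (by decide +kernel) (by decide +kernel) (by decide +kernel)
  have h2 : (List.formPerm [(3 : Fin 10), 5, 7, 6, 4] : Perm (Fin 10)) ∈ K :=
    h.five hx (by decide +kernel) (by decide +kernel) (by decide +kernel)
  have : (List.formPerm [(3 : Fin 10), 4, 5] : Perm (Fin 10)) = List.formPerm [(3 : Fin 10), 5, 4, 6, 7] * List.formPerm [(3 : Fin 10), 5, 7, 6, 4] := by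
    decide +kernel
  rw [this]; exact K.mul_mem h1 h2

theorem pr_pi : Pr (List.formPerm [(0 : Fin 10), 1, 2] : Perm (Fin 10)) (swap (0 : Fin 10) 3 * swap (1 : Fin 10) 4 * swap (2 : Fin 10) 5) := by
  intro K hK hx
  have : (swap (0 : Fin 10) 3 * swap (1 : Fin 10) 4 * swap (2 : Fin 10) 5 : Perm (Fin 10)) * List.formPerm [(0 : Fin 10), 1, 2] * (swap (0 : Fin 10) 3 * swap (1 : Fin 10) 4 * swap (2 : Fin 10) 5)⁻¹ =
      List.formPerm [(3 : Fin 10), 4, 5] := by decide +kernel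
  rw [this]; exact y0_mem K hK hx

theorem pr_23 : Pr (List.formPerm [(0 : Fin 10), 1, 2] : Perm (Fin 10)) (swap (2 : Fin 10) 3) := by
  have e : (swap (2 : Fin 10) 3 : Perm (Fin 10)) = swap (0 : Fin 10) 2 * swap (3 : Fin 10) 6 * ((swap (0 : Fin 10) 3 * swap (1 : Fin 10) 4 * swap (2 : Fin 10) 5) * swap (3 : Fin 10) 6 *
      (swap (0 : Fin 10) 3 * swap (1 : Fin 10) 4 * swap (2 : Fin 10) 5)) * (swap (0 : Fin 10) 2 * swap (3 : Fin 10) 6) := by decide +kernel
  have h1 : Pr (List.formPerm [(0 : Fin 10), 1, 2] : Perm (Fin 10)) (swap (0 : Fin 10) 2) := Pr.of_inv (by decide +kernel)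
  have h2 : Pr (List.formPerm [(0 : Fin 10), 1, 2] : Perm (Fin 10)) (swap (3 : Fin 10) 6) := Pr.of_comm (by decide +kernel)
  rw [e]
  exact ((h1.mul h2).mul ((pr_pi.mul h2).mul pr_pi)).mul (h1.mul h2)

theorem pr_all (π : Perm (Fin 10)) : Pr (List.formPerm [(0 : Fin 10), 1, 2] : Perm (Fin 10)) π := by
  refine Pr.all (m := 9) ?_ π
  intro i
  fin_cases i
  · exact Pr.of_inv (by decide +kernel)
  · exact Pr.of_inv (by decide +kernel)
  · exact pr_23
  · exact Pr.of_comm (by decide +kernel)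
  · exact Pr.of_comm (by decide +kernel)
  · exact Pr.of_comm (by decide +kernel)
  · exact Pr.of_comm (by decide +kernel)
  · exact Pr.of_comm (by decide +kernel)
  · exact Pr.of_comm (by decide +kernel)

theorem alt_le {K : Subgroup (Perm (Fin 10))} (hK : PG K) {g : Perm (Fin 10)} (hg : g ∈ K)
    (hg3 : g.support.card = 3) : alternatingGroup (Fin 10) ≤ K :=
  alt_le_of_mem_three (x0 := List.formPerm [(0 : Fin 10), 1, 2]) (by decide +kernel) pr_all hK hg hg3

theorem two_two {K : Subgroup (Perm (Fin 10))} (hK : PG K) {g : Perm (Fin 10)} (hg : g ∈ K) (hg2 : g * g = 1)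
    (hg4 : g.support.card = 4) : alternatingGroup (Fin 10) ≤ K := by
  obtain ⟨σ, hσ⟩ := invol_conj (t := (swap (0 : Fin 10) 1 * swap (2 : Fin 10) 3 : Perm (Fin 10))) hg2 (by decide +kernel)
    (by rw [hg4]; decide +kernel) (by decide +kernel)
  have h1 : (swap (0 : Fin 10) 1 * swap (2 : Fin 10) 3 : Perm (Fin 10)) ∈ cj σ K := by rw [mem_cj, hσ]; exact hg
  have h2 : (List.formPerm [(4 : Fin 10), 6, 5, 7, 8] : Perm (Fin 10)) ∈ cj σ K :=
    (hK.conj σ).five h1 (by decide +kernel) (by decide +kernel) (by decide +kernel)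
  have h3 : (List.formPerm [(4 : Fin 10), 6, 8, 7, 5] : Perm (Fin 10)) ∈ cj σ K :=
    (hK.conj σ).five h1 (by decide +kernel) (by decide +kernel) (by decide +kernel)
  have h4 := (cj σ K).mul_mem h2 h3
  rw [mem_cj] at h4
  refine alt_le hK h4 ?_
  rw [Perm.card_support_conj]
  decide +kernel

theorem two_four {K : Subgroup (Perm (Fin 10))} (hK : PG K) {g : Perm (Fin 10)} (hg : g ∈ K) (hg2 : g * g = 1)
    (hg4 : g.support.card = 8) : alternatingGroup (Fin 10) ≤ K := by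
  obtain ⟨σ, hσ⟩ := invol_conj (t := (swap (0 : Fin 10) 1 * swap (2 : Fin 10) 3 * swap (4 : Fin 10) 5 * swap (6 : Fin 10) 7 : Perm (Fin 10))) hg2
    (by decide +kernel) (by rw [hg4]; decide +kernel) (by decide +kernel)
  have h1 : (swap (0 : Fin 10) 1 * swap (2 : Fin 10) 3 * swap (4 : Fin 10) 5 * swap (6 : Fin 10) 7 : Perm (Fin 10)) ∈ cj σ K := by rw [mem_cj, hσ]; exact hg
  obtain ⟨i, j, hij, h2⟩ := (hK.conj σ) _ h1 (by decide +kernel)
    (fun i => ![1, swap (0 : Fin 10) 1 * swap (2 : Fin 10) 3, swap (0 : Fin 10) 1 * swap (4 : Fin 10) 5, swap (0 : Fin 10) 1 * swap (6 : Fin 10) 7, swap (0 : Fin 10) 1 * swap (8 : Fin 10) 9] i)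
    (by decide +kernel) (by decide +kernel)
  have h3 : ∀ i j : Fin 5, i < j →
      ((![1, swap (0 : Fin 10) 1 * swap (2 : Fin 10) 3, swap (0 : Fin 10) 1 * swap (4 : Fin 10) 5, swap (0 : Fin 10) 1 * swap (6 : Fin 10) 7, swap (0 : Fin 10) 1 * swap (8 : Fin 10) 9] : Fin 5 → Perm (Fin 10)) i)⁻¹ *
      (![1, swap (0 : Fin 10) 1 * swap (2 : Fin 10) 3, swap (0 : Fin 10) 1 * swap (4 : Fin 10) 5, swap (0 : Fin 10) 1 * swap (6 : Fin 10) 7, swap (0 : Fin 10) 1 * swap (8 : Fin 10) 9] : Fin 5 → Perm (Fin 10)) j *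
      (((![1, swap (0 : Fin 10) 1 * swap (2 : Fin 10) 3, swap (0 : Fin 10) 1 * swap (4 : Fin 10) 5, swap (0 : Fin 10) 1 * swap (6 : Fin 10) 7, swap (0 : Fin 10) 1 * swap (8 : Fin 10) 9] : Fin 5 → Perm (Fin 10)) i)⁻¹ *
      (![1, swap (0 : Fin 10) 1 * swap (2 : Fin 10) 3, swap (0 : Fin 10) 1 * swap (4 : Fin 10) 5, swap (0 : Fin 10) 1 * swap (6 : Fin 10) 7, swap (0 : Fin 10) 1 * swap (8 : Fin 10) 9] : Fin 5 → Perm (Fin 10)) j) = 1 ∧
      (((![1, swap (0 : Fin 10) 1 * swap (2 : Fin 10) 3, swap (0 : Fin 10) 1 * swap (4 : Fin 10) 5, swap (0 : Fin 10) 1 * swap (6 : Fin 10) 7, swap (0 : Fin 10) 1 * swap (8 : Fin 10) 9] : Fin 5 → Perm (Fin 10)) i)⁻¹ *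
      (![1, swap (0 : Fin 10) 1 * swap (2 : Fin 10) 3, swap (0 : Fin 10) 1 * swap (4 : Fin 10) 5, swap (0 : Fin 10) 1 * swap (6 : Fin 10) 7, swap (0 : Fin 10) 1 * swap (8 : Fin 10) 9] : Fin 5 → Perm (Fin 10)) j).support.card = 4 := by
    decide +kernel
  obtain ⟨h4, h5⟩ := h3 i j hij
  rw [mem_cj] at h2
  refine two_two hK h2 ?_ ?_
  · have : ∀ u : Perm (Fin 10), u * u = 1 → σ * u * σ⁻¹ * (σ * u * σ⁻¹) = 1 := by
      intro u hu
      calc σ * u * σ⁻¹ * (σ * u * σ⁻¹) = σ * (u * u) * σ⁻¹ := by group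
        _ = 1 := by rw [hu]; group
    exact this _ h4
  · rw [Perm.card_support_conj]; exact h5

end N10

/-! ### Degree 11 -/

namespace N11

theorem y0_mem (K : Subgroup (Perm (Fin 11))) (h : PG K) (hx : List.formPerm [(0 : Fin 11), 1, 2] ∈ K) :
    (List.formPerm [(3 : Fin 11), 4, 5] : Perm (Fin 11)) ∈ K := by
  have h1 : (List.formPerm [(3 : Fin 11), 5, 4, 6, 7] : Perm (Fin 11)) ∈ K :=
    h.five hx (by decide +kernel) (by decide +kernel) (by decide +kernel)
  have h2 : (List.formPerm [(3 : Fin 11), 5, 7, 6, 4] : Perm (Fin 11)) ∈ K :=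
    h.five hx (by decide +kernel) (by decide +kernel) (by decide +kernel)
  have : (List.formPerm [(3 : Fin 11), 4, 5] : Perm (Fin 11)) = List.formPerm [(3 : Fin 11), 5, 4, 6, 7] * List.formPerm [(3 : Fin 11), 5, 7, 6, 4] := by
    decide +kernel
  rw [this]; exact K.mul_mem h1 h2

theorem pr_pi : Pr (List.formPerm [(0 : Fin 11), 1, 2] : Perm (Fin 11)) (swap (0 : Fin 11) 3 * swap (1 : Fin 11) 4 * swap (2 : Fin 11) 5) := by
  intro K hK hx
  have : (swap (0 : Fin 11) 3 * swap (1 : Fin 11) 4 * swap (2 : Fin 11) 5 : Perm (Fin 11)) * List.formPerm [(0 : Fin 11), 1, 2] * (swap (0 : Fin 11) 3 * swap (1 : Fin 11) 4 * swap (2 : Fin 11) 5)⁻¹ =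
      List.formPerm [(3 : Fin 11), 4, 5] := by decide +kernel
  rw [this]; exact y0_mem K hK hx

theorem pr_23 : Pr (List.formPerm [(0 : Fin 11), 1, 2] : Perm (Fin 11)) (swap (2 : Fin 11) 3) := by
  have e : (swap (2 : Fin 11) 3 : Perm (Fin 11)) = swap (0 : Fin 11) 2 * swap (3 : Fin 11) 6 * ((swap (0 : Fin 11) 3 * swap (1 : Fin 11) 4 * swap (2 : Fin 11) 5) * swap (3 : Fin 11) 6 *
      (swap (0 : Fin 11) 3 * swap (1 : Fin 11) 4 * swap (2 : Fin 11) 5)) * (swap (0 : Fin 11) 2 * swap (3 : Fin 11) 6) := by decide +kernel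
  have h1 : Pr (List.formPerm [(0 : Fin 11), 1, 2] : Perm (Fin 11)) (swap (0 : Fin 11) 2) := Pr.of_inv (by decide +kernel)
  have h2 : Pr (List.formPerm [(0 : Fin 11), 1, 2] : Perm (Fin 11)) (swap (3 : Fin 11) 6) := Pr.of_comm (by decide +kernel)
  rw [e]
  exact ((h1.mul h2).mul ((pr_pi.mul h2).mul pr_pi)).mul (h1.mul h2)

theorem pr_all (π : Perm (Fin 11)) : Pr (List.formPerm [(0 : Fin 11), 1, 2] : Perm (Fin 11)) π := by
  refine Pr.all (m := 10) ?_ π
  intro i
  fin_cases i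
  · exact Pr.of_inv (by decide +kernel)
  · exact Pr.of_inv (by decide +kernel)
  · exact pr_23
  · exact Pr.of_comm (by decide +kernel)
  · exact Pr.of_comm (by decide +kernel)
  · exact Pr.of_comm (by decide +kernel)
  · exact Pr.of_comm (by decide +kernel)
  · exact Pr.of_comm (by decide +kernel)
  · exact Pr.of_comm (by decide +kernel)
  · exact Pr.of_comm (by decide +kernel)

theorem alt_le {K : Subgroup (Perm (Fin 11))} (hK : PG K) {g : Perm (Fin 11)} (hg : g ∈ K)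
    (hg3 : g.support.card = 3) : alternatingGroup (Fin 11) ≤ K :=
  alt_le_of_mem_three (x0 := List.formPerm [(0 : Fin 11), 1, 2]) (by decide +kernel) pr_all hK hg hg3

theorem two_two {K : Subgroup (Perm (Fin 11))} (hK : PG K) {g : Perm (Fin 11)} (hg : g ∈ K) (hg2 : g * g = 1)
    (hg4 : g.support.card = 4) : alternatingGroup (Fin 11) ≤ K := by
  obtain ⟨σ, hσ⟩ := invol_conj (t := (swap (0 : Fin 11) 1 * swap (2 : Fin 11) 3 : Perm (Fin 11))) hg2 (by decide +kernel)
    (by rw [hg4]; decide +kernel) (by decide +kernel)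
  have h1 : (swap (0 : Fin 11) 1 * swap (2 : Fin 11) 3 : Perm (Fin 11)) ∈ cj σ K := by rw [mem_cj, hσ]; exact hg
  have h2 : (List.formPerm [(4 : Fin 11), 6, 5, 7, 8] : Perm (Fin 11)) ∈ cj σ K :=
    (hK.conj σ).five h1 (by decide +kernel) (by decide +kernel) (by decide +kernel)
  have h3 : (List.formPerm [(4 : Fin 11), 6, 8, 7, 5] : Perm (Fin 11)) ∈ cj σ K :=
    (hK.conj σ).five h1 (by decide +kernel) (by decide +kernel) (by decide +kernel)
  have h4 := (cj σ K).mul_mem h2 h3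
  rw [mem_cj] at h4
  refine alt_le hK h4 ?_
  rw [Perm.card_support_conj]
  decide +kernel

theorem two_four {K : Subgroup (Perm (Fin 11))} (hK : PG K) {g : Perm (Fin 11)} (hg : g ∈ K) (hg2 : g * g = 1)
    (hg4 : g.support.card = 8) : alternatingGroup (Fin 11) ≤ K := by
  obtain ⟨σ, hσ⟩ := invol_conj (t := (swap (0 : Fin 11) 1 * swap (2 : Fin 11) 3 * swap (4 : Fin 11) 5 * swap (6 : Fin 11) 7 : Perm (Fin 11))) hg2
    (by decide +kernel) (by rw [hg4]; decide +kernel) (by decide +kernel)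
  have h1 : (swap (0 : Fin 11) 1 * swap (2 : Fin 11) 3 * swap (4 : Fin 11) 5 * swap (6 : Fin 11) 7 : Perm (Fin 11)) ∈ cj σ K := by rw [mem_cj, hσ]; exact hg
  obtain ⟨i, j, hij, h2⟩ := (hK.conj σ) _ h1 (by decide +kernel)
    (fun i => ![1, swap (0 : Fin 11) 1 * swap (2 : Fin 11) 3, swap (0 : Fin 11) 1 * swap (4 : Fin 11) 5, swap (0 : Fin 11) 1 * swap (6 : Fin 11) 7, swap (0 : Fin 11) 1 * swap (8 : Fin 11) 9] i)
    (by decide +kernel) (by decide +kernel)
  have h3 : ∀ i j : Fin 5, i < j →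
      ((![1, swap (0 : Fin 11) 1 * swap (2 : Fin 11) 3, swap (0 : Fin 11) 1 * swap (4 : Fin 11) 5, swap (0 : Fin 11) 1 * swap (6 : Fin 11) 7, swap (0 : Fin 11) 1 * swap (8 : Fin 11) 9] : Fin 5 → Perm (Fin 11)) i)⁻¹ *
      (![1, swap (0 : Fin 11) 1 * swap (2 : Fin 11) 3, swap (0 : Fin 11) 1 * swap (4 : Fin 11) 5, swap (0 : Fin 11) 1 * swap (6 : Fin 11) 7, swap (0 : Fin 11) 1 * swap (8 : Fin 11) 9] : Fin 5 → Perm (Fin 11)) j *
      (((![1, swap (0 : Fin 11) 1 * swap (2 : Fin 11) 3, swap (0 : Fin 11) 1 * swap (4 : Fin 11) 5, swap (0 : Fin 11) 1 * swap (6 : Fin 11) 7, swap (0 : Fin 11) 1 * swap (8 : Fin 11) 9] : Fin 5 → Perm (Fin 11)) i)⁻¹ *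
      (![1, swap (0 : Fin 11) 1 * swap (2 : Fin 11) 3, swap (0 : Fin 11) 1 * swap (4 : Fin 11) 5, swap (0 : Fin 11) 1 * swap (6 : Fin 11) 7, swap (0 : Fin 11) 1 * swap (8 : Fin 11) 9] : Fin 5 → Perm (Fin 11)) j) = 1 ∧
      (((![1, swap (0 : Fin 11) 1 * swap (2 : Fin 11) 3, swap (0 : Fin 11) 1 * swap (4 : Fin 11) 5, swap (0 : Fin 11) 1 * swap (6 : Fin 11) 7, swap (0 : Fin 11) 1 * swap (8 : Fin 11) 9] : Fin 5 → Perm (Fin 11)) i)⁻¹ *
      (![1, swap (0 : Fin 11) 1 * swap (2 : Fin 11) 3, swap (0 : Fin 11) 1 * swap (4 : Fin 11) 5, swap (0 : Fin 11) 1 * swap (6 : Fin 11) 7, swap (0 : Fin 11) 1 * swap (8 : Fin 11) 9] : Fin 5 → Perm (Fin 11)) j).support.card = 4 := by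
    decide +kernel
  obtain ⟨h4, h5⟩ := h3 i j hij
  rw [mem_cj] at h2
  refine two_two hK h2 ?_ ?_
  · have : ∀ u : Perm (Fin 11), u * u = 1 → σ * u * σ⁻¹ * (σ * u * σ⁻¹) = 1 := by
      intro u hu
      calc σ * u * σ⁻¹ * (σ * u * σ⁻¹) = σ * (u * u) * σ⁻¹ := by group
        _ = 1 := by rw [hu]; group
    exact this _ h4
  · rw [Perm.card_support_conj]; exact h5

end N11

end Cfsg.Agent.H546.Fx
end

-- part: H546/Fx/AltMain
section
/-!
# Fixity 4 for alternating groups: an involution with exactly four fixed cosets (for S3002)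
-/

set_option autoImplicit false
set_option maxRecDepth 10000

namespace Cfsg.Agent.H546.Fx
open Equiv Cfsg.Agent.H254.Ev

section aut

variable {G : Type*} [Group G] {H : Subgroup G} {k : ℕ}

theorem ncard_comap (e : G ≃* G) (g : G) :
    (MulAction.fixedBy (G ⧸ H.comap e.toMonoidHom) g).ncard = (MulAction.fixedBy (G ⧸ H) (e g)).ncard := by
  have hmk : ∀ a b : G, ((a : G ⧸ H.comap e.toMonoidHom) = (b : G ⧸ H.comap e.toMonoidHom)) ↔
      ((e a : G ⧸ H) = (e b : G ⧸ H)) := by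
    intro a b
    rw [QuotientGroup.eq, QuotientGroup.eq, Subgroup.mem_comap]
    change e (a⁻¹ * b) ∈ H ↔ _
    rw [map_mul, map_inv]
  let φ : G ⧸ H.comap e.toMonoidHom → G ⧸ H := Quotient.lift (fun a => (e a : G ⧸ H)) (by
    intro a b hab
    exact (hmk a b).1 (Quotient.sound hab))
  have hφ : ∀ a : G, φ (a : G ⧸ H.comap e.toMonoidHom) = (e a : G ⧸ H) := fun a => rfl
  have hinj : Function.Injective φ := by
    intro x y hxy
    obtain ⟨a, rfl⟩ := QuotientGroup.mk_surjective x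
    obtain ⟨b, rfl⟩ := QuotientGroup.mk_surjective y
    exact (hmk a b).2 hxy
  have himg : φ '' (MulAction.fixedBy (G ⧸ H.comap e.toMonoidHom) g) = MulAction.fixedBy (G ⧸ H) (e g) := by
    ext x
    obtain ⟨b, rfl⟩ := QuotientGroup.mk_surjective x
    obtain ⟨a, rfl⟩ := e.surjective b
    constructor
    · rintro ⟨y, hy, hyx⟩
      obtain ⟨c, rfl⟩ := QuotientGroup.mk_surjective y
      rw [← hyx, hφ, mk_mem_fixedBy]
      rw [mk_mem_fixedBy, Subgroup.mem_comap] at hy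
      have : e (c⁻¹ * g * c) ∈ H := hy
      rwa [map_mul, map_mul, map_inv] at this
    · intro hx
      refine ⟨(a : G ⧸ H.comap e.toMonoidHom), ?_, rfl⟩
      rw [mk_mem_fixedBy, Subgroup.mem_comap]
      rw [mk_mem_fixedBy] at hx
      change e (a⁻¹ * g * a) ∈ H
      rwa [map_mul, map_mul, map_inv]
  rw [← himg, Set.ncard_image_of_injective _ hinj]

theorem fixLE_comap (h : FixLE k H) (e : G ≃* G) : FixLE k (H.comap e.toMonoidHom) := by
  intro g hg
  rw [ncard_comap]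
  exact h _ (fun h1 => hg (by rw [← map_one e] at h1; exact e.injective h1))

theorem mem_normalizer_closure [Finite G] {S : Set G} {z : G} (h : ∀ s ∈ S, z * s * z⁻¹ ∈ Subgroup.closure S) :
    z ∈ Subgroup.normalizer (Subgroup.closure S : Set G) := by
  have h1 : (Subgroup.closure S).map (MulAut.conj z).toMonoidHom ≤ Subgroup.closure S := by
    rw [Subgroup.map_le_iff_le_comap, Subgroup.closure_le]
    intro s hs
    exact h s hs
  have h2 : (Subgroup.closure S).map (MulAut.conj z).toMonoidHom = Subgroup.closure S := by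
    apply Subgroup.eq_of_le_of_card_ge h1
    have h3 : Function.Injective (MulAut.conj z).toMonoidHom := (MulAut.conj z).injective
    rw [← Nat.card_congr ((Subgroup.closure S).equivMapOfInjective _ h3).toEquiv]
  rw [Subgroup.mem_normalizer_iff]
  intro g
  constructor
  · intro hg
    exact h1 ⟨g, hg, rfl⟩
  · intro hg
    have hg2 : z * g * z⁻¹ ∈ (Subgroup.closure S).map (MulAut.conj z).toMonoidHom := by rw [h2]; exact hg
    obtain ⟨g', hg', he⟩ := hg2
    have : g' = g := by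
      have h3 : z * g' * z⁻¹ = z * g * z⁻¹ := he
      exact mul_left_cancel (mul_right_cancel h3)
    rwa [← this]

end aut

set_option synthInstance.maxSize 1000 in
set_option synthInstance.maxHeartbeats 400000 in
theorem s4 : ∀ α β : Perm (Fin 4), α * α = 1 → β * β = 1 → α * β = β * α → α ≠ 1 → β ≠ 1 → α ≠ β →
    (∃ γ, γ * α = β * γ ∧ γ * β = α * β * γ) → ∀ ν, ν * α = α * ν → ν * β = β * ν →
    ν = 1 ∨ ν = α ∨ ν = β ∨ ν = α * β := by
  (refine of_decide_eq_true ?_; (try (rewrite [Cfsg.Agent.LsF.finFintype_eq, Cfsg.Agent.LsF.dForall_eq, Cfsg.Agent.LsF.dExists_eq, Cfsg.Agent.LsF.dAnd_eq, Cfsg.Agent.LsF.dOr_eq, Cfsg.Agent.LsF.dNot_eq, Cfsg.Agent.LsF.dImp_eq, Cfsg.Agent.LsF.dFinEq_eq, Cfsg.Agent.LsF.dAllP_eq, Cfsg.Agent.LsF.decide_eq])); decide +kernel)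

/-! ### Degree 8, type 2^2 -/

namespace N8

/-- abbreviations for degree 8 -/
def t0 : Perm (Fin 8) := swap (0 : Fin 8) 1 * swap (2 : Fin 8) 3

theorem v4_a {K : Subgroup (Perm (Fin 8))} (hK : PG K) (h3 : ∀ g ∈ K, g.support.card ≠ 3) (ht : t0 ∈ K) :
    swap (4 : Fin 8) 5 * swap (6 : Fin 8) 7 ∈ K := by
  obtain ⟨i, j, hij, hq⟩ := hK t0 ht (by decide +kernel)
    ![1, swap (4 : Fin 8) 5 * swap (6 : Fin 8) 7, List.formPerm [(4 : Fin 8), 5, 6], List.formPerm [(4 : Fin 8), 5, 6] * (swap (4 : Fin 8) 5 * swap (6 : Fin 8) 7), List.formPerm [(4 : Fin 8), 6, 5]]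
    (by decide +kernel) (by decide +kernel)
  have key : ∀ i j : Fin 5, i < j →
      ((![1, swap (4 : Fin 8) 5 * swap (6 : Fin 8) 7, List.formPerm [(4 : Fin 8), 5, 6], List.formPerm [(4 : Fin 8), 5, 6] * (swap (4 : Fin 8) 5 * swap (6 : Fin 8) 7), List.formPerm [(4 : Fin 8), 6, 5]] : Fin 5 → Perm (Fin 8)) i)⁻¹ *
        (![1, swap (4 : Fin 8) 5 * swap (6 : Fin 8) 7, List.formPerm [(4 : Fin 8), 5, 6], List.formPerm [(4 : Fin 8), 5, 6] * (swap (4 : Fin 8) 5 * swap (6 : Fin 8) 7), List.formPerm [(4 : Fin 8), 6, 5]] : Fin 5 → Perm (Fin 8)) j = swap (4 : Fin 8) 5 * swap (6 : Fin 8) 7 ∨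
      (((![1, swap (4 : Fin 8) 5 * swap (6 : Fin 8) 7, List.formPerm [(4 : Fin 8), 5, 6], List.formPerm [(4 : Fin 8), 5, 6] * (swap (4 : Fin 8) 5 * swap (6 : Fin 8) 7), List.formPerm [(4 : Fin 8), 6, 5]] : Fin 5 → Perm (Fin 8)) i)⁻¹ *
        (![1, swap (4 : Fin 8) 5 * swap (6 : Fin 8) 7, List.formPerm [(4 : Fin 8), 5, 6], List.formPerm [(4 : Fin 8), 5, 6] * (swap (4 : Fin 8) 5 * swap (6 : Fin 8) 7), List.formPerm [(4 : Fin 8), 6, 5]] : Fin 5 → Perm (Fin 8)) j).support.card = 3 := by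
    decide +kernel
  rcases key i j hij with h1 | h1
  · rwa [h1] at hq
  · exact absurd h1 (h3 _ hq)

theorem v4_b {K : Subgroup (Perm (Fin 8))} (hK : PG K) (h3 : ∀ g ∈ K, g.support.card ≠ 3) (ht : t0 ∈ K) :
    swap (4 : Fin 8) 6 * swap (5 : Fin 8) 7 ∈ K := by
  obtain ⟨i, j, hij, hq⟩ := hK t0 ht (by decide +kernel)
    ![1, swap (4 : Fin 8) 6 * swap (5 : Fin 8) 7, List.formPerm [(4 : Fin 8), 5, 6], List.formPerm [(4 : Fin 8), 5, 6] * (swap (4 : Fin 8) 6 * swap (5 : Fin 8) 7), List.formPerm [(4 : Fin 8), 6, 5]]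
    (by decide +kernel) (by decide +kernel)
  have key : ∀ i j : Fin 5, i < j →
      ((![1, swap (4 : Fin 8) 6 * swap (5 : Fin 8) 7, List.formPerm [(4 : Fin 8), 5, 6], List.formPerm [(4 : Fin 8), 5, 6] * (swap (4 : Fin 8) 6 * swap (5 : Fin 8) 7), List.formPerm [(4 : Fin 8), 6, 5]] : Fin 5 → Perm (Fin 8)) i)⁻¹ *
        (![1, swap (4 : Fin 8) 6 * swap (5 : Fin 8) 7, List.formPerm [(4 : Fin 8), 5, 6], List.formPerm [(4 : Fin 8), 5, 6] * (swap (4 : Fin 8) 6 * swap (5 : Fin 8) 7), List.formPerm [(4 : Fin 8), 6, 5]] : Fin 5 → Perm (Fin 8)) j = swap (4 : Fin 8) 6 * swap (5 : Fin 8) 7 ∨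
      (((![1, swap (4 : Fin 8) 6 * swap (5 : Fin 8) 7, List.formPerm [(4 : Fin 8), 5, 6], List.formPerm [(4 : Fin 8), 5, 6] * (swap (4 : Fin 8) 6 * swap (5 : Fin 8) 7), List.formPerm [(4 : Fin 8), 6, 5]] : Fin 5 → Perm (Fin 8)) i)⁻¹ *
        (![1, swap (4 : Fin 8) 6 * swap (5 : Fin 8) 7, List.formPerm [(4 : Fin 8), 5, 6], List.formPerm [(4 : Fin 8), 5, 6] * (swap (4 : Fin 8) 6 * swap (5 : Fin 8) 7), List.formPerm [(4 : Fin 8), 6, 5]] : Fin 5 → Perm (Fin 8)) j).support.card = 3 := by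
    decide +kernel
  rcases key i j hij with h1 | h1
  · rwa [h1] at hq
  · exact absurd h1 (h3 _ hq)

def cG : Fin 5 → Perm (Fin 8) :=
  ![1, List.formPerm [(4 : Fin 8), 5, 6], List.formPerm [(4 : Fin 8), 6, 5], swap (0 : Fin 8) 1 * swap (4 : Fin 8) 5, swap (0 : Fin 8) 1 * swap (4 : Fin 8) 6]

theorem exists_odd {K : Subgroup (Perm (Fin 8))} (hK : PG K) (h3 : ∀ g ∈ K, g.support.card ≠ 3) (ht : t0 ∈ K) :
    swap (0 : Fin 8) 1 * swap (4 : Fin 8) 5 ∈ K ∨ swap (0 : Fin 8) 1 * swap (4 : Fin 8) 6 ∈ K ∨ swap (0 : Fin 8) 1 * swap (5 : Fin 8) 6 ∈ K := by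
  obtain ⟨i, j, hij, hq⟩ := hK t0 ht (by decide +kernel) cG (by decide +kernel) (by decide +kernel)
  have key : ∀ i j : Fin 5, i < j → (cG i)⁻¹ * cG j = swap (0 : Fin 8) 1 * swap (4 : Fin 8) 5 ∨ (cG i)⁻¹ * cG j = swap (0 : Fin 8) 1 * swap (4 : Fin 8) 6 ∨
      (cG i)⁻¹ * cG j = swap (0 : Fin 8) 1 * swap (5 : Fin 8) 6 ∨ ((cG i)⁻¹ * cG j).support.card = 3 := by
    decide +kernel
  rcases key i j hij with h1 | h1 | h1 | h1
  · left; rwa [← h1]
  · right; left; rwa [← h1]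
  · right; right; rwa [← h1]
  · exact absurd h1 (h3 _ hq)

def cF : Fin 5 → Perm (Fin 8) := ![1, swap (0 : Fin 8) 1 * swap (4 : Fin 8) 6, swap (2 : Fin 8) 4 * swap (4 : Fin 8) 5 * (swap (3 : Fin 8) 6 * swap (6 : Fin 8) 7),
  swap (2 : Fin 8) 4 * swap (4 : Fin 8) 5 * (swap (3 : Fin 8) 6 * swap (6 : Fin 8) 7) * (swap (0 : Fin 8) 1 * swap (4 : Fin 8) 6),
  swap (2 : Fin 8) 4 * swap (4 : Fin 8) 5 * (swap (3 : Fin 8) 6 * swap (6 : Fin 8) 7) * (swap (2 : Fin 8) 4 * swap (4 : Fin 8) 5 * (swap (3 : Fin 8) 6 * swap (6 : Fin 8) 7))]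

def uF : Fin 4 → Perm (Fin 8) := ![swap (0 : Fin 8) 1 * swap (4 : Fin 8) 5, t0 * (swap (0 : Fin 8) 1 * swap (4 : Fin 8) 5),
  swap (0 : Fin 8) 1 * swap (4 : Fin 8) 5 * (swap (4 : Fin 8) 5 * swap (6 : Fin 8) 7), t0 * (swap (0 : Fin 8) 1 * swap (4 : Fin 8) 5) * (swap (4 : Fin 8) 5 * swap (6 : Fin 8) 7)]

theorem keyF : ∀ i j : Fin 5, i < j → ∃ l : Fin 4, ((cF i)⁻¹ * cF j * uF l).support.card = 3 ∨
    ((cF i)⁻¹ * cF j * t0 * ((cF i)⁻¹ * cF j)⁻¹ * uF l).support.card = 3 ∨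
    (((cF i)⁻¹ * cF j)⁻¹ * t0 * ((cF i)⁻¹ * cF j) * uF l).support.card = 3 := by
  decide +kernel

/-- the final contradiction -/
theorem final {K : Subgroup (Perm (Fin 8))} (hK : PG K) (h3 : ∀ g ∈ K, g.support.card ≠ 3) (ht : t0 ∈ K)
    (hu : swap (0 : Fin 8) 1 * swap (4 : Fin 8) 5 ∈ K) : False := by
  have h1 : swap (4 : Fin 8) 5 * swap (6 : Fin 8) 7 ∈ K := v4_a hK h3 ht
  have h2 : swap (4 : Fin 8) 6 * swap (5 : Fin 8) 7 ∈ K := v4_b hK h3 ht
  have hU : ∀ l : Fin 4, uF l ∈ K := by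
    intro l
    fin_cases l
    · exact hu
    · exact K.mul_mem ht hu
    · exact K.mul_mem hu h1
    · exact K.mul_mem (K.mul_mem ht hu) h1
  obtain ⟨i, j, hij, hq⟩ := hK (t0 * (swap (4 : Fin 8) 6 * swap (5 : Fin 8) 7)) (K.mul_mem ht h2) (by decide +kernel)
    cF (by decide +kernel) (by decide +kernel)
  obtain ⟨l, h4⟩ := keyF i j hij
  have hu2 := hU l
  rcases h4 with h4 | h4 | h4
  · exact h3 _ (K.mul_mem hq hu2) h4
  · exact h3 _ (K.mul_mem (K.mul_mem (K.mul_mem hq ht) (K.inv_mem hq)) hu2) h4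
  · exact h3 _ (K.mul_mem (K.mul_mem (K.mul_mem (K.inv_mem hq) ht) hq) hu2) h4

theorem cj_three {K : Subgroup (Perm (Fin 8))} (h3 : ∀ g ∈ K, g.support.card ≠ 3) (σ : Perm (Fin 8)) :
    ∀ g ∈ cj σ K, g.support.card ≠ 3 := by
  intro g hg h
  rw [mem_cj] at hg
  exact h3 _ hg (by rw [Perm.card_support_conj]; exact h)

theorem std {K : Subgroup (Perm (Fin 8))} (hK : PG K) (h3 : ∀ g ∈ K, g.support.card ≠ 3) (ht : t0 ∈ K) : False := by
  rcases exists_odd hK h3 ht with h | h | h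
  · exact final hK h3 ht h
  · refine final (hK.conj (swap (5 : Fin 8) 6)) (cj_three h3 _) ?_ ?_
    · rw [mem_cj]
      have : swap (5 : Fin 8) 6 * t0 * (swap (5 : Fin 8) 6)⁻¹ = t0 := by decide +kernel
      rw [this]; exact ht
    · rw [mem_cj]
      have : swap (5 : Fin 8) 6 * (swap (0 : Fin 8) 1 * swap (4 : Fin 8) 5) * (swap (5 : Fin 8) 6)⁻¹ = (swap (0 : Fin 8) 1 * swap (4 : Fin 8) 6 : Perm (Fin 8)) := by decide +kernel
      rw [this]; exact h
  · refine final (hK.conj (swap (4 : Fin 8) 6)) (cj_three h3 _) ?_ ?_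
    · rw [mem_cj]
      have : swap (4 : Fin 8) 6 * t0 * (swap (4 : Fin 8) 6)⁻¹ = t0 := by decide +kernel
      rw [this]; exact ht
    · rw [mem_cj]
      have : swap (4 : Fin 8) 6 * (swap (0 : Fin 8) 1 * swap (4 : Fin 8) 5) * (swap (4 : Fin 8) 6)⁻¹ = (swap (0 : Fin 8) 1 * swap (5 : Fin 8) 6 : Perm (Fin 8)) := by decide +kernel
      rw [this]; exact h

theorem two_two {K : Subgroup (Perm (Fin 8))} (hK : PG K) {g : Perm (Fin 8)} (hg : g ∈ K) (hg2 : g * g = 1)
    (hg4 : g.support.card = 4) : alternatingGroup (Fin 8) ≤ K := by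
  by_contra hcon
  have h3 : ∀ g ∈ K, g.support.card ≠ 3 := fun g hg h => hcon (alt_le hK hg h)
  obtain ⟨σ, hσ⟩ := invol_conj (t := t0) hg2 (by decide +kernel)
    (by rw [hg4]; decide +kernel) (by decide +kernel)
  exact std (hK.conj σ) (cj_three h3 σ) (by rw [mem_cj, hσ]; exact hg)

end N8

/-! ### Degree 8, type 2^4 -/

namespace N8

/-- the standard involution of type `2^4` -/
def t4 : Perm (Fin 8) := swap (0 : Fin 8) 1 * swap (2 : Fin 8) 3 * (swap (4 : Fin 8) 5 * swap (6 : Fin 8) 7)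

theorem four_std {H : Subgroup (alternatingGroup (Fin 8))} (hH : FixLE 4 H)
    (h22 : ∀ g ∈ H, (g : Perm (Fin 8)) * g = 1 → (g : Perm (Fin 8)).support.card ≠ 4) {t : alternatingGroup (Fin 8)}
    (htv : (t : Perm (Fin 8)) = t4) (htH : t ∈ H)
    (hfix : (MulAction.fixedBy (_ ⧸ H) t).ncard = 4) : False := by
  have ht1 : t ≠ 1 := by
    intro h1
    rw [h1] at htv
    exact absurd htv (by decide +kernel : ((1 : alternatingGroup (Fin 8)) : Perm (Fin 8)) ≠ t4)
  obtain ⟨D, hD, htD⟩ := hH.exists_ti (by norm_num) le_rfl htH ht1 hfix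
  obtain ⟨f, hf⟩ := hD.hom
  -- elements commuting with `t`
  have hN : ∀ g : alternatingGroup (Fin 8), (g : Perm (Fin 8)) * t4 = t4 * (g : Perm (Fin 8)) → g ∈ Subgroup.normalizer (D : Set (alternatingGroup (Fin 8))) := by
    intro g hg
    refine hD.cent htD ht1 (Subtype.ext ?_)
    change (g : Perm (Fin 8)) * t = t * g
    rw [htv]; exact hg
  let mk : (g : Perm (Fin 8)) → Perm.sign g = 1 → alternatingGroup (Fin 8) := fun g hg => ⟨g, Perm.mem_alternatingGroup.2 hg⟩
  let a := mk (swap (0 : Fin 8) 1 * swap (2 : Fin 8) 3) (by decide +kernel)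
  let b := mk (swap (0 : Fin 8) 1 * swap (4 : Fin 8) 5) (by decide +kernel)
  let y := mk (swap (2 : Fin 8) 4 * swap (4 : Fin 8) 6 * (swap (3 : Fin 8) 5 * swap (5 : Fin 8) 7)) (by decide +kernel)
  let v := mk (swap (0 : Fin 8) 2 * swap (1 : Fin 8) 3 * (swap (4 : Fin 8) 6 * swap (5 : Fin 8) 7)) (by decide +kernel)
  let r := mk (swap (0 : Fin 8) 2 * swap (1 : Fin 8) 3) (by decide +kernel)
  have haN := hN a (by decide +kernel)
  have hbN := hN b (by decide +kernel)
  have hyN := hN y (by decide +kernel)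
  have hvN := hN v (by decide +kernel)
  have hrN := hN r (by decide +kernel)
  have htN := hN t (by rw [htv])
  have hft : f ⟨t, htN⟩ = 1 := (hf _).2 htD
  have bad : ∀ g : alternatingGroup (Fin 8), (hg : g ∈ Subgroup.normalizer (D : Set (alternatingGroup (Fin 8)))) →
      (g : Perm (Fin 8)) * g = 1 → (g : Perm (Fin 8)).support.card = 4 → f ⟨g, hg⟩ ≠ 1 := by
    intro g hg h1 h2 h3
    exact h22 g (hD.le ((hf _).1 h3)) h1 h2
  have mulf : ∀ g h k : alternatingGroup (Fin 8), (hg : g ∈ Subgroup.normalizer (D : Set (alternatingGroup (Fin 8)))) →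
      (hh : h ∈ Subgroup.normalizer (D : Set (alternatingGroup (Fin 8)))) →
      (hk : k ∈ Subgroup.normalizer (D : Set (alternatingGroup (Fin 8)))) → (g : Perm (Fin 8)) * h = k →
      f ⟨g, hg⟩ * f ⟨h, hh⟩ = f ⟨k, hk⟩ := by
    intro g h k hg hh hk he
    rw [← map_mul]
    congr 1
    exact Subtype.ext (Subtype.ext he)
  have onef : ∀ g : alternatingGroup (Fin 8), (hg : g ∈ Subgroup.normalizer (D : Set (alternatingGroup (Fin 8)))) →
      (g : Perm (Fin 8)) = 1 → f ⟨g, hg⟩ = 1 := by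
    intro g hg he
    have : (⟨g, hg⟩ : ↥(Subgroup.normalizer (D : Set (alternatingGroup (Fin 8))))) = 1 := Subtype.ext (Subtype.ext he)
    rw [this, map_one]
  have mm : ∀ {g h : alternatingGroup (Fin 8)}, g ∈ Subgroup.normalizer (D : Set (alternatingGroup (Fin 8))) →
      h ∈ Subgroup.normalizer (D : Set (alternatingGroup (Fin 8))) →
      g * h ∈ Subgroup.normalizer (D : Set (alternatingGroup (Fin 8))) := fun h1 h2 => mul_mem h1 h2
  -- the relations
  have f_mul : ∀ g h : alternatingGroup (Fin 8), (hg : g ∈ Subgroup.normalizer (D : Set (alternatingGroup (Fin 8)))) →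
      (hh : h ∈ Subgroup.normalizer (D : Set (alternatingGroup (Fin 8)))) →
      f ⟨g * h, mm hg hh⟩ = f ⟨g, hg⟩ * f ⟨h, hh⟩ := fun g h hg hh => (mulf g h _ hg hh _ rfl).symm
  have rel : ∀ g h : alternatingGroup (Fin 8), (hg : g ∈ Subgroup.normalizer (D : Set (alternatingGroup (Fin 8)))) →
      (hh : h ∈ Subgroup.normalizer (D : Set (alternatingGroup (Fin 8)))) → (g : Perm (Fin 8)) = h → f ⟨g, hg⟩ = f ⟨h, hh⟩ := by
    intro g h hg hh he
    congr 1
    exact Subtype.ext (Subtype.ext he)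
  have e1 : f ⟨a, haN⟩ * f ⟨a, haN⟩ = 1 := by
    rw [← f_mul]; exact onef _ _ (by decide +kernel)
  have e2 : f ⟨b, hbN⟩ * f ⟨b, hbN⟩ = 1 := by
    rw [← f_mul]; exact onef _ _ (by decide +kernel)
  have e3 : f ⟨a, haN⟩ * f ⟨b, hbN⟩ = f ⟨b, hbN⟩ * f ⟨a, haN⟩ := by
    rw [← f_mul, ← f_mul]; exact rel _ _ _ _ (by decide +kernel)
  have e4 : f ⟨a, haN⟩ ≠ 1 := bad _ _ (by decide +kernel) (by decide +kernel)
  have e5 : f ⟨b, hbN⟩ ≠ 1 := bad _ _ (by decide +kernel) (by decide +kernel)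
  have e6 : f ⟨a, haN⟩ ≠ f ⟨b, hbN⟩ := by
    intro h
    have h1 : f ⟨a * b, mm haN hbN⟩ = 1 := by rw [f_mul a b haN hbN, ← h, e1]
    exact bad _ _ (by decide +kernel) (by decide +kernel) h1
  have e7 : f ⟨y, hyN⟩ * f ⟨a, haN⟩ = f ⟨b, hbN⟩ * f ⟨y, hyN⟩ := by
    rw [← f_mul, ← f_mul]; exact rel _ _ _ _ (by decide +kernel)
  have e8 : f ⟨y, hyN⟩ * f ⟨b, hbN⟩ = f ⟨a, haN⟩ * f ⟨b, hbN⟩ * f ⟨y, hyN⟩ := by
    have h1 : f ⟨y, hyN⟩ * f ⟨b, hbN⟩ * f ⟨t, htN⟩ = f ⟨a, haN⟩ * f ⟨b, hbN⟩ * f ⟨y, hyN⟩ := by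
      rw [← f_mul, ← f_mul, ← f_mul, ← f_mul]
      refine rel _ _ _ _ ?_
      change (y : Perm (Fin 8)) * b * t = a * b * y
      rw [htv]; decide +kernel
    rwa [hft, mul_one] at h1
  have e9 : f ⟨v, hvN⟩ * f ⟨a, haN⟩ = f ⟨a, haN⟩ * f ⟨v, hvN⟩ := by
    rw [← f_mul, ← f_mul]; exact rel _ _ _ _ (by decide +kernel)
  have e10 : f ⟨v, hvN⟩ * f ⟨b, hbN⟩ = f ⟨b, hbN⟩ * f ⟨v, hvN⟩ := by
    have h1 : f ⟨v, hvN⟩ * f ⟨b, hbN⟩ * f ⟨t, htN⟩ = f ⟨b, hbN⟩ * f ⟨v, hvN⟩ := by
      rw [← f_mul, ← f_mul, ← f_mul]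
      refine rel _ _ _ _ ?_
      change (v : Perm (Fin 8)) * b * t = b * v
      rw [htv]; decide +kernel
    rwa [hft, mul_one] at h1
  have e11 : f ⟨r, hrN⟩ * f ⟨v, hvN⟩ = f ⟨v, hvN⟩ * f ⟨r, hrN⟩ := by
    rw [← f_mul, ← f_mul]; exact rel _ _ _ _ (by decide +kernel)
  have e12 : f ⟨r, hrN⟩ * f ⟨b, hbN⟩ = f ⟨a, haN⟩ * f ⟨b, hbN⟩ * f ⟨r, hrN⟩ := by
    rw [← f_mul, ← f_mul, ← f_mul]; exact rel _ _ _ _ (by decide +kernel)
  have e13 : f ⟨r, hrN⟩ * f ⟨a, haN⟩ = f ⟨a, haN⟩ * f ⟨r, hrN⟩ := by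
    rw [← f_mul, ← f_mul]; exact rel _ _ _ _ (by decide +kernel)
  have hvD : v ∈ D ∨ v * a ∈ D := by
    rcases s4 _ _ e1 e2 e3 e4 e5 e6 ⟨_, e7, e8⟩ _ e9 e10 with h1 | h1 | h1 | h1
    · left; exact (hf _).1 h1
    · right
      refine (hf ⟨v * a, mm hvN haN⟩).1 ?_
      rw [f_mul v a hvN haN, h1, e1]
    · exfalso
      rw [h1, e12] at e11
      apply e4
      have h2 : f ⟨a, haN⟩ * (f ⟨b, hbN⟩ * f ⟨r, hrN⟩) = 1 * (f ⟨b, hbN⟩ * f ⟨r, hrN⟩) := by
        rw [one_mul, ← mul_assoc]; exact e11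
      exact mul_right_cancel h2
    · exfalso
      rw [h1, ← mul_assoc, e13, mul_assoc, e12, mul_assoc] at e11
      apply e4
      have h2 : f ⟨a, haN⟩ * (f ⟨a, haN⟩ * (f ⟨b, hbN⟩ * f ⟨r, hrN⟩)) =
          1 * (f ⟨a, haN⟩ * (f ⟨b, hbN⟩ * f ⟨r, hrN⟩)) := by
        rw [one_mul]
        exact e11
      exact mul_right_cancel h2
  -- conclusion from a regular elementary abelian subgroup of order 8 in `D`
  have concl : ∀ v1 w1 z1 z2 : alternatingGroup (Fin 8), v1 ∈ D → w1 = y * v1 * y⁻¹ → z1 ^ 7 = 1 → z1 ≠ 1 → z2 ^ 7 = 1 →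
      z2 ≠ 1 → z1 * t * z1⁻¹ = v1 → z1 * v1 * z1⁻¹ = w1 → z1 * w1 * z1⁻¹ = t * v1 →
      z2 * t * z2⁻¹ = v1 → z2 * v1 * z2⁻¹ = v1 * w1 → z2 * w1 * z2⁻¹ = t * w1 →
      ((z1 * z2 : alternatingGroup (Fin 8)) : Perm (Fin 8)) * (z1 * z2 : alternatingGroup (Fin 8)) = 1 →
      ((z1 * z2 : alternatingGroup (Fin 8)) : Perm (Fin 8)).support.card = 4 → False := by
    intro v1 w1 z1 z2 hv1 hw1 hz1 hz1' hz2 hz2' r1 r2 r3 r4 r5 r6 c1 c2
    have hw1D : w1 ∈ D := by
      have h1 := (Subgroup.mem_normalizer_iff.1 hyN v1).1 hv1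
      rw [hw1]; exact h1
    let S : Set (alternatingGroup (Fin 8)) := {t, v1, w1}
    have htS : t ∈ Subgroup.closure S := Subgroup.subset_closure (by simp [S])
    have hvS : v1 ∈ Subgroup.closure S := Subgroup.subset_closure (by simp [S])
    have hwS : w1 ∈ Subgroup.closure S := Subgroup.subset_closure (by simp [S])
    have hSD : Subgroup.closure S ≤ D := by
      rw [Subgroup.closure_le]
      rintro x (rfl | rfl | rfl)
      · exact htD
      · exact hv1
      · exact hw1D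
    have hS1 : Subgroup.closure S ≠ ⊥ := by
      intro h1
      rw [h1, Subgroup.mem_bot] at htS
      exact ht1 htS
    have hz1N : z1 ∈ Subgroup.normalizer (Subgroup.closure S : Set (alternatingGroup (Fin 8))) := by
      apply mem_normalizer_closure
      rintro x (rfl | rfl | rfl)
      · rw [r1]; exact hvS
      · rw [r2]; exact hwS
      · rw [r3]; exact mul_mem htS hvS
    have hz2N : z2 ∈ Subgroup.normalizer (Subgroup.closure S : Set (alternatingGroup (Fin 8))) := by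
      apply mem_normalizer_closure
      rintro x (rfl | rfl | rfl)
      · rw [r4]; exact hvS
      · rw [r5]; exact mul_mem hvS hwS
      · rw [r6]; exact mul_mem htS hwS
    have hz1D : z1 ∈ D := hD.mem_of_prime (hD.norm _ hSD hS1 hz1N) (r := 7) (by norm_num) (by norm_num)
      (by have : Fact (Nat.Prime 7) := ⟨by norm_num⟩; exact orderOf_eq_prime hz1 hz1')
    have hz2D : z2 ∈ D := hD.mem_of_prime (hD.norm _ hSD hS1 hz2N) (r := 7) (by norm_num) (by norm_num)
      (by have : Fact (Nat.Prime 7) := ⟨by norm_num⟩; exact orderOf_eq_prime hz2 hz2')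
    exact h22 (z1 * z2) (hD.le (mul_mem hz1D hz2D)) c1 c2
  have tq : ∀ g h : alternatingGroup (Fin 8),
      (g : Perm (Fin 8)) * t4 * (g : Perm (Fin 8))⁻¹ = h → g * t * g⁻¹ = h := by
    intro g h hg
    apply Subtype.ext
    change (g : Perm (Fin 8)) * t * (g : Perm (Fin 8))⁻¹ = h
    rw [htv]; exact hg
  have tq2 : ∀ g h : alternatingGroup (Fin 8),
      (g : Perm (Fin 8)) = t4 * (h : Perm (Fin 8)) → g = t * h := by
    intro g h hg
    apply Subtype.ext
    change (g : Perm (Fin 8)) = t * h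
    rw [htv]; exact hg
  rcases hvD with h1 | h1
  · exact concl v (y * v * y⁻¹) (mk (List.formPerm [(1 : Fin 8), 2, 4, 3, 6, 7, 5]) (by decide +kernel))
      (mk (List.formPerm [(1 : Fin 8), 2, 6, 3, 4, 5, 7]) (by decide +kernel)) h1 rfl (by decide +kernel) (by decide +kernel)
      (by decide +kernel) (by decide +kernel) (tq _ _ (by decide +kernel)) (by decide +kernel) (tq2 _ _ (by decide +kernel))
      (tq _ _ (by decide +kernel)) (by decide +kernel) (tq2 _ _ (by decide +kernel)) (by decide +kernel) (by decide +kernel)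
  · exact concl (v * a) (y * (v * a) * y⁻¹) (mk (List.formPerm [(0 : Fin 8), 2, 4, 3, 6, 7, 5]) (by decide +kernel))
      (mk (List.formPerm [(0 : Fin 8), 2, 6, 3, 4, 5, 7]) (by decide +kernel)) h1 rfl (by decide +kernel) (by decide +kernel)
      (by decide +kernel) (by decide +kernel) (tq _ _ (by decide +kernel)) (by decide +kernel) (tq2 _ _ (by decide +kernel))
      (tq _ _ (by decide +kernel)) (by decide +kernel) (tq2 _ _ (by decide +kernel)) (by decide +kernel) (by decide +kernel)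

end N8

/-! ### Degree 9, type 2^4 -/

namespace N9

/-- the standard involution of type `2^4` -/
def t4 : Perm (Fin 9) := swap (0 : Fin 9) 1 * swap (2 : Fin 9) 3 * (swap (4 : Fin 9) 5 * swap (6 : Fin 9) 7)

theorem four_std {H : Subgroup (alternatingGroup (Fin 9))} (hH : FixLE 4 H)
    (h22 : ∀ g ∈ H, (g : Perm (Fin 9)) * g = 1 → (g : Perm (Fin 9)).support.card ≠ 4) {t : alternatingGroup (Fin 9)}
    (htv : (t : Perm (Fin 9)) = t4) (htH : t ∈ H)
    (hfix : (MulAction.fixedBy (_ ⧸ H) t).ncard = 4) : False := by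
  have ht1 : t ≠ 1 := by
    intro h1
    rw [h1] at htv
    exact absurd htv (by decide +kernel : ((1 : alternatingGroup (Fin 9)) : Perm (Fin 9)) ≠ t4)
  obtain ⟨D, hD, htD⟩ := hH.exists_ti (by norm_num) le_rfl htH ht1 hfix
  obtain ⟨f, hf⟩ := hD.hom
  -- elements commuting with `t`
  have hN : ∀ g : alternatingGroup (Fin 9), (g : Perm (Fin 9)) * t4 = t4 * (g : Perm (Fin 9)) → g ∈ Subgroup.normalizer (D : Set (alternatingGroup (Fin 9))) := by
    intro g hg
    refine hD.cent htD ht1 (Subtype.ext ?_)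
    change (g : Perm (Fin 9)) * t = t * g
    rw [htv]; exact hg
  let mk : (g : Perm (Fin 9)) → Perm.sign g = 1 → alternatingGroup (Fin 9) := fun g hg => ⟨g, Perm.mem_alternatingGroup.2 hg⟩
  let a := mk (swap (0 : Fin 9) 1 * swap (2 : Fin 9) 3) (by decide +kernel)
  let b := mk (swap (0 : Fin 9) 1 * swap (4 : Fin 9) 5) (by decide +kernel)
  let y := mk (swap (2 : Fin 9) 4 * swap (4 : Fin 9) 6 * (swap (3 : Fin 9) 5 * swap (5 : Fin 9) 7)) (by decide +kernel)
  let v := mk (swap (0 : Fin 9) 2 * swap (1 : Fin 9) 3 * (swap (4 : Fin 9) 6 * swap (5 : Fin 9) 7)) (by decide +kernel)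
  let r := mk (swap (0 : Fin 9) 2 * swap (1 : Fin 9) 3) (by decide +kernel)
  have haN := hN a (by decide +kernel)
  have hbN := hN b (by decide +kernel)
  have hyN := hN y (by decide +kernel)
  have hvN := hN v (by decide +kernel)
  have hrN := hN r (by decide +kernel)
  have htN := hN t (by rw [htv])
  have hft : f ⟨t, htN⟩ = 1 := (hf _).2 htD
  have bad : ∀ g : alternatingGroup (Fin 9), (hg : g ∈ Subgroup.normalizer (D : Set (alternatingGroup (Fin 9)))) →
      (g : Perm (Fin 9)) * g = 1 → (g : Perm (Fin 9)).support.card = 4 → f ⟨g, hg⟩ ≠ 1 := by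
    intro g hg h1 h2 h3
    exact h22 g (hD.le ((hf _).1 h3)) h1 h2
  have mulf : ∀ g h k : alternatingGroup (Fin 9), (hg : g ∈ Subgroup.normalizer (D : Set (alternatingGroup (Fin 9)))) →
      (hh : h ∈ Subgroup.normalizer (D : Set (alternatingGroup (Fin 9)))) →
      (hk : k ∈ Subgroup.normalizer (D : Set (alternatingGroup (Fin 9)))) → (g : Perm (Fin 9)) * h = k →
      f ⟨g, hg⟩ * f ⟨h, hh⟩ = f ⟨k, hk⟩ := by
    intro g h k hg hh hk he
    rw [← map_mul]
    congr 1
    exact Subtype.ext (Subtype.ext he)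
  have onef : ∀ g : alternatingGroup (Fin 9), (hg : g ∈ Subgroup.normalizer (D : Set (alternatingGroup (Fin 9)))) →
      (g : Perm (Fin 9)) = 1 → f ⟨g, hg⟩ = 1 := by
    intro g hg he
    have : (⟨g, hg⟩ : ↥(Subgroup.normalizer (D : Set (alternatingGroup (Fin 9))))) = 1 := Subtype.ext (Subtype.ext he)
    rw [this, map_one]
  have mm : ∀ {g h : alternatingGroup (Fin 9)}, g ∈ Subgroup.normalizer (D : Set (alternatingGroup (Fin 9))) →
      h ∈ Subgroup.normalizer (D : Set (alternatingGroup (Fin 9))) →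
      g * h ∈ Subgroup.normalizer (D : Set (alternatingGroup (Fin 9))) := fun h1 h2 => mul_mem h1 h2
  -- the relations
  have f_mul : ∀ g h : alternatingGroup (Fin 9), (hg : g ∈ Subgroup.normalizer (D : Set (alternatingGroup (Fin 9)))) →
      (hh : h ∈ Subgroup.normalizer (D : Set (alternatingGroup (Fin 9)))) →
      f ⟨g * h, mm hg hh⟩ = f ⟨g, hg⟩ * f ⟨h, hh⟩ := fun g h hg hh => (mulf g h _ hg hh _ rfl).symm
  have rel : ∀ g h : alternatingGroup (Fin 9), (hg : g ∈ Subgroup.normalizer (D : Set (alternatingGroup (Fin 9)))) →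
      (hh : h ∈ Subgroup.normalizer (D : Set (alternatingGroup (Fin 9)))) → (g : Perm (Fin 9)) = h → f ⟨g, hg⟩ = f ⟨h, hh⟩ := by
    intro g h hg hh he
    congr 1
    exact Subtype.ext (Subtype.ext he)
  have e1 : f ⟨a, haN⟩ * f ⟨a, haN⟩ = 1 := by
    rw [← f_mul]; exact onef _ _ (by decide +kernel)
  have e2 : f ⟨b, hbN⟩ * f ⟨b, hbN⟩ = 1 := by
    rw [← f_mul]; exact onef _ _ (by decide +kernel)
  have e3 : f ⟨a, haN⟩ * f ⟨b, hbN⟩ = f ⟨b, hbN⟩ * f ⟨a, haN⟩ := by
    rw [← f_mul, ← f_mul]; exact rel _ _ _ _ (by decide +kernel)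
  have e4 : f ⟨a, haN⟩ ≠ 1 := bad _ _ (by decide +kernel) (by decide +kernel)
  have e5 : f ⟨b, hbN⟩ ≠ 1 := bad _ _ (by decide +kernel) (by decide +kernel)
  have e6 : f ⟨a, haN⟩ ≠ f ⟨b, hbN⟩ := by
    intro h
    have h1 : f ⟨a * b, mm haN hbN⟩ = 1 := by rw [f_mul a b haN hbN, ← h, e1]
    exact bad _ _ (by decide +kernel) (by decide +kernel) h1
  have e7 : f ⟨y, hyN⟩ * f ⟨a, haN⟩ = f ⟨b, hbN⟩ * f ⟨y, hyN⟩ := by
    rw [← f_mul, ← f_mul]; exact rel _ _ _ _ (by decide +kernel)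
  have e8 : f ⟨y, hyN⟩ * f ⟨b, hbN⟩ = f ⟨a, haN⟩ * f ⟨b, hbN⟩ * f ⟨y, hyN⟩ := by
    have h1 : f ⟨y, hyN⟩ * f ⟨b, hbN⟩ * f ⟨t, htN⟩ = f ⟨a, haN⟩ * f ⟨b, hbN⟩ * f ⟨y, hyN⟩ := by
      rw [← f_mul, ← f_mul, ← f_mul, ← f_mul]
      refine rel _ _ _ _ ?_
      change (y : Perm (Fin 9)) * b * t = a * b * y
      rw [htv]; decide +kernel
    rwa [hft, mul_one] at h1
  have e9 : f ⟨v, hvN⟩ * f ⟨a, haN⟩ = f ⟨a, haN⟩ * f ⟨v, hvN⟩ := by
    rw [← f_mul, ← f_mul]; exact rel _ _ _ _ (by decide +kernel)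
  have e10 : f ⟨v, hvN⟩ * f ⟨b, hbN⟩ = f ⟨b, hbN⟩ * f ⟨v, hvN⟩ := by
    have h1 : f ⟨v, hvN⟩ * f ⟨b, hbN⟩ * f ⟨t, htN⟩ = f ⟨b, hbN⟩ * f ⟨v, hvN⟩ := by
      rw [← f_mul, ← f_mul, ← f_mul]
      refine rel _ _ _ _ ?_
      change (v : Perm (Fin 9)) * b * t = b * v
      rw [htv]; decide +kernel
    rwa [hft, mul_one] at h1
  have e11 : f ⟨r, hrN⟩ * f ⟨v, hvN⟩ = f ⟨v, hvN⟩ * f ⟨r, hrN⟩ := by
    rw [← f_mul, ← f_mul]; exact rel _ _ _ _ (by decide +kernel)
  have e12 : f ⟨r, hrN⟩ * f ⟨b, hbN⟩ = f ⟨a, haN⟩ * f ⟨b, hbN⟩ * f ⟨r, hrN⟩ := by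
    rw [← f_mul, ← f_mul, ← f_mul]; exact rel _ _ _ _ (by decide +kernel)
  have e13 : f ⟨r, hrN⟩ * f ⟨a, haN⟩ = f ⟨a, haN⟩ * f ⟨r, hrN⟩ := by
    rw [← f_mul, ← f_mul]; exact rel _ _ _ _ (by decide +kernel)
  have hvD : v ∈ D ∨ v * a ∈ D := by
    rcases s4 _ _ e1 e2 e3 e4 e5 e6 ⟨_, e7, e8⟩ _ e9 e10 with h1 | h1 | h1 | h1
    · left; exact (hf _).1 h1
    · right
      refine (hf ⟨v * a, mm hvN haN⟩).1 ?_
      rw [f_mul v a hvN haN, h1, e1]
    · exfalso
      rw [h1, e12] at e11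
      apply e4
      have h2 : f ⟨a, haN⟩ * (f ⟨b, hbN⟩ * f ⟨r, hrN⟩) = 1 * (f ⟨b, hbN⟩ * f ⟨r, hrN⟩) := by
        rw [one_mul, ← mul_assoc]; exact e11
      exact mul_right_cancel h2
    · exfalso
      rw [h1, ← mul_assoc, e13, mul_assoc, e12, mul_assoc] at e11
      apply e4
      have h2 : f ⟨a, haN⟩ * (f ⟨a, haN⟩ * (f ⟨b, hbN⟩ * f ⟨r, hrN⟩)) =
          1 * (f ⟨a, haN⟩ * (f ⟨b, hbN⟩ * f ⟨r, hrN⟩)) := by
        rw [one_mul]
        exact e11
      exact mul_right_cancel h2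
  -- conclusion from a regular elementary abelian subgroup of order 8 in `D`
  have concl : ∀ v1 w1 z1 z2 : alternatingGroup (Fin 9), v1 ∈ D → w1 = y * v1 * y⁻¹ → z1 ^ 7 = 1 → z1 ≠ 1 → z2 ^ 7 = 1 →
      z2 ≠ 1 → z1 * t * z1⁻¹ = v1 → z1 * v1 * z1⁻¹ = w1 → z1 * w1 * z1⁻¹ = t * v1 →
      z2 * t * z2⁻¹ = v1 → z2 * v1 * z2⁻¹ = v1 * w1 → z2 * w1 * z2⁻¹ = t * w1 →
      ((z1 * z2 : alternatingGroup (Fin 9)) : Perm (Fin 9)) * (z1 * z2 : alternatingGroup (Fin 9)) = 1 →
      ((z1 * z2 : alternatingGroup (Fin 9)) : Perm (Fin 9)).support.card = 4 → False := by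
    intro v1 w1 z1 z2 hv1 hw1 hz1 hz1' hz2 hz2' r1 r2 r3 r4 r5 r6 c1 c2
    have hw1D : w1 ∈ D := by
      have h1 := (Subgroup.mem_normalizer_iff.1 hyN v1).1 hv1
      rw [hw1]; exact h1
    let S : Set (alternatingGroup (Fin 9)) := {t, v1, w1}
    have htS : t ∈ Subgroup.closure S := Subgroup.subset_closure (by simp [S])
    have hvS : v1 ∈ Subgroup.closure S := Subgroup.subset_closure (by simp [S])
    have hwS : w1 ∈ Subgroup.closure S := Subgroup.subset_closure (by simp [S])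
    have hSD : Subgroup.closure S ≤ D := by
      rw [Subgroup.closure_le]
      rintro x (rfl | rfl | rfl)
      · exact htD
      · exact hv1
      · exact hw1D
    have hS1 : Subgroup.closure S ≠ ⊥ := by
      intro h1
      rw [h1, Subgroup.mem_bot] at htS
      exact ht1 htS
    have hz1N : z1 ∈ Subgroup.normalizer (Subgroup.closure S : Set (alternatingGroup (Fin 9))) := by
      apply mem_normalizer_closure
      rintro x (rfl | rfl | rfl)
      · rw [r1]; exact hvS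
      · rw [r2]; exact hwS
      · rw [r3]; exact mul_mem htS hvS
    have hz2N : z2 ∈ Subgroup.normalizer (Subgroup.closure S : Set (alternatingGroup (Fin 9))) := by
      apply mem_normalizer_closure
      rintro x (rfl | rfl | rfl)
      · rw [r4]; exact hvS
      · rw [r5]; exact mul_mem hvS hwS
      · rw [r6]; exact mul_mem htS hwS
    have hz1D : z1 ∈ D := hD.mem_of_prime (hD.norm _ hSD hS1 hz1N) (r := 7) (by norm_num) (by norm_num)
      (by have : Fact (Nat.Prime 7) := ⟨by norm_num⟩; exact orderOf_eq_prime hz1 hz1')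
    have hz2D : z2 ∈ D := hD.mem_of_prime (hD.norm _ hSD hS1 hz2N) (r := 7) (by norm_num) (by norm_num)
      (by have : Fact (Nat.Prime 7) := ⟨by norm_num⟩; exact orderOf_eq_prime hz2 hz2')
    exact h22 (z1 * z2) (hD.le (mul_mem hz1D hz2D)) c1 c2
  have tq : ∀ g h : alternatingGroup (Fin 9),
      (g : Perm (Fin 9)) * t4 * (g : Perm (Fin 9))⁻¹ = h → g * t * g⁻¹ = h := by
    intro g h hg
    apply Subtype.ext
    change (g : Perm (Fin 9)) * t * (g : Perm (Fin 9))⁻¹ = h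
    rw [htv]; exact hg
  have tq2 : ∀ g h : alternatingGroup (Fin 9),
      (g : Perm (Fin 9)) = t4 * (h : Perm (Fin 9)) → g = t * h := by
    intro g h hg
    apply Subtype.ext
    change (g : Perm (Fin 9)) = t * h
    rw [htv]; exact hg
  rcases hvD with h1 | h1
  · exact concl v (y * v * y⁻¹) (mk (List.formPerm [(1 : Fin 9), 2, 4, 3, 6, 7, 5]) (by decide +kernel))
      (mk (List.formPerm [(1 : Fin 9), 2, 6, 3, 4, 5, 7]) (by decide +kernel)) h1 rfl (by decide +kernel) (by decide +kernel)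
      (by decide +kernel) (by decide +kernel) (tq _ _ (by decide +kernel)) (by decide +kernel) (tq2 _ _ (by decide +kernel))
      (tq _ _ (by decide +kernel)) (by decide +kernel) (tq2 _ _ (by decide +kernel)) (by decide +kernel) (by decide +kernel)
  · exact concl (v * a) (y * (v * a) * y⁻¹) (mk (List.formPerm [(0 : Fin 9), 2, 4, 3, 6, 7, 5]) (by decide +kernel))
      (mk (List.formPerm [(0 : Fin 9), 2, 6, 3, 4, 5, 7]) (by decide +kernel)) h1 rfl (by decide +kernel) (by decide +kernel)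
      (by decide +kernel) (by decide +kernel) (tq _ _ (by decide +kernel)) (by decide +kernel) (tq2 _ _ (by decide +kernel))
      (tq _ _ (by decide +kernel)) (by decide +kernel) (tq2 _ _ (by decide +kernel)) (by decide +kernel) (by decide +kernel)

end N9

end Cfsg.Agent.H546.Fx
end

-- part: H546/Fx/PslBase
section
/-!
# Fixity 4 for `PSL(4, 3)`: the matrix rules (task 2042, for S3002)
-/

set_option autoImplicit false
set_option maxRecDepth 10000

namespace Cfsg.Agent.H546.Fx.Psl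

open Matrix Cfsg.Agent.H254.Ev

abbrev M := Matrix (Fin 4) (Fin 4) (ZMod 3)

/-- the rules for the set of matrices lying over a subgroup of `PSL(4, 3)` of fixity at most 4 -/
structure PK (K : Set M) : Prop where
  one : (1 : M) ∈ K
  neg : (-1 : M) ∈ K
  mul : ∀ {a b : M}, a ∈ K → b ∈ K → a * b ∈ K
  inv : ∀ {a b : M}, a ∈ K → a * b = 1 → b ∈ K
  pig : ∀ x ∈ K, x ≠ 1 → x ≠ -1 → ∀ c c' : Fin 5 → M, (∀ i, c' i * c i = 1) → (∀ i, (c i).det = 1) →
    (∀ i, c i * x = x * c i) → ∃ i j, i < j ∧ c' i * c j ∈ K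
  thirteen : ∀ x : Fin 3 → M, (∀ i, x i ∈ K) → x 0 ≠ 1 → x 0 ≠ -1 → ∀ z z' : M, z * z' = 1 → z ^ 13 = 1 →
    (∀ i, ∃ a b c : Fin 3, z * x i * z' = x 0 ^ (a : ℕ) * x 1 ^ (b : ℕ) * x 2 ^ (c : ℕ)) → z ∈ K

abbrev SL4 := SpecialLinearGroup (Fin 4) (ZMod 3)
abbrev PSL4 := Matrix.ProjectiveSpecialLinearGroup (Fin 4) (ZMod 3)

/-- the matrix of an element -/
def toM (g : SL4) : M := g.1

/-- an element with a given matrix -/
def mkSL (m : M) (h : m.det = 1) : SL4 := ⟨m, h⟩

/-- the projection -/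
def pr : SL4 →* PSL4 := QuotientGroup.mk' _

theorem toM_mkSL (m : M) (h : m.det = 1) : toM (mkSL m h) = m := rfl
theorem toM_one : toM 1 = 1 := rfl
theorem toM_mul (g h : SL4) : toM (g * h) = toM g * toM h := rfl
theorem toM_inj {g h : SL4} (e : toM g = toM h) : g = h := Subtype.ext e
theorem det_toM (g : SL4) : (toM g).det = 1 := g.2

theorem toM_pow (g : SL4) (n : ℕ) : toM (g ^ n) = toM g ^ n := by
  induction n with
  | zero => rw [pow_zero, pow_zero]; rfl
  | succ n ih => rw [pow_succ, pow_succ, toM_mul, ih]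

theorem toM_inv {g : SL4} {b : M} (h : toM g * b = 1) : toM g⁻¹ = b := by
  have h1 : toM g⁻¹ * toM g = 1 := by rw [← toM_mul, inv_mul_cancel, toM_one]
  calc toM g⁻¹ = toM g⁻¹ * (toM g * b) := by rw [h, mul_one]
    _ = b := by rw [← mul_assoc, h1, one_mul]

/-- the matrices over a subgroup -/
def Km (H : Subgroup PSL4) : Set M := {m | ∃ g : SL4, toM g = m ∧ pr g ∈ H}

theorem scalar_neg_one : (scalar (Fin 4) (-1 : ZMod 3) : M) = -1 := by decide +kernel

theorem center_iff (g : SL4) : g ∈ Subgroup.center SL4 ↔ toM g = 1 ∨ toM g = -1 := by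
  rw [Matrix.SpecialLinearGroup.mem_center_iff]
  constructor
  · rintro ⟨r, hr1, hr2⟩
    have key : ∀ r : ZMod 3, r ^ 4 = 1 → r = 1 ∨ r = -1 := by decide
    have hr2' : scalar (Fin 4) r = toM g := hr2
    rcases key r hr1 with h | h
    · left; rw [← hr2', h]; simp
    · right; rw [← hr2', h]; exact scalar_neg_one
  · rintro (h | h)
    · exact ⟨1, by simp, by rw [map_one]; exact h.symm⟩
    · exact ⟨-1, by decide, by rw [scalar_neg_one]; exact h.symm⟩

theorem pr_eq_one (g : SL4) : pr g = 1 ↔ toM g = 1 ∨ toM g = -1 := by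
  rw [← center_iff]
  exact QuotientGroup.eq_one_iff g

theorem pr_surj (x : PSL4) : ∃ g, pr g = x := QuotientGroup.mk'_surjective _ x

theorem det_of_pow_odd {z : M} {n : ℕ} (hn : Odd n) (h : z ^ n = 1) : z.det = 1 := by
  have h1 := congrArg Matrix.det h
  rw [Matrix.det_pow, Matrix.det_one] at h1
  have key : ∀ d : ZMod 3, d = 0 ∨ d = 1 ∨ d = -1 := by decide
  rcases key z.det with h2 | h2 | h2
  · rw [h2, zero_pow (by rintro rfl; exact absurd hn (by decide))] at h1
    exact absurd h1 (by decide)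
  · exact h2
  · rw [h2, hn.neg_one_pow] at h1
    exact absurd h1 (by decide)

theorem det_neg_one : ((-1 : M)).det = 1 := by (set_option synthInstance.maxSize 20000 in open scoped Cfsg.Agent.Lib.MatDec in decide +kernel)

theorem PK_pig {H : Subgroup PSL4} (hH : FixLE 4 H) : ∀ x ∈ Km H, x ≠ 1 → x ≠ -1 → ∀ c c' : Fin 5 → M,
    (∀ i, c' i * c i = 1) → (∀ i, (c i).det = 1) →
    (∀ i, c i * x = x * c i) → ∃ i j, i < j ∧ c' i * c j ∈ Km H := by
  rintro _ ⟨g, rfl, hg⟩ h1 h2 c c' hc hd hcm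
  have hg1 : pr g ≠ 1 := by
    intro h
    rcases (pr_eq_one g).1 h with h | h
    · exact h1 h
    · exact h2 h
  obtain ⟨i, j, hij, hh⟩ := pigeon hH hg hg1 (fun i => pr (mkSL (c i) (hd i))) (fun i => by
    rw [← map_mul, ← map_mul]
    congr 1
    exact toM_inj (hcm i))
  refine ⟨i, j, hij, (mkSL (c i) (hd i))⁻¹ * mkSL (c j) (hd j), ?_, ?_⟩
  · rw [toM_mul, toM_mkSL, toM_inv (g := mkSL (c i) (hd i)) (b := c' i) (mul_eq_one_comm.1 (hc i))]
  · rw [map_mul, map_inv]; exact hh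

theorem PK_thirteen {H : Subgroup PSL4} (hH : FixLE 4 H) : ∀ x : Fin 3 → M, (∀ i, x i ∈ Km H) → x 0 ≠ 1 → x 0 ≠ -1 →
    ∀ z z' : M, z * z' = 1 → z ^ 13 = 1 →
    (∀ i, ∃ a b c : Fin 3, z * x i * z' = x 0 ^ (a : ℕ) * x 1 ^ (b : ℕ) * x 2 ^ (c : ℕ)) → z ∈ Km H := by
  intro x hx h1 h2 z z' hz hz13 hzx
  have hdz := det_of_pow_odd (n := 13) (by decide) hz13
  choose g hg hgH using hx
  obtain ⟨y, hy⟩ : ∃ y : SL4, toM y = z := ⟨mkSL z hdz, rfl⟩
  have hyi : toM y⁻¹ = z' := toM_inv (by rw [hy]; exact hz)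
  refine ⟨y, hy, ?_⟩
  have hg0 : pr (g 0) ≠ 1 := by
    intro h
    rcases (pr_eq_one (g 0)).1 h with h | h
    · exact h1 (by rw [← hg, h])
    · exact h2 (by rw [← hg, h])
  by_cases hy1 : pr y = 1
  · rw [hy1]; exact H.one_mem
  let S : Set PSL4 := Set.range (fun i => pr (g i))
  have hS : ∀ i, pr (g i) ∈ Subgroup.closure S := fun i => Subgroup.subset_closure ⟨i, rfl⟩
  have hSH : Subgroup.closure S ≤ H := by
    rw [Subgroup.closure_le]
    rintro _ ⟨i, rfl⟩
    exact hgH i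
  refine hH.mem_of_prime le_rfl (X := Subgroup.closure S) hSH ?_ ?_ (r := 13) (by norm_num) (by norm_num) ?_
  · intro h
    have := hS 0
    rw [h, Subgroup.mem_bot] at this
    exact hg0 this
  · apply mem_normalizer_closure
    rintro _ ⟨i, rfl⟩
    obtain ⟨a, b, c, habc⟩ := hzx i
    have h3 : y * g i * y⁻¹ = g 0 ^ (a : ℕ) * g 1 ^ (b : ℕ) * g 2 ^ (c : ℕ) := by
      apply toM_inj
      rw [toM_mul, toM_mul, toM_mul, toM_mul, toM_pow, toM_pow, toM_pow, hyi, hy, hg, hg, hg, hg]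
      exact habc
    have h4 : pr y * pr (g i) * (pr y)⁻¹ = pr (y * g i * y⁻¹) := by rw [map_mul, map_mul, map_inv]
    rw [h4, h3, map_mul, map_mul, map_pow, map_pow, map_pow]
    exact mul_mem (mul_mem (pow_mem (hS 0) _) (pow_mem (hS 1) _)) (pow_mem (hS 2) _)
  · have : Fact (Nat.Prime 13) := ⟨by norm_num⟩
    refine orderOf_eq_prime ?_ hy1
    have h3 : y ^ 13 = 1 := by
      apply toM_inj
      rw [toM_pow, hy]; exact hz13
    rw [← map_pow, h3, map_one]

theorem PK_of {H : Subgroup PSL4} (hH : FixLE 4 H) : PK (Km H) where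
  one := ⟨1, rfl, H.one_mem⟩
  neg := by
    refine ⟨mkSL (-1) det_neg_one, rfl, ?_⟩
    rw [(pr_eq_one _).2 (Or.inr rfl)]; exact H.one_mem
  mul := by
    rintro _ _ ⟨g, rfl, hg⟩ ⟨h, rfl, hh⟩
    exact ⟨g * h, rfl, by rw [map_mul]; exact H.mul_mem hg hh⟩
  inv := by
    rintro _ b ⟨g, rfl, hg⟩ hb
    exact ⟨g⁻¹, toM_inv hb, by rw [map_inv]; exact H.inv_mem hg⟩
  pig := PK_pig hH
  thirteen := PK_thirteen hH

/-- conjugation by an invertible matrix -/
def cjM (P P' : M) (K : Set M) : Set M := {m | P * m * P' ∈ K}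

theorem mem_cjM {P P' m : M} {K : Set M} : m ∈ cjM P P' K ↔ P * m * P' ∈ K := Iff.rfl

theorem cj_mul {P P' : M} (h' : P' * P = 1) (a b : M) : P * (a * b) * P' = (P * a * P') * (P * b * P') := by
  calc P * (a * b) * P' = P * a * (1 : M) * b * P' := by rw [mul_one]; simp only [mul_assoc]
    _ = P * a * (P' * P) * b * P' := by rw [h']
    _ = _ := by simp only [mul_assoc]

theorem cj_pow {P P' : M} (h : P * P' = 1) (h' : P' * P = 1) (a : M) (n : ℕ) : P * a ^ n * P' = (P * a * P') ^ n := by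
  induction n with
  | zero => simp [h]
  | succ n ih => rw [pow_succ, cj_mul h', ih, pow_succ]

theorem cj_inj {P P' : M} (h' : P' * P = 1) {a b : M} (hab : P * a * P' = P * b * P') : a = b := by
  have h1 := congrArg (fun z => P' * z * P) hab
  have h2 : ∀ a : M, P' * (P * a * P') * P = a := by
    intro a
    calc P' * (P * a * P') * P = (P' * P) * a * (P' * P) := by simp only [mul_assoc]
      _ = a := by rw [h', one_mul, mul_one]
  simp only [h2] at h1
  exact h1

theorem PK.conj {K : Set M} (hK : PK K) {P P' : M} (h : P * P' = 1) : PK (cjM P P' K) := by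
  have h' : P' * P = 1 := mul_eq_one_comm.1 h
  have hne : ∀ x : M, x ≠ 1 → P * x * P' ≠ 1 := by
    intro x hx h1
    apply hx
    apply cj_inj h'
    rw [h1, mul_one, h]
  have hneg : P * (-1 : M) * P' = -1 := by rw [mul_neg, mul_one, neg_mul, h]
  have hne' : ∀ x : M, x ≠ -1 → P * x * P' ≠ -1 := by
    intro x hx h1
    apply hx
    apply cj_inj h'
    rw [h1, hneg]
  refine ⟨?_, ?_, ?_, ?_, ?_, ?_⟩
  · rw [mem_cjM, mul_one, h]; exact hK.one
  · rw [mem_cjM, hneg]; exact hK.neg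
  · intro a b ha hb
    rw [mem_cjM, cj_mul h']; exact hK.mul ha hb
  · intro a b ha hab
    refine hK.inv ha ?_
    rw [← cj_mul h', hab, mul_one, h]
  · intro x hx h1 h2 c c' hc hd hcm
    obtain ⟨i, j, hij, hh⟩ := hK.pig _ hx (hne x h1) (hne' x h2) (fun i => P * c i * P') (fun i => P * c' i * P')
      (fun i => by rw [← cj_mul h', hc, mul_one, h])
      (fun i => by
        have : P.det * P'.det = 1 := by rw [← det_mul, h, det_one]
        rw [det_mul, det_mul, hd, mul_one, this])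
      (fun i => by rw [← cj_mul h', ← cj_mul h', hcm])
    exact ⟨i, j, hij, by rw [mem_cjM, cj_mul h']; exact hh⟩
  · intro x hx h1 h2 z z' hz hz13 hzx
    refine hK.thirteen (fun i => P * x i * P') hx (hne _ h1) (hne' _ h2) (P * z * P') (P * z' * P') ?_ ?_ ?_
    · rw [← cj_mul h', hz, mul_one, h]
    · rw [← cj_pow h h', hz13, mul_one, h]
    · intro i
      obtain ⟨a, b, c, habc⟩ := hzx i
      refine ⟨a, b, c, ?_⟩
      rw [← cj_mul h', ← cj_mul h', habc, cj_mul h', cj_mul h', cj_pow h h', cj_pow h h', cj_pow h h']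

/-- elements of order 5 -/
theorem PK.five {K : Set M} (hK : PK K) {x z : M} (hx : x ∈ K) (h1 : x ≠ 1) (h2 : x ≠ -1) (hz : z * x = x * z)
    (hz5 : z ^ 5 = 1) : z ∈ K := by
  have hcm : Commute z x := hz
  have hdz := det_of_pow_odd (n := 5) (by decide) hz5
  obtain ⟨i, j, hij, hh⟩ := hK.pig x hx h1 h2 (fun i => z ^ (i : ℕ)) (fun i => z ^ (5 - (i : ℕ)))
    (fun i => by rw [← pow_add, Nat.sub_add_cancel i.2.le, hz5])
    (fun i => by rw [det_pow, hdz, one_pow]) (fun i => (hcm.pow_left i).eq)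
  have h3 : z ^ (5 - (i : ℕ)) * z ^ (j : ℕ) = z ^ ((j : ℕ) - (i : ℕ)) := by
    have hle : (i : ℕ) ≤ j := hij.le
    have : 5 - (i : ℕ) + j = 5 + ((j : ℕ) - i) := by have := i.2; omega
    rw [← pow_add, this, pow_add, hz5, one_mul]
  simp only [h3] at hh
  have hlt : (i : ℕ) < j := hij
  have hj5 := j.2
  obtain ⟨k, hk⟩ : ∃ k, k = (j : ℕ) - i := ⟨_, rfl⟩
  rw [← hk] at hh
  have hpow : ∀ n : ℕ, (z ^ k) ^ n ∈ K := by
    intro n
    induction n with
    | zero => rw [pow_zero]; exact hK.one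
    | succ n ih => rw [pow_succ]; exact hK.mul ih hh
  have hk1 : 1 ≤ k := by omega
  have hk4 : k ≤ 4 := by omega
  interval_cases k
  · rwa [pow_one] at hh
  · have := hpow 3
    rw [← pow_mul] at this
    have e : z ^ (2 * 3) = z := by
      calc z ^ (2 * 3) = z ^ 5 * z := by rw [← pow_succ]
        _ = z := by rw [hz5, one_mul]
    rwa [e] at this
  · have := hpow 2
    rw [← pow_mul] at this
    have e : z ^ (3 * 2) = z := by
      calc z ^ (3 * 2) = z ^ 5 * z := by rw [← pow_succ]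
        _ = z := by rw [hz5, one_mul]
    rwa [e] at this
  · have := hpow 4
    rw [← pow_mul] at this
    have e : z ^ (4 * 4) = z := by
      calc z ^ (4 * 4) = (z ^ 5) ^ 3 * z := by rw [← pow_mul, ← pow_succ]
        _ = z := by rw [hz5, one_pow, one_mul]
    rwa [e] at this

end Cfsg.Agent.H546.Fx.Psl
end

-- part: H546/Fx/PslCertB
section
/-!
# Fixity 4 for `PSL(4, 3)`: involutions of the second class (task 2042, for S3002)
-/

set_option autoImplicit false
set_option maxRecDepth 10000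

namespace Cfsg.Agent.H546.Fx.Psl

open Matrix

/-- one step of a path: `z`, `w` of order 5 commuting with `k`, `k' = z * w` -/
def chk : M → List (M × M × M × M × M) → M → Bool
  | k, [], t => decide (k = t) || decide (k = -t)
  | k, (z, z2, w, w2, k') :: l, t => decide (z * k = k * z) && decide (z * z = z2) && decide (z2 * z2 * z = 1) &&
      decide (w * k = k * w) && decide (w * w = w2) && decide (w2 * w2 * w = 1) && decide (z * w = k') &&
      decide (k' ≠ 1) && decide (k' ≠ -1) && chk k' l t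

theorem of_chk {K : Set M} (hK : PK K) : ∀ (l : List (M × M × M × M × M)) (k t : M), k ∈ K → k ≠ 1 → k ≠ -1 →
    chk k l t = true → t ∈ K
  | [], k, t, hk, _, _, h => by
    simp only [chk, Bool.or_eq_true, decide_eq_true_eq] at h
    rcases h with rfl | rfl
    · exact hk
    · have := hK.mul hK.neg hk
      simpa using this
  | (z, z2, w, w2, k') :: l, k, t, hk, h1, h2, h => by
    simp only [chk, Bool.and_eq_true, decide_eq_true_eq] at h
    obtain ⟨⟨⟨⟨⟨⟨⟨⟨⟨a1, a2⟩, a3⟩, a4⟩, a5⟩, a6⟩, a7⟩, a8⟩, a9⟩, a10⟩ := h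
    have p5 : ∀ z z2 : M, z * z = z2 → z2 * z2 * z = 1 → z ^ 5 = 1 := by
      intro z z2 e1 e2
      rw [← e2, ← e1]
      noncomm_ring
    have hz : z ∈ K := hK.five hk h1 h2 a1 (p5 z z2 a2 a3)
    have hw : w ∈ K := hK.five hk h1 h2 a4 (p5 w w2 a5 a6)
    exact of_chk hK l k' t (a7 ▸ hK.mul hz hw) a8 a9 a10

/-- the standard matrix with square `-1` -/
def j0 : M := !![0, 2, 0, 0; 1, 0, 0, 0; 0, 0, 0, 2; 0, 0, 1, 0]

def cert01 : List (M × M × M × M × M) := [
  (!![2, 1, 2, 2; 2, 2, 1, 2; 0, 2, 2, 1; 1, 0, 2, 2],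
    !![2, 2, 1, 0; 1, 2, 0, 1; 2, 2, 2, 2; 1, 2, 1, 2],
    !![1, 1, 1, 2; 2, 1, 1, 1; 0, 1, 0, 1; 2, 0, 2, 0],
    !![1, 0, 0, 1; 0, 1, 2, 0; 1, 1, 0, 1; 2, 1, 2, 0],
    !![2, 2, 1, 1; 1, 2, 2, 1; 0, 1, 1, 1; 2, 0, 2, 1]),
  (!![2, 2, 0, 1; 2, 2, 0, 0; 0, 2, 1, 0; 0, 1, 1, 0],
    !![2, 0, 1, 2; 2, 2, 0, 2; 1, 0, 1, 0; 2, 1, 1, 0],
    !![1, 0, 2, 1; 0, 1, 1, 0; 1, 2, 0, 2; 1, 0, 2, 0],
    !![1, 1, 1, 2; 1, 0, 1, 2; 0, 2, 2, 1; 0, 1, 2, 2],
    !![0, 2, 2, 2; 2, 2, 0, 2; 1, 1, 2, 2; 1, 0, 1, 2]),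
  (!![1, 0, 1, 1; 1, 0, 0, 0; 2, 2, 1, 0; 1, 1, 0, 0],
    !![1, 0, 2, 1; 1, 0, 1, 1; 0, 2, 0, 2; 2, 0, 1, 1],
    !![2, 1, 0, 0; 1, 2, 2, 0; 0, 0, 2, 1; 0, 1, 1, 2],
    !![2, 1, 2, 0; 1, 2, 2, 2; 0, 1, 2, 1; 1, 1, 0, 2],
    !![2, 2, 0, 0; 2, 1, 0, 0; 0, 0, 0, 1; 0, 0, 2, 0])]

private noncomputable def _root_.Cfsg.Agent.LsF.f0346ab_0 : {f // @Cfsg.Agent.H546.Fx.Psl.chk = f} := ⟨_, by first | (delta Cfsg.Agent.H546.Fx.Psl.chk List.brecOn List.brecOn.go Cfsg.Agent.H546.Fx.Psl.chk._f; rewrite [Cfsg.Agent.LsF.mmulF_pat, Cfsg.Agent.LsF.mneg_pat, Cfsg.Agent.LsF.zadd_pat, Cfsg.Agent.LsF.zmul_pat, Cfsg.Agent.LsF.zneg_pat, Cfsg.Agent.LsF.zdecEq_eq, Cfsg.Agent.LsF.finFintype_eq, Cfsg.Agent.LsF.dMat_eq, Cfsg.Agent.LsF.instMOne_eq, Cfsg.Agent.LsF.zACM_pat, Cfsg.Agent.LsF.and_eq, Cfsg.Agent.LsF.or_eq, Cfsg.Agent.LsF.dNot_eq, Cfsg.Agent.LsF.dFinEq_eq, Cfsg.Agent.LsF.decide_eq]; (try delta Cfsg.Agent.H546.Fx.Psl.chk.match_1); (try delta List.casesOn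 Prod.casesOn); first | dsimp -zeta only | exact rfl) | exact rfl⟩
private noncomputable def _root_.Cfsg.Agent.LsF.f0346ab_1 : {f // @Cfsg.Agent.H546.Fx.Psl.j0 = f} := ⟨_, by first | (delta Cfsg.Agent.H546.Fx.Psl.j0; rewrite [Cfsg.Agent.LsF.mof_pat, Cfsg.Agent.LsF.vecCons_eq]; exact rfl) | exact rfl⟩
private noncomputable def _root_.Cfsg.Agent.LsF.f0346ab_2 : {f // @Cfsg.Agent.H546.Fx.Psl.cert01 = f} := ⟨_, by first | (delta Cfsg.Agent.H546.Fx.Psl.cert01; rewrite [Cfsg.Agent.LsF.mof_pat, Cfsg.Agent.LsF.vecCons_eq]; exact rfl) | exact rfl⟩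
theorem ok01 : chk j0 cert01 (!![1, 1, 0, 0; 0, 1, 0, 0; 0, 0, 1, 0; 0, 0, 0, 1] * j0 * !![1, 2, 0, 0; 0, 1, 0, 0; 0, 0, 1, 0; 0, 0, 0, 1]) = true := by ((try (rewrite [Cfsg.Agent.LsF.mmulF_pat, Cfsg.Agent.LsF.f0346ab_0.2, Cfsg.Agent.LsF.f0346ab_1.2, Cfsg.Agent.LsF.f0346ab_2.2, Cfsg.Agent.LsF.mof_pat, Cfsg.Agent.LsF.zadd_pat, Cfsg.Agent.LsF.zmul_pat, Cfsg.Agent.LsF.vecCons_eq, Cfsg.Agent.LsF.zACM_pat])); decide +kernel)

def cert10 : List (M × M × M × M × M) := [
  (!![2, 1, 2, 2; 2, 2, 1, 2; 0, 2, 2, 1; 1, 0, 2, 2],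
    !![2, 2, 1, 0; 1, 2, 0, 1; 2, 2, 2, 2; 1, 2, 1, 2],
    !![1, 1, 1, 2; 2, 1, 1, 1; 0, 1, 0, 1; 2, 0, 2, 0],
    !![1, 0, 0, 1; 0, 1, 2, 0; 1, 1, 0, 1; 2, 1, 2, 0],
    !![2, 2, 1, 1; 1, 2, 2, 1; 0, 1, 1, 1; 2, 0, 2, 1]),
  (!![2, 1, 2, 1; 1, 0, 2, 0; 0, 0, 0, 1; 1, 0, 0, 0],
    !![0, 2, 0, 1; 2, 1, 2, 0; 1, 0, 0, 0; 2, 1, 2, 1],
    !![1, 1, 1, 2; 1, 0, 1, 2; 0, 2, 2, 1; 0, 1, 2, 2],
    !![2, 2, 2, 0; 1, 2, 1, 1; 2, 2, 2, 2; 1, 0, 0, 2],
    !![0, 1, 0, 1; 1, 2, 2, 1; 0, 1, 2, 2; 1, 1, 1, 2]),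
  (!![0, 0, 1, 2; 1, 1, 2, 0; 2, 2, 1, 2; 1, 2, 2, 0],
    !![1, 0, 2, 2; 2, 2, 2, 0; 0, 2, 2, 0; 0, 0, 1, 0],
    !![0, 1, 2, 1; 1, 1, 1, 0; 2, 0, 0, 1; 1, 1, 0, 1],
    !![0, 2, 1, 0; 0, 2, 0, 2; 1, 0, 1, 0; 2, 0, 0, 2],
    !![1, 2, 0, 0; 2, 2, 0, 0; 0, 0, 0, 2; 0, 0, 1, 0])]

private noncomputable def _root_.Cfsg.Agent.LsF.f0346ab_3 : {f // @Cfsg.Agent.H546.Fx.Psl.cert10 = f} := ⟨_, by first | (delta Cfsg.Agent.H546.Fx.Psl.cert10; rewrite [Cfsg.Agent.LsF.mof_pat, Cfsg.Agent.LsF.vecCons_eq]; exact rfl) | exact rfl⟩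
theorem ok10 : chk j0 cert10 (!![1, 0, 0, 0; 1, 1, 0, 0; 0, 0, 1, 0; 0, 0, 0, 1] * j0 * !![1, 0, 0, 0; 2, 1, 0, 0; 0, 0, 1, 0; 0, 0, 0, 1]) = true := by ((try (rewrite [Cfsg.Agent.LsF.mmulF_pat, Cfsg.Agent.LsF.f0346ab_0.2, Cfsg.Agent.LsF.f0346ab_1.2, Cfsg.Agent.LsF.f0346ab_3.2, Cfsg.Agent.LsF.mof_pat, Cfsg.Agent.LsF.zadd_pat, Cfsg.Agent.LsF.zmul_pat, Cfsg.Agent.LsF.vecCons_eq, Cfsg.Agent.LsF.zACM_pat])); decide +kernel)

def cert12 : List (M × M × M × M × M) := [
  (!![2, 1, 0, 2; 2, 2, 1, 0; 1, 0, 2, 0; 0, 1, 0, 2],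
    !![0, 0, 1, 2; 0, 0, 1, 1; 1, 1, 1, 2; 2, 1, 1, 1],
    !![0, 1, 1, 2; 2, 0, 1, 1; 0, 1, 1, 1; 2, 0, 2, 1],
    !![0, 1, 0, 1; 2, 0, 2, 0; 1, 1, 1, 0; 2, 1, 0, 1],
    !![0, 2, 1, 1; 1, 0, 2, 1; 0, 0, 0, 1; 0, 0, 2, 0]),
  (!![2, 2, 1, 0; 2, 1, 0, 1; 1, 0, 2, 0; 0, 2, 1, 0],
    !![0, 0, 1, 2; 0, 1, 0, 1; 1, 2, 2, 0; 2, 2, 2, 2],
    !![0, 1, 0, 0; 0, 1, 2, 1; 0, 1, 0, 1; 1, 0, 1, 1],
    !![0, 1, 2, 1; 1, 0, 0, 1; 1, 1, 0, 2; 1, 2, 1, 2],
    !![0, 2, 1, 0; 1, 0, 0, 2; 0, 0, 0, 2; 0, 0, 1, 0])]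

private noncomputable def _root_.Cfsg.Agent.LsF.f0346ab_4 : {f // @Cfsg.Agent.H546.Fx.Psl.cert12 = f} := ⟨_, by first | (delta Cfsg.Agent.H546.Fx.Psl.cert12; rewrite [Cfsg.Agent.LsF.mof_pat, Cfsg.Agent.LsF.vecCons_eq]; exact rfl) | exact rfl⟩
theorem ok12 : chk j0 cert12 (!![1, 0, 0, 0; 0, 1, 1, 0; 0, 0, 1, 0; 0, 0, 0, 1] * j0 * !![1, 0, 0, 0; 0, 1, 2, 0; 0, 0, 1, 0; 0, 0, 0, 1]) = true := by ((try (rewrite [Cfsg.Agent.LsF.mmulF_pat, Cfsg.Agent.LsF.f0346ab_0.2, Cfsg.Agent.LsF.f0346ab_1.2, Cfsg.Agent.LsF.f0346ab_4.2, Cfsg.Agent.LsF.mof_pat, Cfsg.Agent.LsF.zadd_pat, Cfsg.Agent.LsF.zmul_pat, Cfsg.Agent.LsF.vecCons_eq, Cfsg.Agent.LsF.zACM_pat])); decide +kernel)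

def cert21 : List (M × M × M × M × M) := [
  (!![2, 1, 0, 2; 2, 2, 1, 0; 1, 0, 2, 0; 0, 1, 0, 2],
    !![0, 0, 1, 2; 0, 0, 1, 1; 1, 1, 1, 2; 2, 1, 1, 1],
    !![0, 0, 1, 0; 0, 0, 0, 1; 2, 0, 1, 1; 0, 2, 2, 1],
    !![2, 0, 1, 1; 0, 2, 2, 1; 2, 2, 2, 2; 1, 2, 1, 2],
    !![0, 1, 0, 0; 2, 0, 0, 0; 1, 0, 0, 2; 0, 1, 1, 0]),
  (!![1, 1, 1, 0; 0, 1, 0, 2; 2, 0, 0, 0; 1, 2, 1, 0],
    !![0, 2, 1, 2; 2, 2, 2, 2; 2, 2, 2, 0; 0, 0, 1, 1],
    !![1, 0, 0, 2; 0, 0, 2, 0; 2, 1, 1, 1; 1, 0, 2, 0],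
    !![0, 0, 1, 2; 1, 2, 2, 2; 2, 1, 2, 2; 2, 2, 2, 1],
    !![0, 1, 0, 0; 2, 0, 0, 0; 2, 0, 0, 1; 0, 1, 2, 0])]

private noncomputable def _root_.Cfsg.Agent.LsF.f0346ab_5 : {f // @Cfsg.Agent.H546.Fx.Psl.cert21 = f} := ⟨_, by first | (delta Cfsg.Agent.H546.Fx.Psl.cert21; rewrite [Cfsg.Agent.LsF.mof_pat, Cfsg.Agent.LsF.vecCons_eq]; exact rfl) | exact rfl⟩
theorem ok21 : chk j0 cert21 (!![1, 0, 0, 0; 0, 1, 0, 0; 0, 1, 1, 0; 0, 0, 0, 1] * j0 * !![1, 0, 0, 0; 0, 1, 0, 0; 0, 2, 1, 0; 0, 0, 0, 1]) = true := by ((try (rewrite [Cfsg.Agent.LsF.mmulF_pat, Cfsg.Agent.LsF.f0346ab_0.2, Cfsg.Agent.LsF.f0346ab_1.2, Cfsg.Agent.LsF.f0346ab_5.2, Cfsg.Agent.LsF.mof_pat, Cfsg.Agent.LsF.zadd_pat, Cfsg.Agent.LsF.zmul_pat, Cfsg.Agent.LsF.vecCons_eq, Cfsg.Agent.LsF.zACM_pat])); decide +kernel)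

def cert23 : List (M × M × M × M × M) := [
  (!![2, 1, 2, 2; 2, 2, 1, 2; 0, 2, 2, 1; 1, 0, 2, 2],
    !![2, 2, 1, 0; 1, 2, 0, 1; 2, 2, 2, 2; 1, 2, 1, 2],
    !![1, 1, 1, 2; 2, 1, 1, 1; 0, 1, 0, 1; 2, 0, 2, 0],
    !![1, 0, 0, 1; 0, 1, 2, 0; 1, 1, 0, 1; 2, 1, 2, 0],
    !![2, 2, 1, 1; 1, 2, 2, 1; 0, 1, 1, 1; 2, 0, 2, 1]),
  (!![0, 0, 1, 0; 2, 2, 0, 1; 2, 1, 2, 1; 0, 2, 0, 1],
    !![2, 1, 2, 1; 1, 0, 2, 0; 0, 0, 0, 1; 1, 0, 0, 0],
    !![0, 0, 1, 0; 2, 2, 1, 1; 2, 2, 0, 2; 0, 1, 0, 0],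
    !![2, 2, 0, 2; 0, 1, 1, 1; 1, 0, 1, 2; 2, 2, 1, 1],
    !![2, 2, 0, 2; 1, 2, 1, 2; 0, 1, 0, 2; 1, 2, 2, 2]),
  (!![2, 1, 1, 0; 2, 1, 0, 0; 2, 0, 1, 1; 0, 0, 1, 1],
    !![2, 0, 0, 1; 0, 0, 2, 0; 0, 2, 1, 2; 2, 0, 2, 2],
    !![0, 0, 0, 1; 1, 0, 0, 1; 2, 2, 0, 0; 1, 1, 1, 2],
    !![1, 1, 1, 2; 1, 1, 1, 0; 2, 0, 0, 1; 2, 1, 2, 0],
    !![0, 2, 0, 0; 1, 0, 0, 0; 0, 0, 1, 1; 0, 0, 1, 2])]

private noncomputable def _root_.Cfsg.Agent.LsF.f0346ab_6 : {f // @Cfsg.Agent.H546.Fx.Psl.cert23 = f} := ⟨_, by first | (delta Cfsg.Agent.H546.Fx.Psl.cert23; rewrite [Cfsg.Agent.LsF.mof_pat, Cfsg.Agent.LsF.vecCons_eq]; exact rfl) | exact rfl⟩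
theorem ok23 : chk j0 cert23 (!![1, 0, 0, 0; 0, 1, 0, 0; 0, 0, 1, 1; 0, 0, 0, 1] * j0 * !![1, 0, 0, 0; 0, 1, 0, 0; 0, 0, 1, 2; 0, 0, 0, 1]) = true := by ((try (rewrite [Cfsg.Agent.LsF.mmulF_pat, Cfsg.Agent.LsF.f0346ab_0.2, Cfsg.Agent.LsF.f0346ab_1.2, Cfsg.Agent.LsF.f0346ab_6.2, Cfsg.Agent.LsF.mof_pat, Cfsg.Agent.LsF.zadd_pat, Cfsg.Agent.LsF.zmul_pat, Cfsg.Agent.LsF.vecCons_eq, Cfsg.Agent.LsF.zACM_pat])); decide +kernel)

def cert32 : List (M × M × M × M × M) := [
  (!![2, 1, 2, 2; 2, 2, 1, 2; 0, 2, 2, 1; 1, 0, 2, 2],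
    !![2, 2, 1, 0; 1, 2, 0, 1; 2, 2, 2, 2; 1, 2, 1, 2],
    !![1, 1, 1, 2; 2, 1, 1, 1; 0, 1, 0, 1; 2, 0, 2, 0],
    !![1, 0, 0, 1; 0, 1, 2, 0; 1, 1, 0, 1; 2, 1, 2, 0],
    !![2, 2, 1, 1; 1, 2, 2, 1; 0, 1, 1, 1; 2, 0, 2, 1]),
  (!![0, 0, 1, 0; 2, 2, 0, 1; 2, 1, 2, 1; 0, 2, 0, 1],
    !![2, 1, 2, 1; 1, 0, 2, 0; 0, 0, 0, 1; 1, 0, 0, 0],
    !![0, 1, 2, 1; 0, 2, 1, 0; 2, 2, 1, 0; 1, 2, 2, 2],
    !![2, 2, 2, 2; 2, 0, 0, 0; 2, 2, 1, 2; 0, 1, 1, 2],
    !![2, 2, 1, 0; 1, 2, 2, 1; 2, 1, 0, 1; 1, 0, 1, 2]),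
  (!![2, 1, 1, 1; 2, 1, 0, 0; 0, 0, 0, 2; 2, 0, 0, 2],
    !![2, 0, 2, 0; 0, 0, 2, 2; 1, 0, 0, 1; 2, 2, 2, 0],
    !![0, 0, 2, 0; 1, 0, 2, 0; 2, 2, 1, 2; 0, 0, 2, 1],
    !![1, 1, 2, 1; 1, 1, 1, 1; 1, 2, 1, 1; 1, 1, 1, 2],
    !![0, 2, 0, 0; 1, 0, 0, 0; 0, 0, 1, 2; 0, 0, 2, 2])]

private noncomputable def _root_.Cfsg.Agent.LsF.f0346ab_7 : {f // @Cfsg.Agent.H546.Fx.Psl.cert32 = f} := ⟨_, by first | (delta Cfsg.Agent.H546.Fx.Psl.cert32; rewrite [Cfsg.Agent.LsF.mof_pat, Cfsg.Agent.LsF.vecCons_eq]; exact rfl) | exact rfl⟩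
theorem ok32 : chk j0 cert32 (!![1, 0, 0, 0; 0, 1, 0, 0; 0, 0, 1, 0; 0, 0, 1, 1] * j0 * !![1, 0, 0, 0; 0, 1, 0, 0; 0, 0, 1, 0; 0, 0, 2, 1]) = true := by ((try (rewrite [Cfsg.Agent.LsF.mmulF_pat, Cfsg.Agent.LsF.f0346ab_0.2, Cfsg.Agent.LsF.f0346ab_1.2, Cfsg.Agent.LsF.f0346ab_7.2, Cfsg.Agent.LsF.mof_pat, Cfsg.Agent.LsF.zadd_pat, Cfsg.Agent.LsF.zmul_pat, Cfsg.Agent.LsF.vecCons_eq, Cfsg.Agent.LsF.zACM_pat])); decide +kernel)

end Cfsg.Agent.H546.Fx.Psl
end

-- part: H546/Fx/PslMain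
section
/-!
# Fixity 4 for `PSL(4, 3)` (task 2042, for S3002)
-/

set_option autoImplicit false
set_option maxRecDepth 10000

namespace Cfsg.Agent.H546.Fx.Psl

open Matrix Cfsg.Agent.H254.Ev Cfsg.Agent.LargeExtra.W2.LFour.PslFacts

/-- everything of determinant one -/
def Full (K : Set M) : Prop := ∀ m : M, m.det = 1 → m ∈ K

theorem Full.of_conj {K : Set M} {P P' : M} (h : P * P' = 1) (hf : Full (cjM P P' K)) : Full K := by
  intro m hm
  have h' : P' * P = 1 := mul_eq_one_comm.1 h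
  have h1 := hf (P' * m * P) (by
    have : P'.det * P.det = 1 := by rw [← det_mul, h', det_one]
    rw [det_mul, det_mul, hm, mul_one, this])
  rw [mem_cjM] at h1
  have : P * (P' * m * P) * P' = m := by
    calc P * (P' * m * P) * P' = (P * P') * m * (P * P') := by simp only [mul_assoc]
      _ = m := by rw [h, one_mul, mul_one]
  rwa [this] at h1

theorem top_of_full {H : Subgroup PSL4} (h : Full (Km H)) : H = ⊤ := by
  rw [eq_top_iff]
  intro x _
  obtain ⟨g, rfl⟩ := pr_surj x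
  obtain ⟨g', hg', hH⟩ := h (toM g) (det_toM g)
  rwa [toM_inj hg'] at hH

/-- the subgroup of elements whose matrices lie in `K` -/
def Ks {K : Set M} (hK : PK K) : Subgroup SL4 where
  carrier := {g | toM g ∈ K}
  one_mem' := hK.one
  mul_mem' := fun {a b} ha hb => by
    change toM (a * b) ∈ K
    rw [toM_mul]; exact hK.mul ha hb
  inv_mem' := fun {a} ha => hK.inv (a := toM a) ha (by rw [← toM_mul, mul_inv_cancel, toM_one])

theorem mem_Ks {K : Set M} (hK : PK K) (g : SL4) : g ∈ Ks hK ↔ toM g ∈ K := Iff.rfl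

theorem full_of_top {K : Set M} (hK : PK K) (h : Ks hK = ⊤) : Full K := by
  intro m hm
  have : mkSL m hm ∈ Ks hK := by rw [h]; trivial
  exact this

/-- a set containing all conjugates of a non-central element -/
theorem full_of_conj {K : Set M} (hK : PK K) {J : SL4} (hJ : pr J ≠ 1) (h : ∀ g : SL4, g * J * g⁻¹ ∈ Ks hK) : Full K := by
  apply full_of_top
  have hle : Subgroup.normalClosure {J} ≤ Ks hK := by
    rw [Subgroup.normalClosure, Subgroup.closure_le]
    intro x hx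
    obtain ⟨y, hy, hyx⟩ := Group.mem_conjugatesOfSet_iff.1 hx
    rw [Set.mem_singleton_iff] at hy
    subst hy
    obtain ⟨g, rfl⟩ := isConj_iff.1 hyx
    exact h g
  have hn : ((Subgroup.normalClosure {J}).map pr).Normal := Subgroup.Normal.map inferInstance pr (QuotientGroup.mk'_surjective _)
  have hs := simple_psl
  rcases hs.eq_bot_or_eq_top_of_normal _ hn with h1 | h1
  · exfalso
    apply hJ
    have : pr J ∈ (Subgroup.normalClosure {J}).map pr := ⟨J, Subgroup.subset_normalClosure (Set.mem_singleton J), rfl⟩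
    rw [h1, Subgroup.mem_bot] at this
    exact this
  · rw [eq_top_iff]
    intro g _
    have : pr g ∈ (Subgroup.normalClosure {J}).map pr := by rw [h1]; trivial
    obtain ⟨n, hn1, hn2⟩ := this
    have h2 : pr (n⁻¹ * g) = 1 := by rw [map_mul, map_inv, hn2, inv_mul_cancel]
    have h3 : n⁻¹ * g ∈ Ks hK := by
      rw [mem_Ks]
      rcases (pr_eq_one _).1 h2 with h4 | h4
      · rw [h4]; exact hK.one
      · rw [h4]; exact hK.neg
    have h5 := (Ks hK).mul_mem (hle hn1) h3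
    rwa [mul_inv_cancel_left] at h5

/-! ### The second class -/

/-- the propagation property -/
def Q (g : SL4) : Prop := ∀ K : Set M, PK K → j0 ∈ K → toM g * j0 * toM g⁻¹ ∈ K

theorem Q.mul {g h : SL4} (hg : Q g) (hh : Q h) : Q (g * h) := by
  intro K hK hj
  have e : toM g * toM g⁻¹ = 1 := by rw [← toM_mul, mul_inv_cancel, toM_one]
  have h1 := hh (cjM (toM g) (toM g⁻¹) K) (hK.conj e) (hg K hK hj)
  rw [mem_cjM] at h1
  rw [_root_.mul_inv_rev, toM_mul, toM_mul]
  simpa only [mul_assoc] using h1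

theorem Q.pow {g : SL4} (hg : Q g) (n : ℕ) : Q (g ^ n) := by
  induction n with
  | zero =>
    intro K hK hj
    rw [pow_zero, inv_one, toM_one, one_mul, mul_one]; exact hj
  | succ n ih => rw [pow_succ]; exact ih.mul hg

/-- the subgroup of elements with the propagation property -/
def Qs : Subgroup SL4 where
  carrier := {g | Q g}
  one_mem' := by
    intro K hK hj
    rw [inv_one, toM_one, one_mul, mul_one]; exact hj
  mul_mem' := fun ha hb => ha.mul hb
  inv_mem' := fun {a} ha => by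
    have h1 : a ^ (orderOf a - 1) = a⁻¹ := by
      rw [eq_inv_iff_mul_eq_one, ← pow_succ, Nat.sub_add_cancel (orderOf_pos a), pow_orderOf_eq_one]
    change Q a⁻¹
    rw [← h1]; exact Q.pow ha _

theorem Q_of_chk (g : SL4) (m m' : M) (h1 : toM g = m) (h2 : toM g⁻¹ = m') (l : List (M × M × M × M × M))
    (h : chk j0 l (m * j0 * m') = true) : Q g := by
  intro K hK hj
  rw [h1, h2]
  exact of_chk hK l j0 _ hj (by decide +kernel) (by decide +kernel) h

theorem q01 : Q (tr 0 1 (by decide) 1) :=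
  Q_of_chk _ !![1, 1, 0, 0; 0, 1, 0, 0; 0, 0, 1, 0; 0, 0, 0, 1] !![1, 2, 0, 0; 0, 1, 0, 0; 0, 0, 1, 0; 0, 0, 0, 1] (by decide +kernel) (by (delta Cfsg.Agent.H546.Fx.Psl.toM Cfsg.Agent.LargeExtra.W2.LFour.PslFacts.tr; set_option synthInstance.maxSize 20000 in open scoped Cfsg.Agent.Lib.MatDec in decide +kernel)) _ ok01

theorem q10 : Q (tr 1 0 (by decide) 1) :=
  Q_of_chk _ !![1, 0, 0, 0; 1, 1, 0, 0; 0, 0, 1, 0; 0, 0, 0, 1] !![1, 0, 0, 0; 2, 1, 0, 0; 0, 0, 1, 0; 0, 0, 0, 1] (by decide +kernel) (by (delta Cfsg.Agent.H546.Fx.Psl.toM Cfsg.Agent.LargeExtra.W2.LFour.PslFacts.tr; set_option synthInstance.maxSize 20000 in open scoped Cfsg.Agent.Lib.MatDec in decide +kernel)) _ ok10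

theorem q12 : Q (tr 1 2 (by decide) 1) :=
  Q_of_chk _ !![1, 0, 0, 0; 0, 1, 1, 0; 0, 0, 1, 0; 0, 0, 0, 1] !![1, 0, 0, 0; 0, 1, 2, 0; 0, 0, 1, 0; 0, 0, 0, 1] (by decide +kernel) (by (delta Cfsg.Agent.H546.Fx.Psl.toM Cfsg.Agent.LargeExtra.W2.LFour.PslFacts.tr; set_option synthInstance.maxSize 20000 in open scoped Cfsg.Agent.Lib.MatDec in decide +kernel)) _ ok12

theorem q21 : Q (tr 2 1 (by decide) 1) :=
  Q_of_chk _ !![1, 0, 0, 0; 0, 1, 0, 0; 0, 1, 1, 0; 0, 0, 0, 1] !![1, 0, 0, 0; 0, 1, 0, 0; 0, 2, 1, 0; 0, 0, 0, 1] (by decide +kernel) (by (delta Cfsg.Agent.H546.Fx.Psl.toM; set_option synthInstance.maxSize 20000 in open scoped Cfsg.Agent.Lib.MatDec in decide +kernel)) _ ok21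

theorem q23 : Q (tr 2 3 (by decide) 1) :=
  Q_of_chk _ !![1, 0, 0, 0; 0, 1, 0, 0; 0, 0, 1, 1; 0, 0, 0, 1] !![1, 0, 0, 0; 0, 1, 0, 0; 0, 0, 1, 2; 0, 0, 0, 1] (by decide +kernel) (by (delta Cfsg.Agent.H546.Fx.Psl.toM Cfsg.Agent.LargeExtra.W2.LFour.PslFacts.tr; set_option synthInstance.maxSize 20000 in open scoped Cfsg.Agent.Lib.MatDec in decide +kernel)) _ ok23

theorem q32 : Q (tr 3 2 (by decide) 1) :=
  Q_of_chk _ !![1, 0, 0, 0; 0, 1, 0, 0; 0, 0, 1, 0; 0, 0, 1, 1] !![1, 0, 0, 0; 0, 1, 0, 0; 0, 0, 1, 0; 0, 0, 2, 1] (by decide +kernel) (by (delta Cfsg.Agent.H546.Fx.Psl.toM Cfsg.Agent.LargeExtra.W2.LFour.PslFacts.tr; set_option synthInstance.maxSize 20000 in open scoped Cfsg.Agent.Lib.MatDec in decide +kernel)) _ ok32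

theorem Q_all (g : SL4) : Q g := by
  have : Qs = ⊤ := eq_top_of_adj Qs q01 q10 q12 q21 q23 q32
  have h : g ∈ Qs := by rw [this]; trivial
  exact h

theorem det_j0 : j0.det = 1 := by (set_option synthInstance.maxSize 20000 in open scoped Cfsg.Agent.Lib.MatDec in decide +kernel)

theorem full_of_j0 {K : Set M} (hK : PK K) (hj : j0 ∈ K) : Full K := by
  refine full_of_conj hK (J := mkSL j0 det_j0) ?_ ?_
  · intro h
    rcases (pr_eq_one _).1 h with h | h
    · exact absurd h (by decide +kernel : j0 ≠ 1)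
    · exact absurd h (by decide +kernel : j0 ≠ -1)
  · intro g
    rw [mem_Ks, toM_mul, toM_mul, toM_mkSL]
    exact Q_all g K hK hj

/-! ### The first class -/

def d0 : M := !![2, 0, 0, 0; 0, 2, 0, 0; 0, 0, 1, 0; 0, 0, 0, 1]
def I4 : M := !![0, 2, 0, 0; 1, 0, 0, 0; 0, 0, 1, 0; 0, 0, 0, 1]
def J4 : M := !![1, 1, 0, 0; 1, 2, 0, 0; 0, 0, 1, 0; 0, 0, 0, 1]
def e12 : M := !![1, 1, 0, 0; 0, 1, 0, 0; 0, 0, 1, 0; 0, 0, 0, 1]
def e21 : M := !![1, 0, 0, 0; 1, 1, 0, 0; 0, 0, 1, 0; 0, 0, 0, 1]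
def e34 : M := !![1, 0, 0, 0; 0, 1, 0, 0; 0, 0, 1, 1; 0, 0, 0, 1]
def e31 : M := !![1, 0, 0, 0; 0, 1, 0, 0; 1, 0, 1, 0; 0, 0, 0, 1]
def e32 : M := !![1, 0, 0, 0; 0, 1, 0, 0; 0, 1, 1, 0; 0, 0, 0, 1]
def e14 : M := !![1, 0, 0, 1; 0, 1, 0, 0; 0, 0, 1, 0; 0, 0, 0, 1]
def e24 : M := !![1, 0, 0, 0; 0, 1, 0, 1; 0, 0, 1, 0; 0, 0, 0, 1]

def c2 : Fin 5 → M := ![!![1, 0, 0, 0; 0, 1, 0, 0; 0, 0, 1, 0; 0, 0, 0, 1],
    !![0, 2, 0, 0; 1, 0, 0, 0; 0, 0, 1, 0; 0, 0, 0, 1],
    !![1, 1, 0, 0; 1, 2, 0, 0; 0, 0, 1, 0; 0, 0, 0, 1],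
    !![2, 1, 0, 0; 1, 1, 0, 0; 0, 0, 1, 0; 0, 0, 0, 1],
    !![1, 0, 0, 0; 0, 1, 0, 0; 0, 0, 0, 2; 0, 0, 1, 0]]
def c2i : Fin 5 → M := ![!![1, 0, 0, 0; 0, 1, 0, 0; 0, 0, 1, 0; 0, 0, 0, 1],
    !![0, 1, 0, 0; 2, 0, 0, 0; 0, 0, 1, 0; 0, 0, 0, 1],
    !![2, 2, 0, 0; 2, 1, 0, 0; 0, 0, 1, 0; 0, 0, 0, 1],
    !![1, 2, 0, 0; 2, 2, 0, 0; 0, 0, 1, 0; 0, 0, 0, 1],
    !![1, 0, 0, 0; 0, 1, 0, 0; 0, 0, 0, 1; 0, 0, 2, 0]]
def P2 : Fin 4 → M := ![!![1, 0, 0, 0; 0, 1, 0, 0; 0, 0, 1, 0; 0, 0, 0, 1],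
    !![1, 1, 0, 0; 0, 1, 0, 0; 0, 0, 1, 0; 0, 0, 0, 1],
    !![1, 1, 0, 0; 2, 0, 0, 0; 0, 0, 1, 0; 0, 0, 0, 1],
    !![0, 0, 1, 0; 0, 0, 0, 1; 1, 0, 0, 0; 0, 1, 0, 0]]
def P2i : Fin 4 → M := ![!![1, 0, 0, 0; 0, 1, 0, 0; 0, 0, 1, 0; 0, 0, 0, 1],
    !![1, 2, 0, 0; 0, 1, 0, 0; 0, 0, 1, 0; 0, 0, 0, 1],
    !![0, 2, 0, 0; 1, 1, 0, 0; 0, 0, 1, 0; 0, 0, 0, 1],
    !![0, 0, 1, 0; 0, 0, 0, 1; 1, 0, 0, 0; 0, 1, 0, 0]]
def cJ : Fin 5 → M := ![!![1, 0, 0, 0; 0, 1, 0, 0; 0, 0, 1, 0; 0, 0, 0, 1],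
    !![1, 0, 0, 0; 0, 1, 0, 0; 0, 0, 0, 2; 0, 0, 1, 0],
    !![1, 0, 0, 0; 0, 1, 0, 0; 0, 0, 1, 1; 0, 0, 1, 2],
    !![1, 0, 0, 0; 0, 1, 0, 0; 0, 0, 2, 1; 0, 0, 1, 1],
    !![1, 1, 0, 0; 1, 2, 0, 0; 0, 0, 1, 0; 0, 0, 0, 1]]
def cJi : Fin 5 → M := ![!![1, 0, 0, 0; 0, 1, 0, 0; 0, 0, 1, 0; 0, 0, 0, 1],
    !![1, 0, 0, 0; 0, 1, 0, 0; 0, 0, 0, 1; 0, 0, 2, 0],
    !![1, 0, 0, 0; 0, 1, 0, 0; 0, 0, 2, 2; 0, 0, 2, 1],
    !![1, 0, 0, 0; 0, 1, 0, 0; 0, 0, 1, 2; 0, 0, 2, 2],
    !![2, 2, 0, 0; 2, 1, 0, 0; 0, 0, 1, 0; 0, 0, 0, 1]]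
def c12 : Fin 5 → M := ![!![1, 0, 0, 0; 0, 1, 0, 0; 0, 0, 1, 0; 0, 0, 0, 1],
    !![1, 0, 0, 0; 0, 1, 0, 0; 0, 0, 0, 2; 0, 0, 1, 0],
    !![1, 0, 0, 0; 0, 1, 0, 0; 0, 0, 1, 1; 0, 0, 1, 2],
    !![1, 0, 0, 0; 0, 1, 0, 0; 0, 0, 2, 1; 0, 0, 1, 1],
    !![1, 1, 0, 0; 0, 1, 0, 0; 0, 0, 1, 0; 0, 0, 0, 1]]
def c12i : Fin 5 → M := ![!![1, 0, 0, 0; 0, 1, 0, 0; 0, 0, 1, 0; 0, 0, 0, 1],
    !![1, 0, 0, 0; 0, 1, 0, 0; 0, 0, 0, 1; 0, 0, 2, 0],
    !![1, 0, 0, 0; 0, 1, 0, 0; 0, 0, 2, 2; 0, 0, 2, 1],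
    !![1, 0, 0, 0; 0, 1, 0, 0; 0, 0, 1, 2; 0, 0, 2, 2],
    !![1, 2, 0, 0; 0, 1, 0, 0; 0, 0, 1, 0; 0, 0, 0, 1]]
def c21 : Fin 5 → M := ![!![1, 0, 0, 0; 0, 1, 0, 0; 0, 0, 1, 0; 0, 0, 0, 1],
    !![1, 0, 0, 0; 0, 1, 0, 0; 0, 0, 0, 2; 0, 0, 1, 0],
    !![1, 0, 0, 0; 0, 1, 0, 0; 0, 0, 1, 1; 0, 0, 1, 2],
    !![1, 0, 0, 0; 0, 1, 0, 0; 0, 0, 2, 1; 0, 0, 1, 1],
    !![1, 0, 0, 0; 1, 1, 0, 0; 0, 0, 1, 0; 0, 0, 0, 1]]
def c21i : Fin 5 → M := ![!![1, 0, 0, 0; 0, 1, 0, 0; 0, 0, 1, 0; 0, 0, 0, 1],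
    !![1, 0, 0, 0; 0, 1, 0, 0; 0, 0, 0, 1; 0, 0, 2, 0],
    !![1, 0, 0, 0; 0, 1, 0, 0; 0, 0, 2, 2; 0, 0, 2, 1],
    !![1, 0, 0, 0; 0, 1, 0, 0; 0, 0, 1, 2; 0, 0, 2, 2],
    !![1, 0, 0, 0; 2, 1, 0, 0; 0, 0, 1, 0; 0, 0, 0, 1]]
def c34 : Fin 5 → M := ![!![1, 0, 0, 0; 0, 1, 0, 0; 0, 0, 1, 0; 0, 0, 0, 1],
    !![1, 0, 0, 0; 0, 1, 0, 0; 0, 0, 0, 2; 0, 0, 1, 0],
    !![1, 0, 0, 0; 0, 1, 0, 0; 0, 0, 1, 1; 0, 0, 1, 2],
    !![1, 0, 0, 0; 0, 1, 0, 0; 0, 0, 2, 1; 0, 0, 1, 1],
    !![1, 0, 0, 0; 0, 1, 0, 0; 0, 0, 1, 1; 0, 0, 0, 1]]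
def c34i : Fin 5 → M := ![!![1, 0, 0, 0; 0, 1, 0, 0; 0, 0, 1, 0; 0, 0, 0, 1],
    !![1, 0, 0, 0; 0, 1, 0, 0; 0, 0, 0, 1; 0, 0, 2, 0],
    !![1, 0, 0, 0; 0, 1, 0, 0; 0, 0, 2, 2; 0, 0, 2, 1],
    !![1, 0, 0, 0; 0, 1, 0, 0; 0, 0, 1, 2; 0, 0, 2, 2],
    !![1, 0, 0, 0; 0, 1, 0, 0; 0, 0, 1, 2; 0, 0, 0, 1]]
def P4 : Fin 4 → M := ![!![1, 0, 0, 0; 0, 1, 0, 0; 0, 0, 1, 0; 0, 0, 0, 1],
    !![1, 0, 0, 0; 0, 1, 0, 0; 0, 0, 0, 2; 0, 0, 1, 0],
    !![1, 0, 0, 0; 0, 1, 0, 0; 0, 0, 1, 1; 0, 0, 1, 2],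
    !![1, 0, 0, 0; 0, 1, 0, 0; 0, 0, 2, 1; 0, 0, 1, 1]]
def P4i : Fin 4 → M := ![!![1, 0, 0, 0; 0, 1, 0, 0; 0, 0, 1, 0; 0, 0, 0, 1],
    !![1, 0, 0, 0; 0, 1, 0, 0; 0, 0, 0, 1; 0, 0, 2, 0],
    !![1, 0, 0, 0; 0, 1, 0, 0; 0, 0, 2, 2; 0, 0, 2, 1],
    !![1, 0, 0, 0; 0, 1, 0, 0; 0, 0, 1, 2; 0, 0, 2, 2]]
def q8 : Fin 8 → M := ![!![1, 0, 0, 0; 0, 1, 0, 0; 0, 0, 1, 0; 0, 0, 0, 1],
    !![0, 2, 0, 0; 1, 0, 0, 0; 0, 0, 1, 0; 0, 0, 0, 1],
    !![1, 1, 0, 0; 1, 2, 0, 0; 0, 0, 1, 0; 0, 0, 0, 1],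
    !![2, 1, 0, 0; 1, 1, 0, 0; 0, 0, 1, 0; 0, 0, 0, 1],
    !![2, 0, 0, 0; 0, 2, 0, 0; 0, 0, 1, 0; 0, 0, 0, 1],
    !![0, 1, 0, 0; 2, 0, 0, 0; 0, 0, 1, 0; 0, 0, 0, 1],
    !![2, 2, 0, 0; 2, 1, 0, 0; 0, 0, 1, 0; 0, 0, 0, 1],
    !![1, 2, 0, 0; 2, 2, 0, 0; 0, 0, 1, 0; 0, 0, 0, 1]]
def q8i : Fin 8 → M := ![!![1, 0, 0, 0; 0, 1, 0, 0; 0, 0, 1, 0; 0, 0, 0, 1],
    !![0, 1, 0, 0; 2, 0, 0, 0; 0, 0, 1, 0; 0, 0, 0, 1],
    !![2, 2, 0, 0; 2, 1, 0, 0; 0, 0, 1, 0; 0, 0, 0, 1],
    !![1, 2, 0, 0; 2, 2, 0, 0; 0, 0, 1, 0; 0, 0, 0, 1],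
    !![2, 0, 0, 0; 0, 2, 0, 0; 0, 0, 1, 0; 0, 0, 0, 1],
    !![0, 2, 0, 0; 1, 0, 0, 0; 0, 0, 1, 0; 0, 0, 0, 1],
    !![1, 1, 0, 0; 1, 2, 0, 0; 0, 0, 1, 0; 0, 0, 0, 1],
    !![2, 1, 0, 0; 1, 1, 0, 0; 0, 0, 1, 0; 0, 0, 0, 1]]
def cA : Fin 5 → M := ![!![1, 0, 0, 0; 0, 1, 0, 0; 0, 0, 1, 0; 0, 0, 0, 1],
    !![1, 0, 0, 0; 0, 1, 0, 0; 1, 0, 1, 0; 0, 0, 0, 1],
    !![1, 0, 0, 0; 0, 1, 0, 0; 2, 0, 1, 0; 0, 0, 0, 1],
    !![1, 0, 0, 0; 0, 1, 0, 0; 0, 1, 1, 0; 0, 0, 0, 1],
    !![1, 0, 0, 0; 0, 1, 0, 0; 1, 1, 1, 0; 0, 0, 0, 1]]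
def cAi : Fin 5 → M := ![!![1, 0, 0, 0; 0, 1, 0, 0; 0, 0, 1, 0; 0, 0, 0, 1],
    !![1, 0, 0, 0; 0, 1, 0, 0; 2, 0, 1, 0; 0, 0, 0, 1],
    !![1, 0, 0, 0; 0, 1, 0, 0; 1, 0, 1, 0; 0, 0, 0, 1],
    !![1, 0, 0, 0; 0, 1, 0, 0; 0, 2, 1, 0; 0, 0, 0, 1],
    !![1, 0, 0, 0; 0, 1, 0, 0; 2, 2, 1, 0; 0, 0, 0, 1]]
def cB : Fin 5 → M := ![!![1, 0, 0, 0; 0, 1, 0, 0; 0, 0, 1, 0; 0, 0, 0, 1],
    !![1, 0, 0, 1; 0, 1, 0, 0; 0, 0, 1, 0; 0, 0, 0, 1],
    !![1, 0, 0, 2; 0, 1, 0, 0; 0, 0, 1, 0; 0, 0, 0, 1],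
    !![1, 0, 0, 0; 0, 1, 0, 1; 0, 0, 1, 0; 0, 0, 0, 1],
    !![1, 0, 0, 1; 0, 1, 0, 1; 0, 0, 1, 0; 0, 0, 0, 1]]
def cBi : Fin 5 → M := ![!![1, 0, 0, 0; 0, 1, 0, 0; 0, 0, 1, 0; 0, 0, 0, 1],
    !![1, 0, 0, 2; 0, 1, 0, 0; 0, 0, 1, 0; 0, 0, 0, 1],
    !![1, 0, 0, 1; 0, 1, 0, 0; 0, 0, 1, 0; 0, 0, 0, 1],
    !![1, 0, 0, 0; 0, 1, 0, 2; 0, 0, 1, 0; 0, 0, 0, 1],
    !![1, 0, 0, 2; 0, 1, 0, 2; 0, 0, 1, 0; 0, 0, 0, 1]]

/-- not in `K` if `K` contains no matrix with square `-1` but `I4` -/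
def Bad (m : M) : Prop := m * m = -1 ∨ (I4 * m) * (I4 * m) = -1 ∨ (I4 * (m * m * m)) * (I4 * (m * m * m)) = -1

instance decBad (m : M) : Decidable (Bad m) := by unfold Bad; infer_instance

theorem not_bad {K : Set M} (hK : PK K) (nb : ∀ m ∈ K, m * m ≠ -1) (hI : I4 ∈ K) {m : M} (hm : m ∈ K) : ¬ Bad m := by
  rintro (h | h | h)
  · exact nb _ hm h
  · exact nb _ (hK.mul hI hm) h
  · exact nb _ (hK.mul hI (hK.mul (hK.mul hm hm) hm)) h

theorem d0_ne : d0 ≠ 1 ∧ d0 ≠ -1 := by decide +kernel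

theorem sgn {K : Set M} (hK : PK K) (hd : d0 ∈ K) {m p : M} (hm : m ∈ K)
    (h : p = m ∨ p = m * d0 ∨ p = -m ∨ p = -(m * d0)) : p ∈ K := by
  have hn : ∀ {a : M}, a ∈ K → -a ∈ K := by
    intro a ha
    have := hK.mul hK.neg ha
    rwa [neg_one_mul] at this
  rcases h with rfl | rfl | rfl | rfl
  · exact hm
  · exact hK.mul hm hd
  · exact hn hm
  · exact hn (hK.mul hm hd)

/-- step 2: up to conjugation `I4 ∈ K` -/
theorem step2 {K : Set M} (hK : PK K) (nb : ∀ m ∈ K, m * m ≠ -1) (hd : d0 ∈ K) :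
    ∃ l : Fin 4, I4 ∈ cjM (P2 l) (P2i l) K ∧ d0 ∈ cjM (P2 l) (P2i l) K := by
  obtain ⟨i, j, hij, hm⟩ := hK.pig d0 hd d0_ne.1 d0_ne.2 c2 c2i (by (delta Cfsg.Agent.H546.Fx.Psl.c2i Cfsg.Agent.H546.Fx.Psl.c2; set_option synthInstance.maxSize 20000 in open scoped Cfsg.Agent.Lib.MatDec in decide +kernel)) (by (set_option synthInstance.maxSize 20000 in open scoped Cfsg.Agent.Lib.MatDec in decide +kernel)) (by (delta Cfsg.Agent.H546.Fx.Psl.c2; set_option synthInstance.maxSize 20000 in open scoped Cfsg.Agent.Lib.MatDec in decide +kernel))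
  have key : ∀ i j : Fin 5, i < j → (c2i i * c2 j) * (c2i i * c2 j) = -1 ∨ ∃ l : Fin 4,
      P2 l * I4 * P2i l = c2i i * c2 j ∨ P2 l * I4 * P2i l = c2i i * c2 j * d0 ∨ P2 l * I4 * P2i l = -(c2i i * c2 j) ∨
      P2 l * I4 * P2i l = -(c2i i * c2 j * d0) := by (set_option synthInstance.maxSize 20000 in open scoped Cfsg.Agent.Lib.MatDec in decide +kernel)
  have key2 : ∀ l : Fin 4, P2 l * d0 * P2i l = d0 ∨ P2 l * d0 * P2i l = -d0 := by (delta Cfsg.Agent.H546.Fx.Psl.P2 Cfsg.Agent.H546.Fx.Psl.P2i; set_option synthInstance.maxSize 20000 in open scoped Cfsg.Agent.Lib.MatDec in decide +kernel)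
  rcases key i j hij with h | ⟨l, h⟩
  · exact absurd h (nb _ hm)
  · refine ⟨l, ?_, ?_⟩
    · rw [mem_cjM]; exact sgn hK hd hm h
    · rw [mem_cjM]
      rcases key2 l with h2 | h2
      · rw [h2]; exact hd
      · exact sgn hK hd hd (Or.inr (Or.inr (Or.inl h2)))

theorem stepJ {K : Set M} (hK : PK K) (nb : ∀ m ∈ K, m * m ≠ -1) (hd : d0 ∈ K) (hI : I4 ∈ K) : J4 ∈ K := by
  obtain ⟨i, j, hij, hm⟩ := hK.pig d0 hd d0_ne.1 d0_ne.2 cJ cJi (by (set_option synthInstance.maxSize 20000 in open scoped Cfsg.Agent.Lib.MatDec in decide +kernel)) (by (delta Cfsg.Agent.H546.Fx.Psl.cJ; set_option synthInstance.maxSize 20000 in open scoped Cfsg.Agent.Lib.MatDec in decide +kernel)) (by (set_option synthInstance.maxSize 20000 in open scoped Cfsg.Agent.Lib.MatDec in decide +kernel))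
  have key : ∀ i j : Fin 5, i < j → Bad (cJi i * cJ j) ∨ cJi i * cJ j = J4 := by (delta Cfsg.Agent.H546.Fx.Psl.Bad Cfsg.Agent.H546.Fx.Psl.cJi Cfsg.Agent.H546.Fx.Psl.cJ; set_option synthInstance.maxSize 20000 in open scoped Cfsg.Agent.Lib.MatDec in decide +kernel)
  rcases key i j hij with h | h
  · exact absurd h (not_bad hK nb hI hm)
  · rwa [h] at hm

theorem step12 {K : Set M} (hK : PK K) (nb : ∀ m ∈ K, m * m ≠ -1) (hd : d0 ∈ K) (hI : I4 ∈ K) : e12 ∈ K := by
  obtain ⟨i, j, hij, hm⟩ := hK.pig d0 hd d0_ne.1 d0_ne.2 c12 c12i (by (delta Cfsg.Agent.H546.Fx.Psl.c12i Cfsg.Agent.H546.Fx.Psl.c12; set_option synthInstance.maxSize 20000 in open scoped Cfsg.Agent.Lib.MatDec in decide +kernel)) (by (delta Cfsg.Agent.H546.Fx.Psl.c12; set_option synthInstance.maxSize 20000 in open scoped Cfsg.Agent.Lib.MatDec in decide +kernel)) (by (set_option synthInstance.maxSize 20000 in open scoped Cfsg.Agent.Lib.MatDec in decide +kernel))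
  have key : ∀ i j : Fin 5, i < j → Bad (c12i i * c12 j) ∨ c12i i * c12 j = e12 := by (delta Cfsg.Agent.H546.Fx.Psl.Bad; set_option synthInstance.maxSize 20000 in open scoped Cfsg.Agent.Lib.MatDec in decide +kernel)
  rcases key i j hij with h | h
  · exact absurd h (not_bad hK nb hI hm)
  · rwa [h] at hm

theorem step21 {K : Set M} (hK : PK K) (nb : ∀ m ∈ K, m * m ≠ -1) (hd : d0 ∈ K) (hI : I4 ∈ K) : e21 ∈ K := by
  obtain ⟨i, j, hij, hm⟩ := hK.pig d0 hd d0_ne.1 d0_ne.2 c21 c21i (by (set_option synthInstance.maxSize 20000 in open scoped Cfsg.Agent.Lib.MatDec in decide +kernel)) (by (set_option synthInstance.maxSize 20000 in open scoped Cfsg.Agent.Lib.MatDec in decide +kernel)) (by (set_option synthInstance.maxSize 20000 in open scoped Cfsg.Agent.Lib.MatDec in decide +kernel))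
  have key : ∀ i j : Fin 5, i < j → Bad (c21i i * c21 j) ∨ c21i i * c21 j = e21 := by (delta Cfsg.Agent.H546.Fx.Psl.Bad Cfsg.Agent.H546.Fx.Psl.c21i Cfsg.Agent.H546.Fx.Psl.c21; set_option synthInstance.maxSize 20000 in open scoped Cfsg.Agent.Lib.MatDec in decide +kernel)
  rcases key i j hij with h | h
  · exact absurd h (not_bad hK nb hI hm)
  · rwa [h] at hm

theorem step34 {K : Set M} (hK : PK K) (nb : ∀ m ∈ K, m * m ≠ -1) (hd : d0 ∈ K) (hI : I4 ∈ K) :
    ∃ l : Fin 4, e34 ∈ cjM (P4 l) (P4i l) K := by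
  obtain ⟨i, j, hij, hm⟩ := hK.pig d0 hd d0_ne.1 d0_ne.2 c34 c34i (by (set_option synthInstance.maxSize 20000 in open scoped Cfsg.Agent.Lib.MatDec in decide +kernel)) (by (set_option synthInstance.maxSize 20000 in open scoped Cfsg.Agent.Lib.MatDec in decide +kernel)) (by (delta Cfsg.Agent.H546.Fx.Psl.c34; set_option synthInstance.maxSize 20000 in open scoped Cfsg.Agent.Lib.MatDec in decide +kernel))
  have key : ∀ i j : Fin 5, i < j → Bad (c34i i * c34 j) ∨ ∃ l : Fin 4,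
      P4 l * e34 * P4i l = c34i i * c34 j ∨ P4 l * e34 * P4i l = c34i i * c34 j * d0 ∨
      P4 l * e34 * P4i l = -(c34i i * c34 j) ∨ P4 l * e34 * P4i l = -(c34i i * c34 j * d0) := by (delta Cfsg.Agent.H546.Fx.Psl.Bad; set_option synthInstance.maxSize 20000 in open scoped Cfsg.Agent.Lib.MatDec in decide +kernel)
  rcases key i j hij with h | ⟨l, h⟩
  · exact absurd h (not_bad hK nb hI hm)
  · exact ⟨l, sgn hK hd hm h⟩

theorem q8_mem {K : Set M} (hK : PK K) (hd : d0 ∈ K) (hI : I4 ∈ K) (hJ : J4 ∈ K) : ∀ l, q8 l ∈ K := by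
  have h0 : q8 0 = 1 := by decide +kernel
  have h1 : q8 1 = I4 := by decide +kernel
  have h2 : q8 2 = J4 := by decide +kernel
  have h3 : q8 3 = I4 * J4 := by decide +kernel
  have h4 : q8 4 = d0 := by decide +kernel
  have h5 : q8 5 = d0 * I4 := by decide +kernel
  have h6 : q8 6 = d0 * J4 := by (set_option synthInstance.maxSize 20000 in open scoped Cfsg.Agent.Lib.MatDec in decide +kernel)
  have h7 : q8 7 = d0 * (I4 * J4) := by (delta Cfsg.Agent.H546.Fx.Psl.q8; set_option synthInstance.maxSize 20000 in open scoped Cfsg.Agent.Lib.MatDec in decide +kernel)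
  intro l
  fin_cases l
  · change q8 0 ∈ K; rw [h0]; exact hK.one
  · change q8 1 ∈ K; rw [h1]; exact hI
  · change q8 2 ∈ K; rw [h2]; exact hJ
  · change q8 3 ∈ K; rw [h3]; exact hK.mul hI hJ
  · change q8 4 ∈ K; rw [h4]; exact hd
  · change q8 5 ∈ K; rw [h5]; exact hK.mul hd hI
  · change q8 6 ∈ K; rw [h6]; exact hK.mul hd hJ
  · change q8 7 ∈ K; rw [h7]; exact hK.mul hd (hK.mul hI hJ)

theorem e34_ne : e34 ≠ 1 ∧ e34 ≠ -1 := by decide +kernel

theorem stepA {K : Set M} (hK : PK K) (hd : d0 ∈ K) (hI : I4 ∈ K) (hJ : J4 ∈ K) (h34 : e34 ∈ K) : e31 ∈ K ∧ e32 ∈ K := by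
  obtain ⟨i, j, hij, hm⟩ := hK.pig e34 h34 e34_ne.1 e34_ne.2 cA cAi (by (delta Cfsg.Agent.H546.Fx.Psl.cAi Cfsg.Agent.H546.Fx.Psl.cA; set_option synthInstance.maxSize 20000 in open scoped Cfsg.Agent.Lib.MatDec in decide +kernel)) (by (set_option synthInstance.maxSize 20000 in open scoped Cfsg.Agent.Lib.MatDec in decide +kernel)) (by (set_option synthInstance.maxSize 20000 in open scoped Cfsg.Agent.Lib.MatDec in decide +kernel))
  have key : ∀ i j : Fin 5, i < j → (∃ l : Fin 8, q8 l * (cAi i * cA j) * q8i l = e31) ∧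
      (∃ l : Fin 8, q8 l * (cAi i * cA j) * q8i l = e32) := by (delta Cfsg.Agent.H546.Fx.Psl.q8 Cfsg.Agent.H546.Fx.Psl.cAi Cfsg.Agent.H546.Fx.Psl.cA Cfsg.Agent.H546.Fx.Psl.q8i; set_option synthInstance.maxSize 20000 in open scoped Cfsg.Agent.Lib.MatDec in decide +kernel)
  have hq := q8_mem hK hd hI hJ
  have hqi : ∀ l, q8 l * q8i l = 1 := by (delta Cfsg.Agent.H546.Fx.Psl.q8 Cfsg.Agent.H546.Fx.Psl.q8i; set_option synthInstance.maxSize 20000 in open scoped Cfsg.Agent.Lib.MatDec in decide +kernel)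
  obtain ⟨⟨l, h1⟩, ⟨l', h2⟩⟩ := key i j hij
  constructor
  · rw [← h1]; exact hK.mul (hK.mul (hq l) hm) (hK.inv (hq l) (hqi l))
  · rw [← h2]; exact hK.mul (hK.mul (hq l') hm) (hK.inv (hq l') (hqi l'))

theorem stepB {K : Set M} (hK : PK K) (hd : d0 ∈ K) (hI : I4 ∈ K) (hJ : J4 ∈ K) (h34 : e34 ∈ K) : e14 ∈ K ∧ e24 ∈ K := by
  obtain ⟨i, j, hij, hm⟩ := hK.pig e34 h34 e34_ne.1 e34_ne.2 cB cBi (by (delta Cfsg.Agent.H546.Fx.Psl.cBi Cfsg.Agent.H546.Fx.Psl.cB; set_option synthInstance.maxSize 20000 in open scoped Cfsg.Agent.Lib.MatDec in decide +kernel)) (by (set_option synthInstance.maxSize 20000 in open scoped Cfsg.Agent.Lib.MatDec in decide +kernel)) (by (delta Cfsg.Agent.H546.Fx.Psl.cB; set_option synthInstance.maxSize 20000 in open scoped Cfsg.Agent.Lib.MatDec in decide +kernel))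
  have key : ∀ i j : Fin 5, i < j → (∃ l : Fin 8, q8 l * (cBi i * cB j) * q8i l = e14) ∧
      (∃ l : Fin 8, q8 l * (cBi i * cB j) * q8i l = e24) := by (delta Cfsg.Agent.H546.Fx.Psl.q8 Cfsg.Agent.H546.Fx.Psl.cBi Cfsg.Agent.H546.Fx.Psl.cB Cfsg.Agent.H546.Fx.Psl.q8i; set_option synthInstance.maxSize 20000 in open scoped Cfsg.Agent.Lib.MatDec in decide +kernel)
  have hq := q8_mem hK hd hI hJ
  have hqi : ∀ l, q8 l * q8i l = 1 := by (set_option synthInstance.maxSize 20000 in open scoped Cfsg.Agent.Lib.MatDec in decide +kernel)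
  obtain ⟨⟨l, h1⟩, ⟨l', h2⟩⟩ := key i j hij
  constructor
  · rw [← h1]; exact hK.mul (hK.mul (hq l) hm) (hK.inv (hq l) (hqi l))
  · rw [← h2]; exact hK.mul (hK.mul (hq l') hm) (hK.inv (hq l') (hqi l'))

theorem pow13 {z z2 z4 : M} (h2 : z * z = z2) (h4 : z2 * z2 = z4) (h : z4 * z4 * z4 * z = 1) : z ^ 13 = 1 := by
  rw [← h4, ← h2] at h
  rw [← h]
  noncomm_ring

def e41 : M := !![1, 0, 0, 0; 0, 1, 0, 0; 0, 0, 1, 0; 1, 0, 0, 1]
def e13 : M := !![1, 0, 1, 0; 0, 1, 0, 0; 0, 0, 1, 0; 0, 0, 0, 1]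
def e23 : M := !![1, 0, 0, 0; 0, 1, 1, 0; 0, 0, 1, 0; 0, 0, 0, 1]
def e43 : M := !![1, 0, 0, 0; 0, 1, 0, 0; 0, 0, 1, 0; 0, 0, 1, 1]

theorem step41 {K : Set M} (hK : PK K) (h : ∀ i, (![e31, e32, e34] : Fin 3 → M) i ∈ K) : e41 ∈ K := by
  have hz : (!![0, 0, 0, 1; 0, 1, 0, 1; 0, 0, 1, 0; 2, 1, 0, 2] : M) ∈ K := by
    refine hK.thirteen ![e31, e32, e34] h (by decide +kernel) (by decide +kernel) _ !![1, 1, 0, 2; 2, 1, 0, 0; 0, 0, 1, 0; 1, 0, 0, 0]
      (by decide +kernel) (pow13 (z2 := !![2, 1, 0, 2; 2, 2, 0, 0; 0, 0, 1, 0; 1, 0, 0, 1]) (z4 := !![2, 1, 0, 0; 2, 0, 0, 1; 0, 0, 1, 0; 0, 1, 0, 0])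
        (by (set_option synthInstance.maxSize 20000 in open scoped Cfsg.Agent.Lib.MatDec in decide +kernel)) (by decide +kernel) (by (set_option synthInstance.maxSize 20000 in open scoped Cfsg.Agent.Lib.MatDec in decide +kernel))) (by (set_option synthInstance.maxSize 20000 in open scoped Cfsg.Agent.Lib.MatDec in decide +kernel))
  have hw : (!![0, 1, 0, 2; 2, 1, 0, 0; 0, 0, 1, 0; 1, 0, 0, 0] : M) ∈ K := by
    refine hK.thirteen ![e31, e32, e34] h (by decide +kernel) (by decide +kernel) _ !![0, 0, 0, 1; 0, 1, 0, 1; 0, 0, 1, 0; 2, 1, 0, 1]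
      (by decide +kernel) (pow13 (z2 := !![1, 1, 0, 0; 2, 0, 0, 1; 0, 0, 1, 0; 0, 1, 0, 2]) (z4 := !![0, 1, 0, 1; 2, 0, 0, 2; 0, 0, 1, 0; 2, 2, 0, 2])
        (by decide +kernel) (by decide +kernel) (by (set_option synthInstance.maxSize 20000 in open scoped Cfsg.Agent.Lib.MatDec in decide +kernel))) (by (set_option synthInstance.maxSize 20000 in open scoped Cfsg.Agent.Lib.MatDec in decide +kernel))
  have := hK.mul hz hw
  have e : (!![0, 0, 0, 1; 0, 1, 0, 1; 0, 0, 1, 0; 2, 1, 0, 2] : M) * !![0, 1, 0, 2; 2, 1, 0, 0; 0, 0, 1, 0; 1, 0, 0, 0] = e41 := by decide +kernel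
  rwa [e] at this

theorem step13 {K : Set M} (hK : PK K) (h : ∀ i, (![e14, e24, e34] : Fin 3 → M) i ∈ K) : e13 ∈ K := by
  have hz : (!![0, 0, 1, 0; 0, 1, 1, 0; 2, 1, 1, 0; 0, 0, 0, 1] : M) ∈ K := by
    refine hK.thirteen ![e14, e24, e34] h (by decide +kernel) (by decide +kernel) _ !![0, 1, 2, 0; 2, 1, 0, 0; 1, 0, 0, 0; 0, 0, 0, 1]
      (by decide +kernel) (pow13 (z2 := !![2, 1, 1, 0; 2, 2, 2, 0; 2, 2, 1, 0; 0, 0, 0, 1]) (z4 := !![2, 0, 2, 0; 0, 1, 2, 0; 1, 2, 1, 0; 0, 0, 0, 1])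
        (by decide +kernel) (by decide +kernel) (by (set_option synthInstance.maxSize 20000 in open scoped Cfsg.Agent.Lib.MatDec in decide +kernel))) (by (set_option synthInstance.maxSize 20000 in open scoped Cfsg.Agent.Lib.MatDec in decide +kernel))
  have hw : (!![0, 1, 2, 0; 2, 1, 2, 0; 1, 0, 1, 0; 0, 0, 0, 1] : M) ∈ K := by
    refine hK.thirteen ![e14, e24, e34] h (by decide +kernel) (by decide +kernel) _ !![1, 2, 0, 0; 0, 1, 1, 0; 2, 1, 1, 0; 0, 0, 0, 1]
      (by decide +kernel) (pow13 (z2 := !![1, 1, 1, 0; 1, 0, 2, 0; 1, 1, 0, 0; 0, 0, 0, 1]) (z4 := !![0, 2, 0, 0; 0, 0, 1, 0; 2, 1, 0, 0; 0, 0, 0, 1])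
        (by decide +kernel) (by decide +kernel) (by (set_option synthInstance.maxSize 20000 in open scoped Cfsg.Agent.Lib.MatDec in decide +kernel))) (by (set_option synthInstance.maxSize 20000 in open scoped Cfsg.Agent.Lib.MatDec in decide +kernel))
  have := hK.mul hz hw
  have e : (!![0, 0, 1, 0; 0, 1, 1, 0; 2, 1, 1, 0; 0, 0, 0, 1] : M) * !![0, 1, 2, 0; 2, 1, 2, 0; 1, 0, 1, 0; 0, 0, 0, 1] = e13 := by (set_option synthInstance.maxSize 20000 in open scoped Cfsg.Agent.Lib.MatDec in decide +kernel)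
  rwa [e] at this

theorem step23 {K : Set M} (hK : PK K) (h : ∀ i, (![e14, e24, e34] : Fin 3 → M) i ∈ K) : e23 ∈ K := by
  have hz : (!![0, 0, 1, 0; 0, 1, 2, 0; 2, 1, 0, 0; 0, 0, 0, 1] : M) ∈ K := by
    refine hK.thirteen ![e14, e24, e34] h (by decide +kernel) (by decide +kernel) _ !![1, 1, 2, 0; 1, 1, 0, 0; 1, 0, 0, 0; 0, 0, 0, 1]
      (by decide +kernel) (pow13 (z2 := !![2, 1, 0, 0; 1, 0, 2, 0; 0, 1, 1, 0; 0, 0, 0, 1]) (z4 := !![2, 2, 2, 0; 2, 0, 2, 0; 1, 1, 0, 0; 0, 0, 0, 1])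
        (by decide +kernel) (by decide +kernel) (by (set_option synthInstance.maxSize 20000 in open scoped Cfsg.Agent.Lib.MatDec in decide +kernel))) (by (set_option synthInstance.maxSize 20000 in open scoped Cfsg.Agent.Lib.MatDec in decide +kernel))
  have hw : (!![1, 1, 0, 0; 1, 1, 1, 0; 1, 0, 0, 0; 0, 0, 0, 1] : M) ∈ K := by
    refine hK.thirteen ![e14, e24, e34] h (by decide +kernel) (by decide +kernel) _ !![0, 0, 1, 0; 1, 0, 2, 0; 2, 1, 0, 0; 0, 0, 0, 1]
      (by decide +kernel) (pow13 (z2 := !![2, 2, 1, 0; 0, 2, 1, 0; 1, 1, 0, 0; 0, 0, 0, 1]) (z4 := !![2, 0, 1, 0; 1, 2, 2, 0; 2, 1, 2, 0; 0, 0, 0, 1])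
        (by decide +kernel) (by decide +kernel) (by (set_option synthInstance.maxSize 20000 in open scoped Cfsg.Agent.Lib.MatDec in decide +kernel))) (by (set_option synthInstance.maxSize 20000 in open scoped Cfsg.Agent.Lib.MatDec in decide +kernel))
  have := hK.mul hz hw
  have e : (!![0, 0, 1, 0; 0, 1, 2, 0; 2, 1, 0, 0; 0, 0, 0, 1] : M) * !![1, 1, 0, 0; 1, 1, 1, 0; 1, 0, 0, 0; 0, 0, 0, 1] = e23 := by decide +kernel
  rwa [e] at this

theorem full_of_34 {K : Set M} (hK : PK K) (nb : ∀ m ∈ K, m * m ≠ -1) (hd : d0 ∈ K) (hI : I4 ∈ K) (h34 : e34 ∈ K) :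
    Full K := by
  have hJ := stepJ hK nb hd hI
  obtain ⟨h31, h32⟩ := stepA hK hd hI hJ h34
  obtain ⟨h14, h24⟩ := stepB hK hd hI hJ h34
  have hc : ∀ i, (![e31, e32, e34] : Fin 3 → M) i ∈ K := by
    intro i; fin_cases i
    · exact h31
    · exact h32
    · exact h34
  have hw : ∀ i, (![e14, e24, e34] : Fin 3 → M) i ∈ K := by
    intro i; fin_cases i
    · exact h14
    · exact h24
    · exact h34
  have h41 := step41 hK hc
  have h13 := step13 hK hw
  have h23 := step23 hK hw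
  have h43 : e43 ∈ K := by
    have e : e41 * e13 * (!![1, 0, 0, 0; 0, 1, 0, 0; 0, 0, 1, 0; 2, 0, 0, 1] * !![1, 0, 2, 0; 0, 1, 0, 0; 0, 0, 1, 0; 0, 0, 0, 1]) = e43 := by decide +kernel
    rw [← e]
    refine hK.mul (hK.mul h41 h13) (hK.mul (hK.inv h41 ?_) (hK.inv h13 ?_))
    · decide +kernel
    · decide +kernel
  apply full_of_top hK
  apply eq_top_of_adj
  · rw [mem_Ks]
    have e : toM (tr 0 1 (by decide) 1) = e12 := by decide +kernel
    rw [e]; exact step12 hK nb hd hI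
  · rw [mem_Ks]
    have e : toM (tr 1 0 (by decide) 1) = e21 := by decide +kernel
    rw [e]; exact step21 hK nb hd hI
  · rw [mem_Ks]
    have e : toM (tr 1 2 (by decide) 1) = e23 := by decide +kernel
    rw [e]; exact h23
  · rw [mem_Ks]
    have e : toM (tr 2 1 (by decide) 1) = e32 := by decide +kernel
    rw [e]; exact h32
  · rw [mem_Ks]
    have e : toM (tr 2 3 (by decide) 1) = e34 := by decide +kernel
    rw [e]; exact h34
  · rw [mem_Ks]
    have e : toM (tr 3 2 (by decide) 1) = e43 := by decide +kernel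
    rw [e]; exact h43

/-- no matrix of square `-1` after conjugation -/
theorem nb_cj {K : Set M} (nb : ∀ m ∈ K, m * m ≠ -1) {P P' : M} (h : P * P' = 1) : ∀ m ∈ cjM P P' K, m * m ≠ -1 := by
  intro m hm h1
  rw [mem_cjM] at hm
  refine nb _ hm ?_
  have h' : P' * P = 1 := mul_eq_one_comm.1 h
  rw [← cj_mul h', h1, mul_neg, mul_one, neg_mul, h]

theorem full_of_d0 {K : Set M} (hK : PK K) (nb : ∀ m ∈ K, m * m ≠ -1) (hd : d0 ∈ K) : Full K := by
  obtain ⟨l, hI, hd'⟩ := step2 hK nb hd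
  have hP0 : ∀ l, P2 l * P2i l = 1 := by (set_option synthInstance.maxSize 20000 in open scoped Cfsg.Agent.Lib.MatDec in decide +kernel)
  have hP := hP0 l
  refine Full.of_conj hP ?_
  have hK' := hK.conj hP
  have nb' := nb_cj nb hP
  obtain ⟨k, h34⟩ := step34 hK' nb' hd' hI
  have hP4 : ∀ k, P4 k * P4i k = 1 := by (delta Cfsg.Agent.H546.Fx.Psl.P4 Cfsg.Agent.H546.Fx.Psl.P4i; set_option synthInstance.maxSize 20000 in open scoped Cfsg.Agent.Lib.MatDec in decide +kernel)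
  refine Full.of_conj (hP4 k) ?_
  refine full_of_34 (hK'.conj (hP4 k)) (nb_cj nb' (hP4 k)) ?_ ?_ h34
  · rw [mem_cjM]
    have e : ∀ k, P4 k * d0 * P4i k = d0 := by (delta Cfsg.Agent.H546.Fx.Psl.P4 Cfsg.Agent.H546.Fx.Psl.P4i; set_option synthInstance.maxSize 20000 in open scoped Cfsg.Agent.Lib.MatDec in decide +kernel)
    rw [e]; exact hd'
  · rw [mem_cjM]
    have e : ∀ k, P4 k * I4 * P4i k = I4 := by (set_option synthInstance.maxSize 20000 in open scoped Cfsg.Agent.Lib.MatDec in decide +kernel)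
    rw [e]; exact hI

end Cfsg.Agent.H546.Fx.Psl
end

-- part: H546/Fx/PslFin
section
/-!
# `NoEv` for `PSL(4, 3)` (task 2042, for S3002)
-/

set_option autoImplicit false
set_option maxRecDepth 10000

namespace Cfsg.Agent.H546.Fx.Psl

open Matrix Cfsg.Agent.H254.Ev Cfsg.Agent.LargeExtra.W2.LFour.PslFacts

abbrev V4 := Fin 4 → ZMod 3

theorem sq_add (a b : ZMod 3) (h : a * a + b * b = 0) : a = 0 ∧ b = 0 := by
  revert a b; decide

/-- a vector off the span of two -/
theorem exists_off (v w : V4) : ∃ x : V4, ∀ a b : ZMod 3, x ≠ a • v + b • w := by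
  by_contra hcon
  push Not at hcon
  have hs : Function.Surjective (fun p : ZMod 3 × ZMod 3 => p.1 • v + p.2 • w) := by
    intro x
    obtain ⟨a, b, h⟩ := hcon x
    exact ⟨(a, b), h.symm⟩
  have h1 := Fintype.card_le_of_surjective _ hs
  have h2 : Fintype.card V4 = 81 := by simp [V4, ZMod.card]
  have h3 : Fintype.card (ZMod 3 × ZMod 3) = 9 := by simp [ZMod.card]
  omega

/-- the matrix with given columns -/
def cols (v w x y : V4) : M := Matrix.of fun i j => (![v, w, x, y] : Fin 4 → V4) j i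

theorem cols_mulVec (v w x y u : V4) : cols v w x y *ᵥ u = u 0 • v + u 1 • w + u 2 • x + u 3 • y := by
  ext i
  simp only [cols, Matrix.mulVec, dotProduct, Fin.sum_univ_four, Matrix.of_apply, Pi.add_apply, Pi.smul_apply, smul_eq_mul]
  simp only [Matrix.cons_val]
  ring

theorem exists_inv_cols {v w x y : V4} (h : ∀ a b c d : ZMod 3, a • v + b • w + c • x + d • y = 0 → a = 0 ∧ b = 0 ∧ c = 0 ∧ d = 0) :
    ∃ P' : M, cols v w x y * P' = 1 := by
  have hinj : Function.Injective (cols v w x y).mulVec := by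
    intro u u' hu
    have h1 : cols v w x y *ᵥ (u - u') = 0 := by
      rw [Matrix.mulVec_sub]
      exact sub_eq_zero.2 hu
    rw [cols_mulVec] at h1
    obtain ⟨h2, h3, h4, h5⟩ := h _ _ _ _ h1
    have : u - u' = 0 := by
      ext i
      fin_cases i
      · exact h2
      · exact h3
      · exact h4
      · exact h5
    exact sub_eq_zero.1 this
  have hu := Matrix.mulVec_injective_iff_isUnit.1 hinj
  obtain ⟨u, hu⟩ := hu
  exact ⟨(u⁻¹ : Mˣ), by rw [← hu, Units.mul_inv]⟩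

theorem j0_0 (u : V4) : (j0 *ᵥ u) 0 = -u 1 := by
  have h : ∀ r : ZMod 3, 2 * r = -r := by decide
  rw [← h]; simp [j0, Matrix.mulVec, dotProduct, Fin.sum_univ_four]
theorem j0_1 (u : V4) : (j0 *ᵥ u) 1 = u 0 := by
  simp [j0, Matrix.mulVec, dotProduct, Fin.sum_univ_four]
theorem j0_2 (u : V4) : (j0 *ᵥ u) 2 = -u 3 := by
  have h : ∀ r : ZMod 3, 2 * r = -r := by decide
  rw [← h]; simp [j0, Matrix.mulVec, dotProduct, Fin.sum_univ_four]
theorem j0_3 (u : V4) : (j0 *ᵥ u) 3 = u 2 := by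
  simp [j0, Matrix.mulVec, dotProduct, Fin.sum_univ_four]

/-- (a) a square root of `-1` is conjugate to the standard one -/
theorem conj_j0 {m : M} (h : m * m = -1) : ∃ P P' : M, P * P' = 1 ∧ m = P * j0 * P' := by
  have hmm : ∀ u : V4, m *ᵥ (m *ᵥ u) = -u := by
    intro u
    rw [Matrix.mulVec_mulVec, h, Matrix.neg_mulVec, Matrix.one_mulVec]
  obtain ⟨v, hv⟩ := exists_off 0 0
  have hv0 : v ≠ 0 := by
    have := hv 0 0
    simpa using this
  obtain ⟨x, hx⟩ := exists_off v (m *ᵥ v)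
  have h2 : ∀ a b : ZMod 3, a • v + b • (m *ᵥ v) = 0 → a = 0 ∧ b = 0 := by
    intro a b hab
    have h3 : a • (m *ᵥ v) - b • v = 0 := by
      have := congrArg (fun u => m *ᵥ u) hab
      simp only [Matrix.mulVec_add, Matrix.mulVec_smul, hmm, Matrix.mulVec_zero] at this
      rw [smul_neg] at this
      rw [← this]; abel
    have h4 : (a * a + b * b) • v = 0 := by
      calc (a * a + b * b) • v = a • (a • v + b • (m *ᵥ v)) - b • (a • (m *ᵥ v) - b • v) := by
            simp only [smul_add, smul_sub, smul_smul, add_smul, mul_comm b a]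
            abel
        _ = 0 := by rw [hab, h3]; simp
    rcases smul_eq_zero.1 h4 with h5 | h5
    · exact sq_add a b h5
    · exact absurd h5 hv0
  obtain ⟨P', hP'⟩ := exists_inv_cols (v := v) (w := m *ᵥ v) (x := x) (y := m *ᵥ x) (by
    intro a b c d habcd
    have h3 : a • (m *ᵥ v) - b • v + c • (m *ᵥ x) - d • x = 0 := by
      have := congrArg (fun u => m *ᵥ u) habcd
      simp only [Matrix.mulVec_add, Matrix.mulVec_smul, hmm, Matrix.mulVec_zero] at this
      simp only [smul_neg] at this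
      rw [← this]; abel
    have h4 : (c * c + d * d) • x = (-(c * a + d * b)) • v + (d * a - c * b) • (m *ᵥ v) := by
      have h5 : c • (a • v + b • (m *ᵥ v) + c • x + d • (m *ᵥ x)) - d • (a • (m *ᵥ v) - b • v + c • (m *ᵥ x) - d • x) = 0 := by
        rw [habcd, h3]; simp
      have h6 : c • (a • v + b • (m *ᵥ v) + c • x + d • (m *ᵥ x)) - d • (a • (m *ᵥ v) - b • v + c • (m *ᵥ x) - d • x)
          = (c * c + d * d) • x - ((-(c * a + d * b)) • v + (d * a - c * b) • (m *ᵥ v)) := by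
        simp only [smul_add, smul_sub, smul_smul, add_smul, sub_smul, neg_smul, mul_comm d c]
        abel
      rw [h6] at h5
      exact sub_eq_zero.1 h5
    have h5 : c * c + d * d = 0 := by
      by_contra hne
      have key : ∀ r : ZMod 3, r ≠ 0 → r * r = 1 := by decide
      have h6 := key _ hne
      refine hx ((c * c + d * d) * (-(c * a + d * b))) ((c * c + d * d) * (d * a - c * b)) ?_
      rw [mul_smul, mul_smul, ← smul_add, ← h4, smul_smul, h6, one_smul]
    obtain ⟨rfl, rfl⟩ := sq_add c d h5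
    rw [zero_smul, zero_smul, add_zero, add_zero] at habcd
    obtain ⟨h6, h7⟩ := h2 a b habcd
    exact ⟨h6, h7, rfl, rfl⟩)
  refine ⟨_, P', hP', ?_⟩
  have h1 : m * cols v (m *ᵥ v) x (m *ᵥ x) = cols v (m *ᵥ v) x (m *ᵥ x) * j0 := by
    apply Matrix.ext_of_mulVec_single
    intro i
    obtain ⟨u, hu⟩ : ∃ u : V4, u = Pi.single i 1 := ⟨_, rfl⟩
    rw [← hu, ← Matrix.mulVec_mulVec, ← Matrix.mulVec_mulVec, cols_mulVec, cols_mulVec]
    simp only [Matrix.mulVec_add, Matrix.mulVec_smul, hmm, j0_0, j0_1, j0_2, j0_3]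
    simp only [neg_smul, smul_neg]
    abel
  rw [← h1, mul_assoc, hP', mul_one]

/-- (b) an involution of determinant one -/
theorem conj_diag {m : M} (h : m * m = 1) : ∃ (P P' : M) (d : Fin 4 → ZMod 3), P * P' = 1 ∧ m = P * diagonal d * P' ∧
    ∀ i, d i = 1 ∨ d i = -1 := by
  have htop : ⨆ a, Module.End.eigenspace (Matrix.toLin' m) a = ⊤ := by
    refine Cfsg.Agent.H956.EigBasis.iSup_eigenspace_of_prod _ {1, -1} ?_
    rw [Finset.prod_insert (by decide), Finset.prod_singleton]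
    have h1 : Matrix.toLin' m * Matrix.toLin' m = 1 := by
      have h2 : Matrix.toLin' m * Matrix.toLin' m = Matrix.toLin' (m * m) := (Matrix.toLin'_mul m m).symm
      rw [h2, h, Matrix.toLin'_one]
      rfl
    simp only [map_mul, map_sub, map_neg, map_one, Polynomial.aeval_X]
    rw [sub_neg_eq_add, sub_mul, mul_add, one_mul, mul_one, h1]
    abel
  obtain ⟨S, d, hd⟩ := Cfsg.Agent.H956.EigBasis.exists_conj_diagonal m htop
  have hS : (S : M) * ((S⁻¹ : GL (Fin 4) (ZMod 3)) : M) = 1 := by rw [← Units.val_mul, mul_inv_cancel, Units.val_one]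
  refine ⟨_, _, d, hS, hd, ?_⟩
  have hS' := mul_eq_one_comm.1 hS
  have h2 : (S : M) * (diagonal d * diagonal d) * ((S⁻¹ : GL (Fin 4) (ZMod 3)) : M) = (S : M) * (1 : M) * ((S⁻¹ : GL (Fin 4) (ZMod 3)) : M) := by
    rw [cj_mul hS', ← hd, h, mul_one, hS]
  have h3 := cj_inj hS' h2
  rw [Matrix.diagonal_mul_diagonal] at h3
  intro i
  have h4 := congrFun (congrFun h3 i) i
  rw [Matrix.diagonal_apply_eq, Matrix.one_apply_eq] at h4
  have key : ∀ r : ZMod 3, r * r = 1 → r = 1 ∨ r = -1 := by decide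
  exact key _ h4

/-- the six arrangements -/
def dgP : Fin 6 → M := ![
  1,
  !![1, 0, 0, 0; 0, 0, 1, 0; 0, 1, 0, 0; 0, 0, 0, 1],
  !![1, 0, 0, 0; 0, 0, 0, 1; 0, 0, 1, 0; 0, 1, 0, 0],
  !![0, 0, 1, 0; 0, 1, 0, 0; 1, 0, 0, 0; 0, 0, 0, 1],
  !![0, 0, 0, 1; 0, 1, 0, 0; 0, 0, 1, 0; 1, 0, 0, 0],
  !![0, 0, 1, 0; 0, 0, 0, 1; 1, 0, 0, 0; 0, 1, 0, 0]]

theorem dgP_sq : ∀ l, dgP l * dgP l = 1 := by (set_option synthInstance.maxSize 20000 in open scoped Cfsg.Agent.Lib.MatDec in decide +kernel)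

theorem diag_cases : ∀ d : Fin 4 → ZMod 3, (∀ i, d i = 1 ∨ d i = -1) → d 0 * d 1 * d 2 * d 3 = 1 →
    (diagonal d : M) = 1 ∨ (diagonal d : M) = -1 ∨ ∃ l, (diagonal d : M) = dgP l * d0 * dgP l := by
  (delta Cfsg.Agent.H546.Fx.Psl.dgP; set_option synthInstance.maxSize 20000 in open scoped Cfsg.Agent.Lib.MatDec in decide +kernel)

theorem conj_d0 {m : M} (h : m * m = 1) (hd : m.det = 1) (h1 : m ≠ 1) (h2 : m ≠ -1) :
    ∃ P P' : M, P * P' = 1 ∧ m = P * d0 * P' := by
  obtain ⟨P, P', d, hP, hm, hd'⟩ := conj_diag h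
  have hP' := mul_eq_one_comm.1 hP
  have h3 : d 0 * d 1 * d 2 * d 3 = 1 := by
    have h4 : P'.det * P.det = 1 := by rw [← det_mul, hP', det_one]
    have h5 : (diagonal d : M).det = 1 := by
      have h6 : m.det = P.det * (diagonal d : M).det * P'.det := by rw [hm, det_mul, det_mul]
      calc (diagonal d : M).det = (P'.det * P.det) * (diagonal d : M).det := by rw [h4, one_mul]
        _ = m.det := by rw [h6]; ring
        _ = 1 := hd
    rw [Matrix.det_diagonal, Fin.prod_univ_four] at h5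
    exact h5
  rcases diag_cases d hd' h3 with h4 | h4 | ⟨l, h4⟩
  · exact absurd (by rw [hm, h4, mul_one, hP]) h1
  · exact absurd (by rw [hm, h4, mul_neg, mul_one, neg_mul, hP]) h2
  · refine ⟨P * dgP l, dgP l * P', ?_, ?_⟩
    · calc P * dgP l * (dgP l * P') = P * (dgP l * dgP l) * P' := by simp only [mul_assoc]
        _ = 1 := by rw [dgP_sq, mul_one, hP]
    · rw [hm, h4]; simp only [mul_assoc]

theorem full_of_B {K : Set M} (hK : PK K) {m : M} (hm : m ∈ K) (h : m * m = -1) : Full K := by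
  obtain ⟨P, P', hP, hmP⟩ := conj_j0 h
  refine Full.of_conj hP (full_of_j0 (hK.conj hP) ?_)
  rw [mem_cjM, ← hmP]; exact hm

theorem full_of_A {K : Set M} (hK : PK K) {m : M} (hm : m ∈ K) (h : m * m = 1) (hd : m.det = 1) (h1 : m ≠ 1)
    (h2 : m ≠ -1) : Full K := by
  by_cases hB : ∃ b ∈ K, b * b = -1
  · obtain ⟨b, hb, hbb⟩ := hB
    exact full_of_B hK hb hbb
  · push Not at hB
    obtain ⟨P, P', hP, hmP⟩ := conj_d0 h hd h1 h2
    refine Full.of_conj hP (full_of_d0 (hK.conj hP) (nb_cj hB hP) ?_)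
    rw [mem_cjM, ← hmP]; exact hm

/-- a proper subgroup of fixity at most 4 has odd order -/
theorem top_of_invol {H : Subgroup PSL4} (hH : FixLE 4 H) {s : PSL4} (hs : s ∈ H) (h1 : s ≠ 1) (h2 : s * s = 1) : H = ⊤ := by
  obtain ⟨g, rfl⟩ := pr_surj s
  rw [← map_mul] at h2
  have hK := PK_of hH
  have hg : toM g ∈ Km H := ⟨g, rfl, hs⟩
  apply top_of_full
  rcases (pr_eq_one _).1 h2 with h3 | h3
  · exact full_of_A hK hg (by rw [← toM_mul]; exact h3) (det_toM g) (fun h => h1 ((pr_eq_one _).2 (Or.inl h)))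
      (fun h => h1 ((pr_eq_one _).2 (Or.inr h)))
  · exact full_of_B hK hg (by rw [← toM_mul]; exact h3)

theorem noEv_psl4_zmod : NoEv PSL4 := by
  rintro H hH ⟨t, ht2, hfix⟩
  have htop := ne_top_of_exact (k := 4) (by norm_num) hfix
  obtain ⟨a, haH, -⟩ := exists_conj_exact (k := 4) (by norm_num) hfix
  have htt : t * t = 1 := by rw [← sq, ← ht2]; exact pow_orderOf_eq_one t
  have ht1 : t ≠ 1 := by rintro rfl; rw [orderOf_one] at ht2; omega
  refine htop (top_of_invol hH haH ?_ ?_)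
  · intro h1
    apply ht1
    calc t = a * (a⁻¹ * t * a) * a⁻¹ := by group
      _ = 1 := by rw [h1]; group
  · calc a⁻¹ * t * a * (a⁻¹ * t * a) = a⁻¹ * (t * t) * a := by group
      _ = 1 := by rw [htt]; group

theorem noEv_psl4_three (F : Type) [Field F] [Fintype F] (h : Fintype.card F = 3) :
    NoEv (Matrix.ProjectiveSpecialLinearGroup (Fin 4) F) :=
  NoEv.congr (psl_congr F h).some noEv_psl4_zmod

end Cfsg.Agent.H546.Fx.Psl
end

private theorem dce_7e85edeb265d : _root_.True := by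
  try have : _root_.True := by simp only [_root_.Cfsg.Agent.H546.Fx.Psl.chk.eq_1]
  try have : _root_.True := by simp only [_root_.Cfsg.Agent.H546.Fx.Psl.chk.eq_def]
  try have : _root_.True := by simp only [_root_.Cfsg.Agent.H546.Fx.Psl.j0.eq_1]
  try have : _root_.True := by simp only [_root_.Cfsg.Agent.H546.Fx.Psl.cols.eq_1]
  try have : _root_.True := by simp only [_root_.Cfsg.Agent.H546.Fx.Psl.chk.eq_2]
  exact _root_.True.intro
end

-- part: H583/FxThree
section
prune_inst 0xe1003064512202000000001000001c02da000420000b800008a009020488ac0000820620b88005000200800500310000000000100000000000000000011d01a0800202040040a004060019000000000000000000000000000000000000010000000000000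
set_option linter.all false
open scoped Cfsg.Agent.FastGrp

-- part: H583/FxLin
section
/-!
# Linear algebra in dimension three for the rows `PSL_3(q)` of S3002 (helper583, task 2052)

* `exists_eps` : an involution `t`: one of `t - 1`, `t + 1` has rank at most one;
* `no_inv_three` : `x` of order `r`, `q` of order three modulo `r`: no involution centralises or inverts `x`;
* `no_comm_two`, `no_four_two` : `q` even of order two modulo `r`: no involution centralises `x`, no element of order four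
  normalises `⟨x⟩`.
-/

set_option autoImplicit false
set_option linter.unusedSectionVars false

namespace Cfsg.Agent.H583.FxLin

open Module Subgroup

variable {F : Type*} [Field F] {V : Type*} [AddCommGroup V] [Module F V]

/-- `T - ε` -/
def dl (t : V ≃ₗ[F] V) (ε : F) : V →ₗ[F] V := (t : V →ₗ[F] V) - ε • LinearMap.id

theorem dl_apply (t : V ≃ₗ[F] V) (ε : F) (v : V) : dl t ε v = t v - ε • v := rfl

theorem mem_ker_dl {t : V ≃ₗ[F] V} {ε : F} {v : V} : v ∈ LinearMap.ker (dl t ε) ↔ t v = ε • v := by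
  rw [LinearMap.mem_ker, dl_apply, sub_eq_zero]

/-- the fixed vectors -/
def fx (x : V ≃ₗ[F] V) : Submodule F V := LinearMap.ker (dl x 1)

theorem mem_fx {x : V ≃ₗ[F] V} {v : V} : v ∈ fx x ↔ x v = v := by
  rw [fx, mem_ker_dl, one_smul]

theorem exists_eps [FiniteDimensional F V] (h3 : finrank F V = 3) {t : V ≃ₗ[F] V} (ht : t * t = 1) :
    ∃ ε : F, (ε = 1 ∨ ε = -1) ∧ finrank F (LinearMap.range (dl t ε)) ≤ 1 := by
  by_contra hcon
  push Not at hcon
  have h1 := hcon 1 (Or.inl rfl)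
  have h2 := hcon (-1) (Or.inr rfl)
  have hle : LinearMap.range (dl t (-1)) ≤ LinearMap.ker (dl t 1) := by
    rintro _ ⟨v, rfl⟩
    rw [LinearMap.mem_ker, dl_apply, dl_apply]
    have h4 : t (t v) = v := by
      rw [← LinearEquiv.mul_apply, ht]; rfl
    rw [map_sub, map_smul, h4, one_smul, neg_smul, neg_smul, one_smul, one_smul]
    abel
  have h4 := LinearMap.finrank_range_add_finrank_ker (dl t 1)
  have h5 := Submodule.finrank_mono hle
  omega

theorem range_eq_span [FiniteDimensional F V] {N : V →ₗ[F] V} (hN : finrank F (LinearMap.range N) ≤ 1) {u : V}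
    (hu : N u ≠ 0) : LinearMap.range N = Submodule.span F {N u} := by
  symm
  apply Submodule.eq_of_le_of_finrank_le
  · rw [Submodule.span_singleton_le_iff_mem]
    exact ⟨u, rfl⟩
  · rw [finrank_span_singleton hu]
    exact hN

/-- an eigenvector -/
theorem exists_eigen [FiniteDimensional F V] {N : V →ₗ[F] V} (hN : finrank F (LinearMap.range N) ≤ 1) {u : V}
    (hu : N u ≠ 0) {x : V ≃ₗ[F] V} (hx : ∀ v, x (N v) = N (x v)) : ∃ a : F, x (N u) = a • N u := by
  have h1 : x (N u) ∈ LinearMap.range N := ⟨x u, (hx u).symm⟩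
  rw [range_eq_span hN hu, Submodule.mem_span_singleton] at h1
  obtain ⟨a, ha⟩ := h1
  exact ⟨a, ha.symm⟩

theorem pow_eigen {x : V ≃ₗ[F] V} {w : V} {a : F} (h : x w = a • w) (n : ℕ) : (x ^ n) w = a ^ n • w := by
  induction n with
  | zero => simp
  | succ n ih => rw [pow_succ, LinearEquiv.mul_apply, h, map_smul, ih, smul_smul, ← pow_succ']

theorem eigen_pow {x : V ≃ₗ[F] V} {w : V} {a : F} (h : x w = a • w) (hw : w ≠ 0) {r : ℕ} (hx : x ^ r = 1) :
    a ^ r = 1 := by
  have h1 := pow_eigen h r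
  rw [hx] at h1
  have h2 : (1 - a ^ r) • w = 0 := by
    rw [sub_smul, one_smul, ← h1]
    exact sub_self w
  rcases smul_eq_zero.1 h2 with h3 | h3
  · exact (sub_eq_zero.1 h3).symm
  · exact absurd h3 hw

/-- an involution inverting an element of odd order: a fixed vector -/
theorem exists_fixed [FiniteDimensional F V] (h3 : finrank F V = 3) {t x : V ≃ₗ[F] V} {ε : F}
    (hε : finrank F (LinearMap.range (dl t ε)) ≤ 1) (hinv : t * x * t⁻¹ = x⁻¹) {m : ℕ}
    (hm : x ^ (2 * m) = x) : ∃ v : V, v ≠ 0 ∧ x v = v := by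
  have hk := LinearMap.finrank_range_add_finrank_ker (dl t ε)
  set U := LinearMap.ker (dl t ε) with hU
  set y : V ≃ₗ[F] V := x ^ m with hy
  -- `t x = y⁻¹ t y`
  have e1 : y⁻¹ * t * y = t * x := by
    have h4 : t * y * t⁻¹ = y⁻¹ := by rw [hy, ← inv_pow, ← hinv, conj_pow]
    have h5 : y⁻¹ * t = t * y := by rw [← h4, inv_mul_cancel_right]
    rw [h5, mul_assoc, hy, ← pow_add, ← two_mul, hm]
  set U' := U.map ((y⁻¹ : V ≃ₗ[F] V) : V →ₗ[F] V) with hU'
  have h4 : finrank F U' = finrank F U := LinearEquiv.finrank_map_eq (y⁻¹) U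
  have h5 := Submodule.finrank_sup_add_finrank_inf_eq U U'
  have h6 : finrank F ↥(U ⊔ U') ≤ finrank F V := Submodule.finrank_le _
  have h7 : U ⊓ U' ≠ ⊥ := by
    intro h
    rw [h, finrank_bot] at h5
    omega
  obtain ⟨v, hv, hv0⟩ := Submodule.exists_mem_ne_zero_of_ne_bot h7
  refine ⟨v, hv0, ?_⟩
  obtain ⟨hvU, u, hu, huv⟩ := Submodule.mem_inf.1 hv
  have huv' : y⁻¹ u = v := huv
  have h8 : t v = ε • v := mem_ker_dl.1 hvU
  have h9 : t u = ε • u := mem_ker_dl.1 hu
  have h10 : y v = u := by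
    rw [← huv', ← LinearEquiv.mul_apply, mul_inv_cancel]; rfl
  have h11 : (t * x) v = ε • v := by
    rw [← e1, LinearEquiv.mul_apply, LinearEquiv.mul_apply, h10, h9, map_smul, huv']
  rw [LinearEquiv.mul_apply, ← h8] at h11
  exact t.injective h11

section fixed

variable [Fintype F] [Finite V] {r e : ℕ} [hr : Fact r.Prime]

/-- the dimension of the fixed space on an invariant subspace -/
theorem dvd_fx (he : 0 < e) (hiff : ∀ j, r ∣ Fintype.card F ^ j - 1 ↔ e ∣ j) {x : V ≃ₗ[F] V} (hx : x ^ r = 1)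
    (U : Submodule F V) (hU : ∀ u ∈ U, x u ∈ U) : e ∣ finrank F U - finrank F ↥(fx x ⊓ U) := by
  have hfin : Finite (V ≃ₗ[F] V) := Finite.of_injective (fun f : V ≃ₗ[F] V => (f : V → V)) DFunLike.coe_injective
  have hA : IsPGroup r ↥(zpowers x) := by
    intro g
    obtain ⟨k, hk⟩ := mem_zpowers_iff.1 g.2
    refine ⟨1, Subtype.ext ?_⟩
    change (g : V ≃ₗ[F] V) ^ r ^ 1 = 1
    rw [pow_one, ← hk, ← zpow_natCast, ← zpow_mul, mul_comm, zpow_mul, zpow_natCast, hx, one_zpow]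
  have hinv : ∀ a : ↥(zpowers x), ∀ u ∈ U, (zpowers x).subtype a u ∈ U := by
    intro a u hu
    obtain ⟨k, hk⟩ := (mem_powers_iff_mem_zpowers (x := x)).2 a.2
    change (a : V ≃ₗ[F] V) u ∈ U
    rw [← hk]
    clear hk
    induction k with
    | zero => exact hu
    | succ k ih =>
      change (x ^ (k + 1)) u ∈ U
      rw [pow_succ', LinearEquiv.mul_apply]
      exact hU _ ih
  have h1 := H124.LinCyc.dvd_sub (V := ↥U) he hiff hA (H124.LinCyc.restr (zpowers x).subtype U hinv)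
  have h2 : finrank F ↥(H124.LinCyc.fix (H124.LinCyc.restr (zpowers x).subtype U hinv)) = finrank F ↥(fx x ⊓ U) := by
    have h3 : (H124.LinCyc.fix (H124.LinCyc.restr (zpowers x).subtype U hinv)).map U.subtype = fx x ⊓ U := by
      ext v
      constructor
      · rintro ⟨u, hu, rfl⟩
        refine Submodule.mem_inf.2 ⟨mem_fx.2 ?_, u.2⟩
        have h4 := congrArg Subtype.val (hu ⟨x, mem_zpowers x⟩)
        exact h4
      · rintro ⟨hv, hvU⟩
        refine ⟨⟨v, hvU⟩, fun a => Subtype.ext ?_, rfl⟩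
        obtain ⟨k, hk⟩ := (mem_powers_iff_mem_zpowers (x := x)).2 a.2
        change (a : V ≃ₗ[F] V) v = v
        rw [← hk]
        have h5 := pow_eigen (x := x) (w := v) (a := (1 : F)) (by rw [one_smul]; exact mem_fx.1 hv) k
        rw [one_pow, one_smul] at h5
        exact h5
    rw [← h3]
    exact (Submodule.finrank_map_subtype_eq U _).symm
  rwa [h2] at h1

theorem dvd_fx_top (he : 0 < e) (hiff : ∀ j, r ∣ Fintype.card F ^ j - 1 ↔ e ∣ j) {x : V ≃ₗ[F] V} (hx : x ^ r = 1) :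
    e ∣ finrank F V - finrank F ↥(fx x) := by
  have h1 := dvd_fx he hiff hx ⊤ (fun u _ => Submodule.mem_top)
  rwa [inf_top_eq, finrank_top] at h1

theorem fx_ne_top {x : V ≃ₗ[F] V} (hx1 : x ≠ 1) : finrank F ↥(fx x) < finrank F V := by
  have hle : finrank F ↥(fx x) ≤ finrank F V := Submodule.finrank_le _
  refine lt_of_le_of_ne hle fun h => hx1 ?_
  have h1 : fx x = ⊤ := Submodule.eq_top_of_finrank_eq h
  ext v
  have h2 : v ∈ fx x := by rw [h1]; exact Submodule.mem_top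
  exact mem_fx.1 h2

theorem eq_one_of_pow {a : F} (h : a ^ r = 1) (hd : ¬ r ∣ Fintype.card F - 1) : a = 1 := by
  have ha : a ≠ 0 := by
    rintro rfl
    rw [zero_pow hr.out.ne_zero] at h
    exact zero_ne_one h
  have h1 : a ^ (Fintype.card F - 1) = 1 := FiniteField.pow_card_sub_one_eq_one a ha
  have h2 : orderOf a ∣ r := orderOf_dvd_of_pow_eq_one h
  have h3 : orderOf a ∣ Fintype.card F - 1 := orderOf_dvd_of_pow_eq_one h1
  rcases (Nat.dvd_prime hr.out).1 h2 with h4 | h4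
  · exact orderOf_eq_one_iff.1 h4
  · rw [h4] at h3
    exact absurd h3 hd

/-- **`e = 3`.** -/
theorem no_inv_three (hiff : ∀ j, r ∣ Fintype.card F ^ j - 1 ↔ 3 ∣ j) (hr2 : r ≠ 2) (h3 : finrank F V = 3)
    {t x : V ≃ₗ[F] V} (hx : x ^ r = 1) (hx1 : x ≠ 1) (ht : t * t = 1) (hs : ∀ c : F, ∃ v, t v ≠ c • v)
    (hc : t * x * t⁻¹ = x ∨ t * x * t⁻¹ = x⁻¹) : False := by
  have hnd : ¬ r ∣ Fintype.card F - 1 := by
    intro h
    have h1 := (hiff 1).1 (by rwa [pow_one])
    omega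
  have hfx : fx x = ⊥ := by
    have h1 := dvd_fx_top (by norm_num) hiff hx
    have h2 := fx_ne_top hx1
    rw [h3] at h1 h2
    have h4 : finrank F ↥(fx x) = 0 := by omega
    exact Submodule.finrank_eq_zero.1 h4
  have hnofix : ∀ v : V, x v = v → v = 0 := by
    intro v hv
    have h1 : v ∈ fx x := mem_fx.2 hv
    rw [hfx] at h1
    exact (Submodule.mem_bot F).1 h1
  obtain ⟨ε, -, hε⟩ := exists_eps h3 ht
  rcases hc with hc | hc
  · obtain ⟨u, hu⟩ := hs ε
    have hu' : dl t ε u ≠ 0 := by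
      rw [dl_apply, sub_ne_zero]; exact hu
    have hcomm : t * x = x * t := by
      rw [mul_inv_eq_iff_eq_mul] at hc; exact hc
    obtain ⟨a, ha⟩ := exists_eigen hε hu' (x := x) (by
      intro v
      rw [dl_apply, dl_apply, map_sub, map_smul]
      congr 1
      have := congrArg (fun f : V ≃ₗ[F] V => f v) hcomm
      exact this.symm)
    have h4 := eq_one_of_pow (eigen_pow ha hu' hx) hnd
    rw [h4, one_smul] at ha
    exact hu' (hnofix _ ha)
  · have hodd : Odd r := hr.out.odd_of_ne_two hr2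
    obtain ⟨k, hk⟩ := hodd
    obtain ⟨v, hv0, hv⟩ := exists_fixed h3 hε hc (m := k + 1) (by
      have : 2 * (k + 1) = r + 1 := by omega
      rw [this, pow_succ, hx, one_mul])
    exact hv0 (hnofix v hv)

/-! ### `e = 2`, `q` even -/

variable [CharP F 2]

theorem two_smul_eq_zero (F : Type*) [Field F] [CharP F 2] {V : Type*} [AddCommGroup V] [Module F V] (v : V) :
    v + v = 0 := by
  rw [← two_smul F v, CharTwo.two_eq_zero, zero_smul]

theorem sub_eq_add (F : Type*) [Field F] [CharP F 2] {V : Type*} [AddCommGroup V] [Module F V] (v w : V) :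
    v - w = v + w := by
  have h : w + w = 0 := two_smul_eq_zero F w
  rw [sub_eq_add_neg, neg_eq_of_add_eq_zero_left h]

theorem rank_dl_one [FiniteDimensional F V] (h3 : finrank F V = 3) {t : V ≃ₗ[F] V} (ht : t * t = 1) :
    finrank F (LinearMap.range (dl t 1)) ≤ 1 := by
  obtain ⟨ε, hε, h⟩ := exists_eps h3 ht
  rcases hε with rfl | rfl
  · exact h
  · rwa [CharTwo.neg_eq] at h

theorem dl_ne {t : V ≃ₗ[F] V} (ht1 : t ≠ 1) : ∃ u, dl t (1 : F) u ≠ 0 := by
  by_contra hcon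
  push Not at hcon
  apply ht1
  ext v
  have h := hcon v
  rw [dl_apply, one_smul, sub_eq_zero] at h
  exact h

theorem dl_dl {t : V ≃ₗ[F] V} (ht : t * t = 1) (u : V) : dl t (1 : F) (dl t 1 u) = 0 := by
  have h4 : t (t u) = u := by
    rw [← LinearEquiv.mul_apply, ht]; rfl
  rw [dl_apply, dl_apply, one_smul, one_smul, map_sub, h4, sub_eq_add F, sub_eq_add F,
    sub_eq_add F]
  have h5 : u + t u + (t u + u) = (u + t u) + (u + t u) := by abel
  rw [h5]
  exact two_smul_eq_zero F _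

/-- **`e = 2`, `q` even: an involution does not commute with `x`.** -/
theorem no_comm_two (hiff : ∀ j, r ∣ Fintype.card F ^ j - 1 ↔ 2 ∣ j) (h3 : finrank F V = 3)
    {t x : V ≃ₗ[F] V} (hx : x ^ r = 1) (hx1 : x ≠ 1) (ht : t * t = 1) (ht1 : t ≠ 1) (hc : t * x = x * t) : False := by
  have hnd : ¬ r ∣ Fintype.card F - 1 := by
    intro h
    have h1 := (hiff 1).1 (by rwa [pow_one])
    omega
  have hε := rank_dl_one h3 ht
  obtain ⟨u, hu⟩ := dl_ne (F := F) ht1
  have hcN : ∀ v, x (dl t (1 : F) v) = dl t 1 (x v) := by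
    intro v
    rw [dl_apply, dl_apply, map_sub, map_smul]
    congr 1
    exact (congrArg (fun f : V ≃ₗ[F] V => f v) hc).symm
  obtain ⟨a, ha⟩ := exists_eigen hε hu hcN
  have h4 := eq_one_of_pow (eigen_pow ha hu hx) hnd
  rw [h4, one_smul] at ha
  have h5 := dvd_fx_top (by norm_num) hiff hx
  have h6 := fx_ne_top hx1
  rw [h3] at h5 h6
  set U := LinearMap.ker (dl t (1 : F)) with hU
  have h7 := dvd_fx (by norm_num) hiff hx U (by
    intro v hv
    rw [hU, LinearMap.mem_ker] at hv ⊢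
    rw [← hcN, hv, map_zero])
  have h8 := LinearMap.finrank_range_add_finrank_ker (dl t (1 : F))
  rw [h3, ← hU] at h8
  have h9 : dl t (1 : F) u ∈ fx x ⊓ U := Submodule.mem_inf.2 ⟨mem_fx.2 ha, by
    rw [hU, LinearMap.mem_ker]; exact dl_dl ht u⟩
  have h10 : fx x ⊓ U ≠ ⊥ := by
    intro h
    rw [h] at h9
    exact hu ((Submodule.mem_bot F).1 h9)
  have h11 : finrank F ↥(fx x ⊓ U) ≠ 0 := by
    rw [Ne, Submodule.finrank_eq_zero]; exact h10
  have h12 : finrank F ↥(fx x ⊓ U) ≤ finrank F ↥(fx x) := Submodule.finrank_mono inf_le_left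
  have h13 : finrank F ↥(fx x ⊓ U) ≤ finrank F ↥U := Submodule.finrank_mono inf_le_right
  have h14 : finrank F ↥U ≤ 3 := by rw [← h3]; exact Submodule.finrank_le _
  have h15 : finrank F (LinearMap.range (dl t (1 : F))) ≠ 0 := by
    rw [Ne, Submodule.finrank_eq_zero]
    intro h
    exact hu (by
      have : dl t (1 : F) u ∈ LinearMap.range (dl t (1 : F)) := ⟨u, rfl⟩
      rw [h] at this
      exact (Submodule.mem_bot F).1 this)
  omega

/-- **`e = 2`, `q` even: no element of order four normalises `⟨x⟩`.** -/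
theorem no_four_two (hiff : ∀ j, r ∣ Fintype.card F ^ j - 1 ↔ 2 ∣ j) (h3 : finrank F V = 3)
    {g t x : V ≃ₗ[F] V} (hx : x ^ r = 1) (hx1 : x ≠ 1) (hg : g * g = t) (ht : t * t = 1) (ht1 : t ≠ 1)
    (hc : t * x * t⁻¹ = x⁻¹) (hgx : ∀ v ∈ fx x, g v ∈ fx x) : False := by
  have h5 := dvd_fx_top (by norm_num) hiff hx
  have h6 := fx_ne_top hx1
  rw [h3] at h5 h6
  have h7 : finrank F ↥(fx x) = 1 := by omega
  have hne : fx x ≠ ⊥ := by
    intro h
    rw [h, finrank_bot] at h7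
    omega
  obtain ⟨l, hl, hl0⟩ := Submodule.exists_mem_ne_zero_of_ne_bot hne
  have hL : fx x = Submodule.span F {l} := by
    symm
    apply Submodule.eq_of_le_of_finrank_le
    · rw [Submodule.span_singleton_le_iff_mem]; exact hl
    · rw [finrank_span_singleton hl0, h7]
  have hr0 : (r : F) ≠ 0 := by
    intro h
    have h8 : 2 ∣ r := (CharP.cast_eq_zero_iff F 2 r).1 h
    have h9 := (Nat.prime_dvd_prime_iff_eq Nat.prime_two hr.out).1 h8
    have h10 := (hiff 2).2 dvd_rfl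
    rw [← h9] at h10
    obtain ⟨n, -, hn⟩ := FiniteField.card F 2
    have h11 : 2 ∣ Fintype.card F ^ 2 := by
      rw [hn, ← pow_mul]
      exact dvd_pow_self 2 (by have := n.pos; omega)
    have h12 : 1 ≤ Fintype.card F ^ 2 := Nat.one_le_pow _ _ Fintype.card_pos
    omega
  -- `W = range (x - 1)` meets `fx x` trivially
  have hW : ∀ v, v ∈ LinearMap.range (dl x (1 : F)) → x v = v → v = 0 := by
    rintro _ ⟨u, rfl⟩ hv
    set v := dl x (1 : F) u with hvd
    have e1 : x u = u + v := by rw [hvd, dl_apply, one_smul]; abel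
    have e2 : ∀ n : ℕ, (x ^ n) u = u + (n : F) • v := by
      intro n
      induction n with
      | zero => simp
      | succ n ih =>
        rw [pow_succ', LinearEquiv.mul_apply, ih, map_add, map_smul, hv, e1, Nat.cast_succ, add_smul, one_smul]
        abel
    have e3 := e2 r
    rw [hx] at e3
    have e4 : (r : F) • v = 0 := by
      have : u = u + (r : F) • v := e3
      exact left_eq_add.1 this
    exact (smul_eq_zero.1 e4).resolve_left hr0
  have htl : t l = l := by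
    have h8 : t l ∈ fx x := by
      rw [mem_fx, ← LinearEquiv.mul_apply]
      have h9 : x * t = t * x⁻¹ := by
        rw [← hc]
        have h10 : t⁻¹ = t := inv_eq_of_mul_eq_one_left ht
        rw [h10]
        calc x * t = (t * t) * x * t := by rw [ht, one_mul]
          _ = t * (t * x * t) := by group
      rw [h9, LinearEquiv.mul_apply]
      congr 1
      have h10 := mem_fx.1 hl
      calc x⁻¹ l = x⁻¹ (x l) := by rw [h10]
        _ = l := by rw [← LinearEquiv.mul_apply, inv_mul_cancel]; rfl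
    rw [hL, Submodule.mem_span_singleton] at h8
    obtain ⟨b, hb⟩ := h8
    have h9 := eigen_pow hb.symm hl0 (r := 2) (by rw [pow_two, ht])
    have h10 : b = 1 := by
      have h11 : (b - 1) ^ 2 = 0 := by
        rw [CharTwo.sub_eq_add, CharTwo.add_sq, h9, one_pow, CharTwo.add_self_eq_zero]
      exact sub_eq_zero.1 (pow_eq_zero_iff (two_ne_zero) |>.1 h11)
    rw [← hb, h10, one_smul]
  have hgl : g l = l := by
    have h8 := hgx l hl
    rw [hL, Submodule.mem_span_singleton] at h8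
    obtain ⟨b, hb⟩ := h8
    have h9 := eigen_pow hb.symm hl0 (r := 4) (by
      have : g ^ 4 = (g * g) * (g * g) := by rw [← pow_two, ← pow_two, ← pow_mul]
      rw [this, hg, ht])
    have h10 : b = 1 := by
      have h11 : (b - 1) ^ 4 = 0 := by
        have : (b - 1) ^ 4 = ((b - 1) ^ 2) ^ 2 := by ring
        rw [this, CharTwo.sub_eq_add, CharTwo.add_sq, one_pow, CharTwo.add_sq, ← pow_mul, h9, one_pow,
          CharTwo.add_self_eq_zero]
      exact sub_eq_zero.1 (pow_eq_zero_iff (by norm_num) |>.1 h11)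
    rw [← hb, h10, one_smul]
  -- `w` in the range of `t - 1`
  have hε := rank_dl_one h3 ht
  obtain ⟨u, hu⟩ := dl_ne (F := F) ht1
  set w := dl t (1 : F) u with hw
  have hrange := range_eq_span hε hu
  -- `w ∈ W`
  have hwW : w ∈ LinearMap.range (dl x (1 : F)) := by
    have hsup : fx x ⊔ LinearMap.range (dl x (1 : F)) = ⊤ := by
      apply Submodule.eq_top_of_finrank_eq
      have h8 := Submodule.finrank_sup_add_finrank_inf_eq (fx x) (LinearMap.range (dl x (1 : F)))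
      have h9 : fx x ⊓ LinearMap.range (dl x (1 : F)) = ⊥ := by
        rw [eq_bot_iff]
        rintro v ⟨h10, h11⟩
        exact (Submodule.mem_bot F).2 (hW v h11 (mem_fx.1 h10))
      have h10 := LinearMap.finrank_range_add_finrank_ker (dl x (1 : F))
      have h11 : finrank F ↥(LinearMap.ker (dl x (1 : F))) = 1 := h7
      rw [h9, finrank_bot] at h8
      omega
    have h8 : u ∈ fx x ⊔ LinearMap.range (dl x (1 : F)) := by rw [hsup]; exact Submodule.mem_top
    obtain ⟨v, hv, z, ⟨z', rfl⟩, hvz⟩ := Submodule.mem_sup.1 h8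
    rw [hL, Submodule.mem_span_singleton] at hv
    obtain ⟨c, rfl⟩ := hv
    rw [hw, ← hvz, map_add, map_smul]
    have h9 : dl t (1 : F) l = 0 := by rw [dl_apply, one_smul, htl, sub_self]
    rw [h9, smul_zero, zero_add, dl_apply, one_smul]
    refine Submodule.sub_mem _ ?_ ⟨z', rfl⟩
    -- `t (x z' - z') = x⁻¹ (t z') - t z'`
    refine ⟨-(x⁻¹ (t z')), ?_⟩
    rw [dl_apply, dl_apply, one_smul, one_smul, map_neg, map_sub]
    have h10 : x (x⁻¹ (t z')) = t z' := by
      rw [← LinearEquiv.mul_apply, mul_inv_cancel]; rfl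
    have h11 : x⁻¹ (t z') = t (x z') := by
      have h12 : x⁻¹ * t = t * x := by rw [← hc, inv_mul_cancel_right]
      exact congrArg (fun f : V ≃ₗ[F] V => f z') h12
    rw [h10, h11]
    abel
  have hgw : g w = w := by
    have hcN : ∀ v, g (dl t (1 : F) v) = dl t 1 (g v) := by
      intro v
      rw [dl_apply, dl_apply, map_sub, map_smul]
      congr 1
      have h8 : g * t = t * g := by rw [← hg, mul_assoc]
      exact congrArg (fun f : V ≃ₗ[F] V => f v) h8
    obtain ⟨b, hb⟩ := exists_eigen hε hu hcN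
    have h9 := eigen_pow hb hu (r := 4) (by
      have : g ^ 4 = (g * g) * (g * g) := by rw [← pow_two, ← pow_two, ← pow_mul]
      rw [this, hg, ht])
    have h10 : b = 1 := by
      have h11 : (b - 1) ^ 4 = 0 := by
        have : (b - 1) ^ 4 = ((b - 1) ^ 2) ^ 2 := by ring
        rw [this, CharTwo.sub_eq_add, CharTwo.add_sq, one_pow, CharTwo.add_sq, ← pow_mul, h9, one_pow,
          CharTwo.add_self_eq_zero]
      exact sub_eq_zero.1 (pow_eq_zero_iff (by norm_num) |>.1 h11)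
    rw [hb, h10, one_smul]
  -- `ker (g - 1)` has dimension at least two
  have hind : finrank F ↥(Submodule.span F {l} ⊔ Submodule.span F {w}) = 2 := by
    have h8 := Submodule.finrank_sup_add_finrank_inf_eq (Submodule.span F {l}) (Submodule.span F {w})
    have h9 : Submodule.span F {l} ⊓ Submodule.span F {w} = ⊥ := by
      rw [eq_bot_iff]
      rintro v ⟨h10, h11⟩
      rw [SetLike.mem_coe, ← hL] at h10
      rw [SetLike.mem_coe, Submodule.mem_span_singleton] at h11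
      obtain ⟨c, rfl⟩ := h11
      exact (Submodule.mem_bot F).2 (hW _ (Submodule.smul_mem _ c hwW) (mem_fx.1 h10))
    rw [h9, finrank_bot, finrank_span_singleton hl0, finrank_span_singleton hu] at h8
    omega
  have hle : Submodule.span F {l} ⊔ Submodule.span F {w} ≤ LinearMap.ker (dl g (1 : F)) := by
    rw [sup_le_iff, Submodule.span_singleton_le_iff_mem, Submodule.span_singleton_le_iff_mem, mem_ker_dl, mem_ker_dl,
      one_smul, one_smul]
    exact ⟨hgl, hgw⟩
  have h8 := Submodule.finrank_mono hle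
  have h9 := LinearMap.finrank_range_add_finrank_ker (dl g (1 : F))
  have h10 : finrank F (LinearMap.range (dl g (1 : F))) ≤ 1 := by omega
  -- `(g - 1)² = t - 1`
  have hsq : dl g (1 : F) (dl g 1 u) = w := by
    have h11 : g (g u) = t u := by rw [← LinearEquiv.mul_apply, hg]
    rw [hw]
    simp only [dl_apply, one_smul, sub_eq_add F, map_add, h11]
    have h12 : t u + g u + (g u + u) = t u + u + (g u + g u) := by abel
    rw [h12, two_smul_eq_zero F, add_zero]
  have hgu : dl g (1 : F) (dl g 1 u) ≠ 0 := by rw [hsq]; exact hu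
  have h11 := range_eq_span h10 hgu
  have h12 : dl g (1 : F) u ∈ LinearMap.range (dl g (1 : F)) := ⟨u, rfl⟩
  rw [h11, hsq, Submodule.mem_span_singleton] at h12
  obtain ⟨c, hc⟩ := h12
  apply hgu
  rw [← hc, map_smul, dl_apply, one_smul, hgw, sub_self, smul_zero]

end fixed

end Cfsg.Agent.H583.FxLin
end

-- part: H583/FxThree
section
/-!
# Elements of `PSL_3(q)` normalising a subgroup of prime order (helper583, task 2052)

* `exists_lift`, `eq_of_mk` : lifts to `SL_3(q)`;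
* `no_inv` : `q` of order three modulo `r`: no involution normalises `⟨x⟩`;
* `not_four` : `q` even of order two modulo `r`: `4` does not divide `|N(⟨x⟩)|`;
* `four_dvd` : `OddTI 4 D` and a cyclic Sylow subgroup `P ≤ D`: `4` divides `|N(⟨x⟩)|`.
-/

set_option autoImplicit false
set_option linter.unusedSectionVars false

namespace Cfsg.Agent.H583.FxThree

open Matrix Subgroup Cfsg.Agent.H254.Fx Cfsg.Agent.H583.FxLin

variable {F : Type} [Field F]

/-- the projection -/
abbrev mk (F : Type) [Field F] : SpecialLinearGroup (Fin 3) F →* ProjectiveSpecialLinearGroup (Fin 3) F :=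
  QuotientGroup.mk' (center (SpecialLinearGroup (Fin 3) F))

theorem mk_surjective : Function.Surjective (mk F) := QuotientGroup.mk'_surjective _

theorem mk_eq_one {s : SpecialLinearGroup (Fin 3) F} :
    mk F s = 1 ↔ ∃ c : F, c ^ 3 = 1 ∧ s.1 = Matrix.scalar (Fin 3) c := by
  rw [QuotientGroup.mk'_apply, QuotientGroup.eq_one_iff, Matrix.SpecialLinearGroup.mem_center_iff, Fintype.card_fin]
  constructor
  · rintro ⟨c, hc, h⟩
    exact ⟨c, hc, h.symm⟩
  · rintro ⟨c, hc, h⟩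
    exact ⟨c, hc, h.symm⟩

/-- the scalar matrices -/
def sc (c : F) (hc : c ^ 3 = 1) : SpecialLinearGroup (Fin 3) F := ⟨Matrix.scalar (Fin 3) c, by
  rw [scalar_apply, det_diagonal, Finset.prod_const, Finset.card_univ, Fintype.card_fin, hc]⟩

theorem mk_sc (c : F) (hc : c ^ 3 = 1) : mk F (sc c hc) = 1 := mk_eq_one.2 ⟨c, hc, rfl⟩

theorem sc_comm (c : F) (hc : c ^ 3 = 1) (s : SpecialLinearGroup (Fin 3) F) : sc c hc * s = s * sc c hc :=
  Subtype.ext (Matrix.scalar_commute c (Commute.all c) s.1).eq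

theorem sc_pow (c : F) (hc : c ^ 3 = 1) (n : ℕ) : (sc c hc ^ n).1 = Matrix.scalar (Fin 3) (c ^ n) := by
  rw [Matrix.SpecialLinearGroup.coe_pow, map_pow]; rfl

/-- the condition on `n`: prime to three or no central elements -/
def Ok (F : Type) [Field F] (n : ℕ) : Prop := Nat.Coprime n 3 ∨ ∀ c : F, c ^ 3 = 1 → c = 1

theorem exists_lift {n : ℕ} (hn : Ok F n) {y : ProjectiveSpecialLinearGroup (Fin 3) F} (hy : y ^ n = 1) :
    ∃ s : SpecialLinearGroup (Fin 3) F, mk F s = y ∧ s ^ n = 1 := by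
  obtain ⟨s, rfl⟩ := mk_surjective y
  rw [← map_pow] at hy
  obtain ⟨c, hc, hs⟩ := mk_eq_one.1 hy
  obtain ⟨d, hd, hdc⟩ : ∃ d : F, d ^ 3 = 1 ∧ d ^ n * c = 1 := by
    rcases hn with hn | hn
    · have h3 : n % 3 = 1 ∨ n % 3 = 2 := by
        have h4 : ¬ 3 ∣ n := by
          intro h
          have h5 := Nat.dvd_gcd h (dvd_refl 3)
          rw [hn] at h5
          omega
        omega
      rcases h3 with h3 | h3
      · refine ⟨c ^ 2, by rw [← pow_mul, mul_comm, pow_mul, hc, one_pow], ?_⟩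
        rw [← pow_mul, ← pow_succ]
        have : 2 * n + 1 = 3 * (2 * (n / 3) + 1) := by omega
        rw [this, pow_mul, hc, one_pow]
      · refine ⟨c, hc, ?_⟩
        rw [← pow_succ]
        have : n + 1 = 3 * (n / 3 + 1) := by omega
        rw [this, pow_mul, hc, one_pow]
    · exact ⟨1, one_pow _, by rw [hn c hc, one_pow, one_mul]⟩
  refine ⟨sc d hd * s, by rw [map_mul, mk_sc, one_mul], ?_⟩
  have h1 : Commute (sc d hd) s := sc_comm d hd s
  rw [h1.mul_pow]
  apply Subtype.ext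
  rw [Matrix.SpecialLinearGroup.coe_mul, sc_pow, hs, ← map_mul, hdc, map_one]
  rfl

theorem eq_of_mk {n : ℕ} (hn : Ok F n) {a b : SpecialLinearGroup (Fin 3) F} (h : mk F a = mk F b) (ha : a ^ n = 1)
    (hb : b ^ n = 1) : a = b := by
  have h1 : mk F (a * b⁻¹) = 1 := by rw [map_mul, map_inv, h, mul_inv_cancel]
  obtain ⟨c, hc, hs⟩ := mk_eq_one.1 h1
  have h2 : a * b⁻¹ = sc c hc := Subtype.ext hs
  have h3 : a = sc c hc * b := by rw [← h2, inv_mul_cancel_right]
  have h4 : sc c hc ^ n = 1 := by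
    have h5 : Commute (sc c hc) b := sc_comm c hc b
    rw [h3, h5.mul_pow, hb, mul_one] at ha
    exact ha
  have h5 : c ^ n = 1 := by
    have h6 := sc_pow c hc n
    rw [h4] at h6
    have h7 := congrFun (congrFun h6 0) 0
    rw [scalar_apply, diagonal_apply_eq] at h7
    rw [← h7]; rfl
  have h6 : c = 1 := by
    rcases hn with hn | hn
    · have h7 : orderOf c ∣ Nat.gcd n 3 := Nat.dvd_gcd (orderOf_dvd_of_pow_eq_one h5) (orderOf_dvd_of_pow_eq_one hc)
      rw [hn, Nat.dvd_one] at h7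
      exact orderOf_eq_one_iff.1 h7
    · exact hn c hc
  rw [h3]
  have h7 : sc c hc = 1 := by
    subst h6
    apply Subtype.ext
    change Matrix.scalar (Fin 3) (1 : F) = 1
    rw [map_one]
  rw [h7, one_mul]

theorem ok_two : Ok F 2 := Or.inl (by norm_num)

theorem ok_four : Ok F 4 := Or.inl (by norm_num)

/-- an involution normalising a subgroup of prime order -/
theorem conj_or {G : Type*} [Group G] [Finite G] {r : ℕ} (hr : r.Prime) {x t : G} (hx : orderOf x = r)
    (ht : t * t = 1) (hn : t ∈ normalizer (zpowers x : Set G)) : t * x * t⁻¹ = x ∨ t * x * t⁻¹ = x⁻¹ := by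
  have : Fact r.Prime := ⟨hr⟩
  have h1 : t * x * t⁻¹ ∈ zpowers x := (mem_normalizer_iff.1 hn x).1 (mem_zpowers x)
  rw [← (isOfFinOrder_of_finite x).mem_powers_iff_mem_zpowers] at h1
  obtain ⟨j, hj⟩ := h1
  have hj' : t * x * t⁻¹ = x ^ j := hj.symm
  have h2 := pow_conj_iter hj' 2
  rw [pow_two, ht, one_mul, inv_one, mul_one] at h2
  have h3 : ((j : ZMod r)) * j = 1 := by
    have h4 : x ^ 1 = x ^ (j ^ 2) := by rw [pow_one]; exact h2
    rw [pow_eq_pow_iff_modEq, hx] at h4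
    have h5 := (ZMod.natCast_eq_natCast_iff _ _ _).2 h4
    rw [Nat.cast_one, Nat.cast_pow, pow_two] at h5
    exact h5.symm
  rcases mul_self_eq_one_iff.1 h3 with h4 | h4
  · left
    rw [hj']
    have h5 : x ^ j = x ^ 1 := by
      rw [pow_eq_pow_iff_modEq, hx, ← ZMod.natCast_eq_natCast_iff, h4, Nat.cast_one]
    rw [h5, pow_one]
  · right
    rw [hj', eq_inv_iff_mul_eq_one, ← pow_succ]
    apply orderOf_dvd_iff_pow_eq_one.1
    rw [hx, ← ZMod.natCast_eq_zero_iff, Nat.cast_succ, h4]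
    ring

/-- the linear representation -/
abbrev τ (F : Type) [Field F] : SpecialLinearGroup (Fin 3) F →* ((Fin 3 → F) ≃ₗ[F] (Fin 3 → F)) :=
  Matrix.SpecialLinearGroup.toLin'

theorem τ_injective : Function.Injective (τ F) := Matrix.SpecialLinearGroup.toLin'_injective

theorem finrank_three : Module.finrank F (Fin 3 → F) = 3 := by
  rw [Module.finrank_fintype_fun_eq_card, Fintype.card_fin]

/-- not scalar -/
theorem not_scalar {s : SpecialLinearGroup (Fin 3) F} (h : mk F s ≠ 1) (c : F) : ∃ v, τ F s v ≠ c • v := by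
  by_contra hcon
  push Not at hcon
  apply h
  have h1 : s.1 = Matrix.scalar (Fin 3) c := by
    apply (Matrix.toLin' (R := F) (m := Fin 3) (n := Fin 3)).injective
    apply LinearMap.ext
    intro v
    have h2 := hcon v
    rw [Matrix.SpecialLinearGroup.toLin'_apply] at h2
    rw [h2, scalar_apply, ← smul_one_eq_diagonal, map_smul, LinearMap.smul_apply, toLin'_one]
    rfl
  have h2 := s.2
  rw [h1, scalar_apply, det_diagonal, Finset.prod_const, Finset.card_univ, Fintype.card_fin] at h2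
  exact mk_eq_one.2 ⟨c, h2, h1⟩

variable [Fintype F]

/-- lifting the relation -/
theorem lift_rel {r : ℕ} (hr : r.Prime) (hok : Ok F r) {x t : ProjectiveSpecialLinearGroup (Fin 3) F} (hx : orderOf x = r)
    (ht : t * t = 1) (hn : t ∈ normalizer (zpowers x : Set (ProjectiveSpecialLinearGroup (Fin 3) F))) :
    ∃ a b : SpecialLinearGroup (Fin 3) F, mk F a = x ∧ mk F b = t ∧ a ^ r = 1 ∧ b * b = 1 ∧
      (b * a * b⁻¹ = a ∨ b * a * b⁻¹ = a⁻¹) := by
  obtain ⟨a, ha, har⟩ := exists_lift hok (y := x) (by rw [← hx, pow_orderOf_eq_one])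
  obtain ⟨b, hb, hbt⟩ := exists_lift (ok_two (F := F)) (y := t) (by rw [pow_two, ht])
  refine ⟨a, b, ha, hb, har, by rw [← pow_two, hbt], ?_⟩
  have hc : (b * a * b⁻¹) ^ r = 1 := by rw [conj_pow, har, mul_one, mul_inv_cancel]
  rcases conj_or hr hx ht hn with h | h
  · left
    exact eq_of_mk hok (by rw [map_mul, map_mul, map_inv, ha, hb, h]) hc har
  · right
    exact eq_of_mk hok (by rw [map_mul, map_mul, map_inv, map_inv, ha, hb, h]) hc (by rw [inv_pow, har, inv_one])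

/-- **`q` of order three modulo `r`: no involution normalises `⟨x⟩`.** -/
theorem no_inv {r : ℕ} (hr : r.Prime) (hr2 : r ≠ 2) (hok : Ok F r)
    (hiff : ∀ j, r ∣ Fintype.card F ^ j - 1 ↔ 3 ∣ j) {x t : ProjectiveSpecialLinearGroup (Fin 3) F} (hx : orderOf x = r)
    (ht : t * t = 1) (ht1 : t ≠ 1) (hn : t ∈ normalizer (zpowers x : Set (ProjectiveSpecialLinearGroup (Fin 3) F))) :
    False := by
  have : Fact r.Prime := ⟨hr⟩
  obtain ⟨a, b, ha, hb, har, hbb, h⟩ := lift_rel hr hok hx ht hn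
  have ha1 : a ≠ 1 := by
    rintro rfl
    rw [map_one] at ha
    rw [← ha, orderOf_one] at hx
    exact hr.one_lt.ne hx
  refine no_inv_three (V := Fin 3 → F) (x := τ F a) (t := τ F b) hiff hr2 finrank_three ?_ ?_ ?_ ?_ ?_
  · rw [← map_pow, har, map_one]
  · intro h1
    exact ha1 (τ_injective (h1.trans (map_one _).symm))
  · rw [← map_mul, hbb, map_one]
  · exact not_scalar (by rw [hb]; exact ht1)
  · rw [← map_mul, ← map_inv, ← map_mul, ← map_inv]
    rcases h with h | h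
    · left; rw [h]
    · right; rw [h]

/-- **`q` even of order two modulo `r`: every involution normalising `⟨x⟩` inverts `x`.** -/
theorem inverts [CharP F 2] {r : ℕ} (hr : r.Prime) (hok : Ok F r)
    (hiff : ∀ j, r ∣ Fintype.card F ^ j - 1 ↔ 2 ∣ j) {x t : ProjectiveSpecialLinearGroup (Fin 3) F} (hx : orderOf x = r)
    (ht : t * t = 1) (ht1 : t ≠ 1) (hn : t ∈ normalizer (zpowers x : Set (ProjectiveSpecialLinearGroup (Fin 3) F))) :
    t * x ≠ x * t ∧ t * x * t⁻¹ = x⁻¹ := by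
  have : Fact r.Prime := ⟨hr⟩
  have key : t * x * t⁻¹ ≠ x := by
    intro hc
    obtain ⟨a, b, ha, hb, har, hbb, h⟩ := lift_rel hr hok hx ht hn
    have ha1 : a ≠ 1 := by
      rintro rfl
      rw [map_one] at ha
      rw [← ha, orderOf_one] at hx
      exact hr.one_lt.ne hx
    have hb1 : b ≠ 1 := by
      rintro rfl
      rw [map_one] at hb
      exact ht1 hb.symm
    have h' : b * a * b⁻¹ = a := eq_of_mk hok (by rw [map_mul, map_mul, map_inv, ha, hb, hc])
      (by rw [conj_pow, har, mul_one, mul_inv_cancel]) har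
    refine no_comm_two (V := Fin 3 → F) (x := τ F a) (t := τ F b) hiff finrank_three ?_ ?_ ?_ ?_ ?_
    · rw [← map_pow, har, map_one]
    · intro h1
      exact ha1 (τ_injective (h1.trans (map_one _).symm))
    · rw [← map_mul, hbb, map_one]
    · intro h1
      exact hb1 (τ_injective (h1.trans (map_one _).symm))
    · rw [← map_mul, ← map_mul]
      rw [mul_inv_eq_iff_eq_mul] at h'
      rw [h']
  refine ⟨fun h => key ?_, (conj_or hr hx ht hn).resolve_left key⟩
  rw [h, mul_inv_cancel_right]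

/-- **`q` even of order two modulo `r`: the square of an element of order dividing four normalising `⟨x⟩` is one.** -/
theorem sq_eq_one [CharP F 2] {r : ℕ} (hr : r.Prime) (hok : Ok F r)
    (hiff : ∀ j, r ∣ Fintype.card F ^ j - 1 ↔ 2 ∣ j) {x g : ProjectiveSpecialLinearGroup (Fin 3) F} (hx : orderOf x = r)
    (hg : g ^ 4 = 1) (hn : g ∈ normalizer (zpowers x : Set (ProjectiveSpecialLinearGroup (Fin 3) F))) :
    g * g = 1 := by
  have : Fact r.Prime := ⟨hr⟩
  by_contra hg1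
  have hgg : (g * g) * (g * g) = 1 := by
    rw [← hg, ← pow_two, ← pow_two, ← pow_mul]
  obtain ⟨-, hinv⟩ := inverts hr hok hiff hx hgg hg1 (mul_mem hn hn)
  obtain ⟨a, ha, har⟩ := exists_lift hok (y := x) (by rw [← hx, pow_orderOf_eq_one])
  obtain ⟨b, hb, hbt⟩ := exists_lift (ok_four (F := F)) hg
  have ha1 : a ≠ 1 := by
    rintro rfl
    rw [map_one] at ha
    rw [← ha, orderOf_one] at hx
    exact hr.one_lt.ne hx
  have hbb : (b * b) * (b * b) = 1 := by
    rw [← hbt, ← pow_two, ← pow_two, ← pow_mul]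
  have hbb1 : b * b ≠ 1 := by
    intro h
    apply hg1
    rw [← hb, ← map_mul, h, map_one]
  have h' : b * b * a * (b * b)⁻¹ = a⁻¹ := eq_of_mk hok
    (by rw [map_mul, map_mul, map_mul, map_inv, map_inv, map_mul, ha, hb, hinv])
    (by rw [conj_pow, har, mul_one, mul_inv_cancel]) (by rw [inv_pow, har, inv_one])
  -- `g` normalises
  have h1 : g⁻¹ * x * g ∈ zpowers x := by
    have h2 := (mem_normalizer_iff.1 (inv_mem hn) x).1 (mem_zpowers x)
    rwa [inv_inv] at h2
  rw [← (isOfFinOrder_of_finite x).mem_powers_iff_mem_zpowers] at h1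
  obtain ⟨j, hj⟩ := h1
  have hj' : x ^ j = g⁻¹ * x * g := hj
  have h3 : b⁻¹ * a * b = a ^ j := eq_of_mk hok
    (by rw [map_mul, map_mul, map_inv, map_pow, ha, hb, hj'])
    (by
      have h4 := conj_pow (i := r) (a := b⁻¹) (b := a)
      rw [inv_inv] at h4
      rw [h4, har, mul_one, inv_mul_cancel]) (by rw [← pow_mul, mul_comm, pow_mul, har, one_pow])
  refine no_four_two (V := Fin 3 → F) (x := τ F a) (t := τ F (b * b)) (g := τ F b) hiff finrank_three ?_ ?_ ?_ ?_ ?_ ?_ ?_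
  · rw [← map_pow, har, map_one]
  · intro h4
    exact ha1 (τ_injective (h4.trans (map_one _).symm))
  · rw [← map_mul]
  · rw [← map_mul, hbb, map_one]
  · intro h4
    exact hbb1 (τ_injective (h4.trans (map_one _).symm))
  · rw [← map_mul, ← map_inv, ← map_mul, ← map_inv, h']
  · intro v hv
    rw [mem_fx] at hv ⊢
    have h4 : a * b = b * a ^ j := by rw [← h3]; group
    have h5 : τ F a (τ F b v) = τ F b (τ F (a ^ j) v) := by
      rw [← LinearEquiv.mul_apply, ← LinearEquiv.mul_apply, ← map_mul, ← map_mul, h4]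
    rw [h5, map_pow]
    have h6 := pow_eigen (x := τ F a) (w := v) (a := (1 : F)) (by rw [one_smul]; exact hv) j
    rw [h6, one_pow, one_smul]

/-- **`q` even of order two modulo `r`.** -/
theorem not_four [CharP F 2] {r : ℕ} (hr : r.Prime) (hok : Ok F r)
    (hiff : ∀ j, r ∣ Fintype.card F ^ j - 1 ↔ 2 ∣ j) {x : ProjectiveSpecialLinearGroup (Fin 3) F} (hx : orderOf x = r) :
    ¬ 4 ∣ Nat.card (normalizer (zpowers x : Set (ProjectiveSpecialLinearGroup (Fin 3) F))) := by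
  intro h4
  have : Fact (Nat.Prime 2) := ⟨Nat.prime_two⟩
  obtain ⟨Q, hQ⟩ := Sylow.exists_subgroup_card_pow_prime
    (G := ↥(normalizer (zpowers x : Set (ProjectiveSpecialLinearGroup (Fin 3) F)))) 2 (n := 2)
    (by norm_num; exact h4)
  have hsq : ∀ g ∈ Q, g * g = 1 := by
    intro g hg
    have h1 : g ^ 4 = 1 := by
      have h2 : (⟨g, hg⟩ : ↥Q) ^ Nat.card ↥Q = 1 := pow_card_eq_one'
      rw [hQ] at h2
      exact congrArg Subtype.val h2
    apply Subtype.ext
    refine sq_eq_one hr hok hiff hx ?_ g.2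
    have h2 := congrArg Subtype.val h1
    exact h2
  have hQ4 : Nat.card ↥Q = 4 := hQ
  have hfin : Finite ↥Q := Nat.finite_of_card_ne_zero (by omega)
  have : Nontrivial ↥Q := Finite.one_lt_card_iff_nontrivial.1 (by omega)
  obtain ⟨s, hs⟩ := exists_ne (1 : ↥Q)
  obtain ⟨t, ht, hts⟩ : ∃ t : ↥Q, t ≠ 1 ∧ t ≠ s := by
    by_contra hcon
    push Not at hcon
    have h1 : (Set.univ : Set ↥Q) ⊆ {1, s} := by
      intro t _
      by_cases h : t = 1
      · exact Or.inl h
      · exact Or.inr (hcon t h)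
    have h2 := Set.ncard_le_ncard h1 (Set.toFinite _)
    rw [Set.ncard_univ, hQ4] at h2
    have h3 : ({1, s} : Set ↥Q).ncard ≤ 2 := Set.ncard_insert_le _ _ |>.trans (by rw [Set.ncard_singleton])
    omega
  let f : ↥Q →* ProjectiveSpecialLinearGroup (Fin 3) F := (Subgroup.subtype _).comp Q.subtype
  have key : ∀ u : ↥Q, u ≠ 1 → f u * x ≠ x * f u ∧ f u * x * (f u)⁻¹ = x⁻¹ := by
    intro u hu
    refine inverts hr hok hiff hx ?_ ?_ (Q.subtype u).2
    · exact congrArg Subtype.val (hsq u u.2)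
    · intro h
      apply hu
      exact Subtype.ext (Subtype.ext h)
  have h1 := (key s hs).2
  have h2 := (key t ht).2
  have h3 : s * t ≠ 1 := by
    intro h
    apply hts
    have h4 : s * s = 1 := Subtype.ext (hsq s s.2)
    exact mul_left_cancel (h.trans h4.symm)
  apply (key (s * t) h3).1
  rw [map_mul]
  have h4 : f t * x = x⁻¹ * f t := by rw [← h2, inv_mul_cancel_right]
  have h5 : f s * x⁻¹ = x * f s := by
    have h6 : f s * x⁻¹ * (f s)⁻¹ = x := by
      calc f s * x⁻¹ * (f s)⁻¹ = (f s * x * (f s)⁻¹)⁻¹ := by group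
        _ = x := by rw [h1, inv_inv]
    exact mul_inv_eq_iff_eq_mul.1 h6
  calc f s * f t * x = f s * (f t * x) := by rw [mul_assoc]
    _ = f s * x⁻¹ * f t := by rw [h4, mul_assoc]
    _ = x * (f s * f t) := by rw [h5, mul_assoc]

end Cfsg.Agent.H583.FxThree

namespace Cfsg.Agent.H583.FxThree

open Subgroup Cfsg.Agent.H254.Fx

/-- **a cyclic Sylow subgroup in `D`** -/
theorem four_dvd {G : Type*} [Group G] [Finite G] {D : Subgroup G} (h : OddTI 4 D) {r : ℕ} (hr : r.Prime)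
    {P : Sylow r G} (hP : (P : Subgroup G) ≤ D) (hcyc : IsCyclic ↥(P : Subgroup G)) {x : G}
    (hxP : x ∈ (P : Subgroup G)) (hx : orderOf x = r) : 4 ∣ Nat.card (normalizer (zpowers x : Set G)) := by
  have : Fact r.Prime := ⟨hr⟩
  have hP1 : (P : Subgroup G) ≠ ⊥ := by
    intro h1
    rw [h1, mem_bot] at hxP
    rw [hxP, orderOf_one] at hx
    exact hr.one_lt.ne hx
  have h1 := (h.tran r P hr hP hP1).trans (h.relIndex_dvd hr hP)
  refine h1.trans (card_dvd_of_le ?_)
  intro g hg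
  have h2 : (zpowers x).map (MulAut.conj g).toMonoidHom = zpowers x := by
    refine Cfsg.Agent.OddOrderLocal.CyclicSub.eq_of_card_eq_of_le_cyclic (Z := (P : Subgroup G)) hcyc ?_
      (zpowers_le.2 hxP) (card_map_eq _ _)
    rw [MonoidHom.map_zpowers, zpowers_le]
    exact (mem_normalizer_iff.1 hg x).1 hxP
  exact Cfsg.Agent.EvenType.StrongP.mem_norm.2 h2

end Cfsg.Agent.H583.FxThree
end

private theorem dce_774d98634f37 : _root_.True := by
  try have : _root_.True := by simp only [_root_.Cfsg.Agent.H583.FxLin.fx.eq_1]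
  exact _root_.True.intro
end

-- part: H583/FxPslThree_mg
section
prune_inst 0x3044100002000000058001000004040005b00020800080800240020021020980010004001100000822010000002001000080000000000000040000040000008800003000000006001e000000000000000000000000000000000000010004000000000
set_option linter.all false
open scoped Cfsg.Agent.FastGrp

-- part: H583/FxTorus
section
/-!
# The torus of order `(q² - 1)/d` and the unipotent radical in `PSL_3(q)` (helper583, task 2052)
-/

set_option autoImplicit false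
set_option linter.unusedSectionVars false

namespace Cfsg.Agent.H583.FxThree

open Matrix Subgroup Cfsg.Agent.H254.Fx

variable {F : Type} [Field F]

/-- `diag(A, d)` -/
def gM (A : Matrix (Fin 2) (Fin 2) F) (d : F) : Matrix (Fin 3) (Fin 3) F :=
  !![A 0 0, A 0 1, 0; A 1 0, A 1 1, 0; 0, 0, d]

theorem gM_mul (A B : Matrix (Fin 2) (Fin 2) F) (d e : F) : gM A d * gM B e = gM (A * B) (d * e) := by
  ext i j
  (revert i j; simp only [gM, mul_apply, Fin.sum_univ_three, Fin.sum_univ_two, _root_.Fin.forall_fin_succ, Fin.isValue, _root_.Matrix.of_apply, _root_.Matrix.cons_val', _root_.Matrix.cons_val_fin_one, _root_.Matrix.cons_val_zero, _root_.Matrix.cons_val_one, _root_.Matrix.cons_val, _root_.MulZeroClass.mul_zero, _root_.add_zero, _root_.Matrix.cons_val_succ, _root_.zero_add, _root_.forall_const, _root_.MulZeroClass.zero_mul, _root_.and_self, _root_.implies_true])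

theorem gM_one : gM (1 : Matrix (Fin 2) (Fin 2) F) 1 = 1 := by
  ext i j
  (revert i j; simp only [gM, _root_.Fin.forall_fin_succ, _root_.Matrix.one_apply_eq, Fin.isValue, _root_.ne_eq, _root_.zero_ne_one, _root_.not_false_eq_true, _root_.Matrix.one_apply_ne, _root_.one_ne_zero, _root_.Matrix.of_apply, _root_.Matrix.cons_val', _root_.Matrix.cons_val_fin_one, _root_.Matrix.cons_val_zero, _root_.Matrix.cons_val_succ, _root_.IsEmpty.forall_iff, _root_.and_true, Nat.reduceAdd, _root_.Fin.succ_zero_eq_one, _root_.Fin.succ_one_eq_two, Fin.reduceEq, _root_.and_self, _root_.Fin.succ_ne_zero, _root_.true_and])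

/-- `A ↦ diag(A, det A⁻¹)` -/
def gS (F : Type) [Field F] : GL (Fin 2) F →* Matrix.SpecialLinearGroup (Fin 3) F where
  toFun A := ⟨gM A.1 (((GeneralLinearGroup.det A)⁻¹ : Fˣ) : F), by
    have h1 : A.1 0 0 * A.1 1 1 - A.1 0 1 * A.1 1 0 = ((GeneralLinearGroup.det A : Fˣ) : F) := (det_fin_two A.1).symm
    have h2 := Units.mul_inv (GeneralLinearGroup.det A)
    rw [gM, det_fin_three]
    simp only [_root_.Fin.isValue, _root_.Units.val_inv_eq_inv_val, _root_.Matrix.GeneralLinearGroup.val_det_apply, _root_.Matrix.of_apply, _root_.Matrix.cons_val', _root_.Matrix.cons_val_zero, _root_.Matrix.cons_val_fin_one, _root_.Matrix.cons_val_one, _root_.Matrix.cons_val, _root_.MulZeroClass.mul_zero, _root_.sub_zero, _root_.add_zero, _root_.MulZeroClass.zero_mul]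
    rw [← h2, ← h1]
    simp only [_root_.Fin.isValue, _root_.Units.val_inv_eq_inv_val, _root_.Matrix.GeneralLinearGroup.val_det_apply]
    ring⟩
  map_one' := by
    apply Subtype.ext
    change gM (1 : Matrix (Fin 2) (Fin 2) F) (((GeneralLinearGroup.det (1 : GL (Fin 2) F))⁻¹ : Fˣ) : F) = 1
    rw [map_one, inv_one, Units.val_one, gM_one]
  map_mul' A B := by
    apply Subtype.ext
    change gM (A.1 * B.1) (((GeneralLinearGroup.det (A * B))⁻¹ : Fˣ) : F) = gM A.1 _ * gM B.1 _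
    rw [gM_mul, map_mul, mul_inv, Units.val_mul]

theorem coe_gS (A : GL (Fin 2) F) : (gS F A).1 = gM A.1 (((GeneralLinearGroup.det A)⁻¹ : Fˣ) : F) := rfl

/-- `GL_2 → PSL_3` -/
abbrev gK (F : Type) [Field F] : GL (Fin 2) F →* ProjectiveSpecialLinearGroup (Fin 3) F := (mk F).comp (gS F)

theorem gK_eq_one {A : GL (Fin 2) F} (h : gK F A = 1) : ∃ c : F, c ^ 3 = 1 ∧ A.1 = Matrix.scalar (Fin 2) c := by
  obtain ⟨c, hc, h1⟩ := mk_eq_one.1 h
  refine ⟨c, hc, ?_⟩
  rw [coe_gS] at h1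
  have h2 : ∀ i j, gM A.1 (((GeneralLinearGroup.det A)⁻¹ : Fˣ) : F) i j = Matrix.scalar (Fin 3) c i j :=
    fun i j => by rw [h1]
  ext i j
  fin_cases i <;> fin_cases j
  · simpa [gM] using h2 0 0
  · simpa [gM] using h2 0 1
  · simpa [gM] using h2 1 0
  · simpa [gM] using h2 1 1

section field

variable {E : Type} [Field E] [Finite E] [Algebra F E] (b : Module.Basis (Fin 2) F E)

/-- multiplications -/
noncomputable def TT : Eˣ →* GL (Fin 2) F := Units.map (Algebra.leftMulMatrix b : E →* Matrix (Fin 2) (Fin 2) F)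

theorem TT_eq_scalar {a : Eˣ} {c : F} (h : (TT b a).1 = Matrix.scalar _ c) : (a : E) = algebraMap F E c := by
  have h1 : Algebra.leftMulMatrix b (a : E) = Matrix.scalar _ c := h
  apply Algebra.leftMulMatrix_injective b
  rw [h1, AlgHom.commutes]
  rfl

/-- the torus -/
noncomputable abbrev tor : Eˣ →* ProjectiveSpecialLinearGroup (Fin 3) F := (gK F).comp (TT b)

theorem tor_eq_one {a : Eˣ} (h : tor b a = 1) : a ^ 3 = 1 ∧ ((∀ c : F, c ^ 3 = 1 → c = 1) → a = 1) := by
  obtain ⟨c, hc, h1⟩ := gK_eq_one h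
  have h2 := TT_eq_scalar b h1
  constructor
  · apply Units.ext
    rw [Units.val_pow_eq_pow_val, h2, ← map_pow, hc, map_one, Units.val_one]
  · intro h3
    apply Units.ext
    rw [h2, h3 c hc, map_one, Units.val_one]

theorem orderOf_tor {r : ℕ} (hr : r.Prime) (hok : Ok F r) {a : Eˣ} (ha : orderOf a = r) : orderOf (tor b a) = r := by
  have : Fact r.Prime := ⟨hr⟩
  refine orderOf_eq_prime (by rw [← map_pow, ← ha, pow_orderOf_eq_one, map_one]) fun h => ?_
  obtain ⟨h3, h1⟩ := tor_eq_one b h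
  have h4 : a = 1 := by
    rcases hok with hok | hok
    · have h7 : orderOf a ∣ Nat.gcd r 3 := Nat.dvd_gcd (dvd_of_eq ha) (orderOf_dvd_of_pow_eq_one h3)
      rw [hok, Nat.dvd_one] at h7
      exact orderOf_eq_one_iff.1 h7
    · exact h1 hok
  rw [h4, orderOf_one] at ha
  exact hr.one_lt.ne ha

theorem eight_dvd_range [Fintype F] (ho : Odd (Fintype.card F)) (hcard : Nat.card E = Fintype.card F ^ 2) :
    8 ∣ Nat.card (tor b).range := by
  have h1 : Nat.card Eˣ = Fintype.card F ^ 2 - 1 := by rw [Nat.card_units, hcard]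
  have h2 : 8 ∣ Nat.card Eˣ := by
    rw [h1]
    obtain ⟨k, hk⟩ := ho
    obtain ⟨m, hm⟩ := Nat.even_mul_succ_self k
    have : Fintype.card F ^ 2 - 1 = 8 * m := by
      rw [hk, Nat.sub_eq_iff_eq_add (Nat.one_le_pow _ _ (by omega))]
      have : (2 * k + 1) ^ 2 = 4 * (k * (k + 1)) + 1 := by ring
      rw [this, hm]; ring
    rw [this]
    exact dvd_mul_right _ _
  have h3 : Nat.card (tor b).ker * Nat.card (tor b).range = Nat.card Eˣ := by
    rw [← Subgroup.index_ker, Subgroup.card_mul_index]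
  have h4 : IsPGroup 3 (tor b).ker := by
    intro a
    refine ⟨1, Subtype.ext ?_⟩
    rw [pow_one]
    exact (tor_eq_one b a.2).1
  have : Fact (Nat.Prime 3) := ⟨Nat.prime_three⟩
  obtain ⟨n, hn⟩ := (IsPGroup.iff_card).1 h4
  rw [← h3] at h2
  have h5 : Nat.Coprime 8 (Nat.card (tor b).ker) := by
    rw [hn]
    exact Nat.Coprime.pow_right n (by norm_num)
  exact h5.dvd_of_dvd_mul_left h2

/-- **`q` odd: the elements of the torus are bad.** -/
theorem bad_tor [Fintype F] (ho : Odd (Fintype.card F)) (hcard : Nat.card E = Fintype.card F ^ 2) (a : Eˣ) :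
    Bad (tor b a) := by
  refine bad_of_comm_eight (Y := (tor b).range) ?_ (eight_dvd_range b ho hcard)
  rintro _ ⟨c, rfl⟩
  rw [← map_mul, ← map_mul, mul_comm]

end field

/-- the field extension of degree two -/
theorem exists_ext (F : Type) [Field F] [Fintype F] :
    ∃ (E : Type) (_ : Field E) (_ : Finite E) (_ : Algebra F E), Nat.card E = Fintype.card F ^ 2 ∧
      Nonempty (Module.Basis (Fin 2) F E) := by
  obtain ⟨r, hr⟩ := CharP.exists F
  obtain ⟨n, hr', hn⟩ := FiniteField.card F r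
  have : Fact r.Prime := ⟨hr'⟩
  have hcardK : Nat.card (FiniteField.Extension F r 2) = Nat.card F ^ 2 := FiniteField.natCard_extension F r 2
  have hfin : Module.finrank F (FiniteField.Extension F r 2) = 2 := by
    have h1 := Module.natCard_eq_pow_finrank (K := F) (V := FiniteField.Extension F r 2)
    rw [hcardK] at h1
    exact (Nat.pow_right_injective (Finite.one_lt_card (α := F)) h1).symm
  refine ⟨FiniteField.Extension F r 2, inferInstance, inferInstance, inferInstance, ?_,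
    ⟨Module.finBasisOfFinrankEq F _ hfin⟩⟩
  rw [hcardK, Nat.card_eq_fintype_card]

/-! ### The unipotent radical -/

/-- `[1, v; 0, 1]` -/
def uM (a b : F) : Matrix (Fin 3) (Fin 3) F := !![1, 0, a; 0, 1, b; 0, 0, 1]

theorem uM_mul (a b a' b' : F) : uM a b * uM a' b' = uM (a + a') (b + b') := by
  ext i j
  fin_cases i <;> fin_cases j <;> simp [uM, mul_apply, Fin.sum_univ_three, add_comm]

/-- the unipotent radical of a maximal parabolic subgroup -/
def uS (F : Type) [Field F] : Multiplicative (F × F) →* Matrix.SpecialLinearGroup (Fin 3) F where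
  toFun p := ⟨uM p.toAdd.1 p.toAdd.2, by rw [uM, det_fin_three]; simp⟩
  map_one' := by
    apply Subtype.ext
    change uM (0 : F) 0 = 1
    ext i j
    (revert i j; simp only [uM, _root_.Fin.forall_fin_succ, _root_.Matrix.of_apply, _root_.Matrix.cons_val', _root_.Matrix.cons_val_fin_one, Fin.isValue, _root_.Matrix.cons_val_zero, _root_.Matrix.cons_val_succ, _root_.IsEmpty.forall_iff, _root_.and_true, _root_.Matrix.one_apply_eq, Nat.reduceAdd, _root_.Fin.succ_zero_eq_one, _root_.ne_eq, _root_.zero_ne_one, _root_.not_false_eq_true, _root_.Matrix.one_apply_ne, _root_.Fin.succ_one_eq_two, Fin.reduceEq, _root_.and_self, _root_.Fin.succ_ne_zero, _root_.true_and])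
  map_mul' p q := by
    apply Subtype.ext
    change uM (p.toAdd.1 + q.toAdd.1) (p.toAdd.2 + q.toAdd.2) = uM _ _ * uM _ _
    rw [uM_mul]

theorem coe_uS (p : Multiplicative (F × F)) : (uS F p).1 = uM p.toAdd.1 p.toAdd.2 := rfl

theorem gS_uS (A : GL (Fin 2) F) (p : Multiplicative (F × F)) : ∃ p' : Multiplicative (F × F),
    gS F A * uS F p = uS F p' * gS F A := by
  refine ⟨Multiplicative.ofAdd
    ((A.1 0 0 * p.toAdd.1 + A.1 0 1 * p.toAdd.2) * ((GeneralLinearGroup.det A : Fˣ) : F),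
     (A.1 1 0 * p.toAdd.1 + A.1 1 1 * p.toAdd.2) * ((GeneralLinearGroup.det A : Fˣ) : F)), ?_⟩
  apply Subtype.ext
  rw [Matrix.SpecialLinearGroup.coe_mul, Matrix.SpecialLinearGroup.coe_mul, coe_gS, coe_uS, coe_uS]
  have h2 := Units.mul_inv (GeneralLinearGroup.det A)
  rw [toAdd_ofAdd]
  generalize (((GeneralLinearGroup.det A)⁻¹ : Fˣ) : F) = e at *
  generalize ((GeneralLinearGroup.det A : Fˣ) : F) = d at *
  ext i j
  (revert i j; simp only [gM, uM, mul_apply, Fin.sum_univ_three, mul_assoc, h2, _root_.Fin.forall_fin_succ, Fin.isValue, _root_.Matrix.of_apply, _root_.Matrix.cons_val', _root_.Matrix.cons_val_fin_one, _root_.Matrix.cons_val_zero, _root_.Matrix.cons_val_one, _root_.Matrix.cons_val, _root_.mul_one, _root_.MulZeroClass.mul_zero, _root_.add_zero, _root_.Matrix.cons_val_succ, _root_.zero_add, _root_.forall_const, _root_.one_mul, _root_.MulZeroClass.zero_mul, _root_.and_self, _root_.implies_true])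

end Cfsg.Agent.H583.FxThree
end

-- part: H583/FxHeis
section
/-!
# The configuration `3²:Q_8` and `OddTI` (helper583, task 2052)

`heis_false` : `OddTI k D` with `3 ∣ |D|` is impossible if `G` contains a subgroup `⟨x, z⟩` of order nine normalised by
a quaternion group `⟨m, n⟩`.
-/

set_option autoImplicit false
set_option linter.unusedSectionVars false

namespace Cfsg.Agent.H583.FxHeis

open Subgroup Cfsg.Agent.H254.Fx

variable {G : Type*} [Group G]

/-- an element of prime order modulo a subgroup -/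
theorem mul_card_dvd [Finite G] {A Y : Subgroup G} (hA : A ≤ Y) {g : G} (hg : g ∈ Y) (hn : g ∈ normalizer (A : Set G))
    {p : ℕ} (hp : p.Prime) (hgp : g ^ p ∈ A) (hgA : g ∉ A) : p * Nat.card A ∣ Nat.card Y := by
  have : Fact p.Prime := ⟨hp⟩
  set! B := A ⊔ zpowers g with hB
  have hBY : B ≤ Y := sup_le hA (zpowers_le.2 hg)
  have hBN : B ≤ normalizer (A : Set G) := sup_le le_normalizer (zpowers_le.2 hn)
  have hAB : A ≤ B := le_sup_left
  have hgB : g ∈ B := mem_sup_right (mem_zpowers g)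
  have hnorm : (A.subgroupOf B).Normal := normal_subgroupOf_of_le_normalizer hBN
  have h1 : p ∣ (A.subgroupOf B).index := by
    have h2 : orderOf (QuotientGroup.mk' (A.subgroupOf B) ⟨g, hgB⟩) = p := by
      refine orderOf_eq_prime ?_ ?_
      · rw [← map_pow, QuotientGroup.mk'_apply, QuotientGroup.eq_one_iff, mem_subgroupOf]
        exact hgp
      · rw [Ne, QuotientGroup.mk'_apply, QuotientGroup.eq_one_iff, mem_subgroupOf]
        exact hgA
    rw [Subgroup.index, ← h2]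
    exact _root_.orderOf_dvd_natCard _
  have h2 : Nat.card (A.subgroupOf B) * (A.subgroupOf B).index = Nat.card B := card_mul_index _
  rw [Nat.card_congr (subgroupOfEquivOfLe hAB).toEquiv] at h2
  have h3 : p * Nat.card A ∣ Nat.card B := by
    rw [← h2, mul_comm]
    exact mul_dvd_mul_left _ h1
  exact h3.trans (card_dvd_of_le hBY)

/-- the relations of `3²:Q_8` -/
structure Heis (x z m n : G) : Prop where
  xz : x * z = z * x
  x3 : x ^ 3 = 1
  z3 : z ^ 3 = 1
  mz : x * m * z = m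
  mx : m * x = z * m
  nz : x * n * z = z * n
  nx : x * n * x = z ^ 2 * n
  m4 : m * m * (m * m) = 1
  nn : n * n = m * m
  mnm : m * n * m = n
  x1 : x ≠ 1
  m1 : m * m ≠ 1

variable {x z m n : G}

theorem Heis.m_z (h : Heis x z m n) : m * z * m⁻¹ = x⁻¹ := by
  have h1 := h.mz
  rw [mul_inv_eq_iff_eq_mul, eq_inv_mul_iff_mul_eq, ← mul_assoc]
  exact h1

theorem Heis.m_x (h : Heis x z m n) : m * x * m⁻¹ = z := by
  rw [mul_inv_eq_iff_eq_mul]; exact h.mx

theorem Heis.n_z (h : Heis x z m n) : n * z * n⁻¹ = x⁻¹ * z := by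
  rw [mul_inv_eq_iff_eq_mul, mul_assoc, eq_inv_mul_iff_mul_eq, ← mul_assoc]; exact h.nz

theorem Heis.n_x (h : Heis x z m n) : n * x * n⁻¹ = x⁻¹ * z ^ 2 := by
  rw [mul_inv_eq_iff_eq_mul, mul_assoc, eq_inv_mul_iff_mul_eq, ← mul_assoc]; exact h.nx

/-- the subgroup of order nine -/
def P (x z : G) : Subgroup G := _root_.Subgroup.closure {x, z}

theorem x_mem : x ∈ P x z := _root_.Subgroup.subset_closure (by simp)
theorem z_mem : z ∈ P x z := _root_.Subgroup.subset_closure (by simp)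

theorem Heis.comm (h : Heis x z m n) {a b : G} (ha : a ∈ P x z) (hb : b ∈ P x z) : a * b = b * a := by
  have h1 : P x z ≤ centralizer (P x z : Set G) := by
    rw [P, le_centralizer_iff_isMulCommutative]
    refine isMulCommutative_closure ?_
    rintro a (rfl | rfl) b (rfl | rfl)
    · rfl
    · exact h.xz
    · exact h.xz.symm
    · rfl
  exact (mem_centralizer_iff.1 (h1 hb) a ha)

theorem Heis.cube (h : Heis x z m n) {a : G} (ha : a ∈ P x z) : a ^ 3 = 1 := by
  rw [P] at ha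
  induction ha using closure_induction with
  | mem a ha =>
    rcases ha with rfl | rfl
    · exact h.x3
    · exact h.z3
  | one => exact one_pow _
  | mul a b ha hb iha ihb =>
    have h1 : Commute a b := h.comm ha hb
    rw [h1.mul_pow, iha, ihb, one_mul]
  | inv a _ iha => rw [inv_pow, iha, inv_one]

theorem Heis.isPGroup (h : Heis x z m n) : IsPGroup 3 (P x z) := by
  intro a
  exact ⟨1, Subtype.ext (by rw [pow_one]; exact h.cube a.2)⟩

theorem mem_normalizer_P [Finite G] {g : G} (hx : g * x * g⁻¹ ∈ P x z) (hz : g * z * g⁻¹ ∈ P x z) :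
    g ∈ normalizer (P x z : Set G) := by
  rw [Cfsg.Agent.EvenType.StrongP.mem_norm]
  refine eq_of_le_of_card_ge ?_ ?_
  · rw [P, MonoidHom.map_closure, Set.image_pair, closure_le]
    rintro a (rfl | rfl)
    · exact hx
    · exact hz
  · rw [card_map_eq]

theorem Heis.m_norm [Finite G] (h : Heis x z m n) : m ∈ normalizer (P x z : Set G) := by
  apply mem_normalizer_P
  · rw [h.m_x]; exact z_mem
  · rw [h.m_z]; exact inv_mem x_mem

theorem Heis.n_norm [Finite G] (h : Heis x z m n) : n ∈ normalizer (P x z : Set G) := by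
  apply mem_normalizer_P
  · rw [h.n_x]; exact mul_mem (inv_mem x_mem) (pow_mem z_mem _)
  · rw [h.n_z]; exact mul_mem (inv_mem x_mem) z_mem

theorem Heis.inv_x (h : Heis x z m n) : (m * m) * x * (m * m)⁻¹ = x⁻¹ := by
  have : (m * m) * x * (m * m)⁻¹ = m * (m * x * m⁻¹) * m⁻¹ := by group
  rw [this, h.m_x, h.m_z]

theorem Heis.inv_z (h : Heis x z m n) : (m * m) * z * (m * m)⁻¹ = z⁻¹ := by
  have : (m * m) * z * (m * m)⁻¹ = m * (m * z * m⁻¹) * m⁻¹ := by group
  have h2 : m * x⁻¹ * m⁻¹ = (m * x * m⁻¹)⁻¹ := by group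
  rw [this, h.m_z, h2, h.m_x]

theorem Heis.inv_all (h : Heis x z m n) {a : G} (ha : a ∈ P x z) : (m * m) * a * (m * m)⁻¹ = a⁻¹ := by
  rw [P] at ha
  induction ha using closure_induction with
  | mem a ha =>
    rcases ha with rfl | rfl
    · exact h.inv_x
    · exact h.inv_z
  | one => group
  | mul a b ha hb iha ihb =>
    have h1 : (m * m) * (a * b) * (m * m)⁻¹ = ((m * m) * a * (m * m)⁻¹) * ((m * m) * b * (m * m)⁻¹) := by group
    rw [h1, iha, ihb, ← mul_inv_rev, h.comm ha hb]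
  | inv a _ iha =>
    rw [← conj_inv, iha]

theorem Heis.orderOf_m (h : Heis x z m n) : orderOf m = 4 := by
  have h1 : m ^ 4 = 1 := by
    rw [← h.m4, ← pow_two, ← pow_two, ← pow_mul]
  have h2 := orderOf_dvd_of_pow_eq_one h1
  have h3 : ¬ orderOf m ∣ 2 := by
    intro h4
    apply h.m1
    rw [← pow_two]
    exact orderOf_dvd_iff_pow_eq_one.1 h4
  have h5 : orderOf m ≤ 4 := Nat.le_of_dvd (by norm_num) h2
  interval_cases hm : orderOf m
  all_goals first | rfl | (exfalso; revert h2 h3; decide)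

/-- `8 ∣ |N(⟨x, z⟩)|` -/
theorem Heis.eight [Finite G] (h : Heis x z m n) : 8 ∣ Nat.card (normalizer (P x z : Set G)) := by
  have h1 : n * m * n⁻¹ = m⁻¹ := by
    rw [mul_inv_eq_iff_eq_mul, eq_inv_mul_iff_mul_eq, ← mul_assoc]; exact h.mnm
  have h2 : n ∈ normalizer (zpowers m : Set G) := by
    rw [Cfsg.Agent.EvenType.StrongP.mem_norm]
    refine eq_of_le_of_card_ge ?_ ?_
    · rw [MonoidHom.map_zpowers, zpowers_le]
      change n * m * n⁻¹ ∈ zpowers m
      rw [h1]
      exact inv_mem (mem_zpowers m)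
    · rw [card_map_eq]
  have h3 : n ∉ zpowers m := by
    intro hmem
    obtain ⟨k, hk⟩ := mem_zpowers_iff.1 hmem
    have h4 : n * m * n⁻¹ = m := by rw [← hk]; group
    apply h.m1
    rw [h4] at h1
    exact mul_eq_one_iff_eq_inv.2 h1
  have h4 := mul_card_dvd (A := zpowers m) (Y := normalizer (P x z : Set G)) (zpowers_le.2 h.m_norm) h.n_norm h2
    Nat.prime_two (by rw [pow_two, h.nn]; exact mul_mem (mem_zpowers m) (mem_zpowers m)) h3
  rwa [Nat.card_zpowers, h.orderOf_m] at h4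

/-- `9 ∣ |⟨x, z⟩|` -/
theorem Heis.nine [Finite G] (h : Heis x z m n) : 9 ∣ Nat.card (P x z) := by
  have hf : Fact (Nat.Prime 3) := ⟨Nat.prime_three⟩
  have hx : orderOf x = 3 := orderOf_eq_prime h.x3 h.x1
  have h3 : z ∉ zpowers x := by
    intro hmem
    rw [← (isOfFinOrder_of_finite x).mem_powers_iff_mem_zpowers] at hmem
    obtain ⟨k, hk⟩ := hmem
    have hk' : z = x ^ k := hk.symm
    have h4 := h.m_z
    rw [hk', ← conj_pow, h.m_x, hk', ← pow_mul] at h4
    have h5 : x ^ (k * k + 1) = 1 := by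
      rw [pow_succ, h4, inv_mul_cancel]
    have h6 := orderOf_dvd_of_pow_eq_one h5
    rw [hx] at h6
    have h7 : (k * k + 1) % 3 = 0 := Nat.mod_eq_zero_of_dvd h6
    rw [Nat.add_mod, Nat.mul_mod] at h7
    have h8 : k % 3 < 3 := Nat.mod_lt _ (by norm_num)
    interval_cases k % 3 <;> omega
  have h4 := mul_card_dvd (A := zpowers x) (Y := P x z) (zpowers_le.2 x_mem) z_mem
    (Cfsg.Agent.H254.Fx.mem_normalizer_of_comm h.xz.symm) Nat.prime_three (by rw [h.z3]; exact one_mem _) h3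
  rwa [Nat.card_zpowers, hx] at h4

/-- a Sylow subgroup in `D`: every `r`-subgroup may be assumed to be in `D` -/
theorem exists_le_of_sylow [Finite G] {k r : ℕ} (hr : r.Prime) {D : Subgroup G} (h : OddTI k D) {Q : Sylow r G}
    (hQ : (Q : Subgroup G) ≤ D) {X : Subgroup G} (hX : IsPGroup r X) : ∃ D' : Subgroup G, OddTI k D' ∧ X ≤ D' := by
  have : Fact r.Prime := ⟨hr⟩
  obtain ⟨R, hR⟩ := hX.exists_le_sylow
  obtain ⟨g, hg⟩ := MulAction.exists_smul_eq G Q R
  refine ⟨D.map (MulAut.conj g).toMonoidHom, h.conj_map g, ?_⟩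
  refine hR.trans ?_
  rw [← hg, Sylow.coe_subgroup_smul]
  exact map_mono hQ

/-- **the configuration is impossible** -/
theorem heis_false [Finite G] (h : Heis x z m n) {k : ℕ} {D : Subgroup G} (hD : OddTI k D) (h3 : 3 ∣ Nat.card D) :
    False := by
  have hf : Fact (Nat.Prime 3) := ⟨Nat.prime_three⟩
  have hP1 : P x z ≠ ⊥ := by
    intro h1
    have h2 := x_mem (x := x) (z := z)
    rw [h1, mem_bot] at h2
    exact h.x1 h2
  suffices hex : ∃ D' : Subgroup G, OddTI k D' ∧ P x z ≤ D' by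
    obtain ⟨D', hD', hle⟩ := hex
    exact hD'.not_eight hle hP1 le_rfl h.eight
  rcases hD.three h3 with ⟨Q, hQ⟩ | h9
  · exact exists_le_of_sylow Nat.prime_three hD hQ h.isPGroup
  · obtain ⟨Q, hQ⟩ := h.isPGroup.exists_le_sylow
    have hPQ : P x z = (Q : Subgroup G) := by
      refine eq_of_le_of_card_ge hQ ?_
      have h4 := Nat.le_of_dvd Nat.card_pos h.nine
      have h5 : Nat.card (Q : Subgroup G) = 9 := (h9 Q).1
      omega
    obtain ⟨d, hd⟩ := exists_prime_orderOf_dvd_card' 3 h3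
    have hd' : orderOf (d : G) = 3 := by rw [Subgroup.orderOf_coe]; exact hd
    obtain ⟨g, hg⟩ := exists_conj_of_sylow_le Nat.prime_three (le_refl (Q : Subgroup G)) hd'
    have hD' := hD.conj_map g
    set D' := D.map (MulAut.conj g).toMonoidHom with hD'def
    set d' := g * (d : G) * g⁻¹ with hd'def
    have hdD : d' ∈ D' := ⟨d, d.2, rfl⟩
    have hd1 : d' ≠ 1 := by
      intro h1
      have h2 : orderOf d' = 3 := by
        rw [← hd']; exact (MulAut.conj g).orderOf_eq (d : G)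
      rw [h1, orderOf_one] at h2
      omega
    have hdP : d' ∈ P x z := by rw [hPQ]; exact hg
    have hN := hD'.normz hdD hd1
    refine ⟨D', hD', fun y hy => ?_⟩
    refine hD'.noinv y (hN (Cfsg.Agent.H254.Fx.mem_normalizer_of_comm (h.comm hy hdP))) (m * m) (hN ?_) ?_ ?_
    · rw [Cfsg.Agent.EvenType.StrongP.mem_norm]
      refine eq_of_le_of_card_ge ?_ ?_
      · rw [MonoidHom.map_zpowers, zpowers_le]
        change (m * m) * d' * (m * m)⁻¹ ∈ zpowers d'
        rw [h.inv_all hdP]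
        exact inv_mem (mem_zpowers _)
      · rw [card_map_eq]
    · rw [h.cube hy]; exact one_mem _
    · rw [h.inv_all hy, inv_mul_cancel]; exact one_mem _

end Cfsg.Agent.H583.FxHeis
end

-- part: H583/FxHeisMat
section
/-!
# `3²:Q_8` in `PSL_3(q)`, `q ≡ 1 mod 3` (helper583, task 2052)
-/

set_option autoImplicit false
set_option linter.unusedSectionVars false

namespace Cfsg.Agent.H583.FxThree

open Matrix Subgroup Cfsg.Agent.H254.Fx Cfsg.Agent.H583.FxHeis

variable {F : Type} [Field F]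

def Xm (F : Type) [Field F] : Matrix (Fin 3) (Fin 3) F := !![0, 0, 1; 1, 0, 0; 0, 1, 0]
def Zm (w : F) : Matrix (Fin 3) (Fin 3) F := !![1, 0, 0; 0, w, 0; 0, 0, w ^ 2]
def Mm (w d : F) : Matrix (Fin 3) (Fin 3) F := !![d, d, d; d, d * w, d * w ^ 2; d, d * w ^ 2, d * w]
def Nm (w d : F) : Matrix (Fin 3) (Fin 3) F :=
  !![d, d * w ^ 2, d * w ^ 2; d * w, d * w, d * w ^ 2; d * w, d * w ^ 2, d * w]

variable {w d : F}

theorem det_Xm : (Xm F).det = 1 := by rw [Xm, det_fin_three]; simp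

attribute [-instance] instNoNatZeroDivisorsOfIsAddTorsionFree instIsCharPOfIsLeftCancelAddOfCharP in
theorem det_Zm (hw : w ^ 2 + w + 1 = 0) : (Zm w).det = 1 := by
  rw [Zm, det_fin_three]; simp only [_root_.Fin.isValue, _root_.Matrix.of_apply, _root_.Matrix.cons_val', _root_.Matrix.cons_val_zero, _root_.Matrix.cons_val_fin_one, _root_.Matrix.cons_val_one, _root_.one_mul, _root_.Matrix.cons_val, _root_.MulZeroClass.mul_zero, _root_.sub_zero, _root_.MulZeroClass.zero_mul, _root_.add_zero]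
  grobner

attribute [-instance] instNoNatZeroDivisorsOfIsAddTorsionFree instIsCharPOfIsLeftCancelAddOfCharP in
theorem det_Mm (hw : w ^ 2 + w + 1 = 0) (hd : d * (w - w ^ 2) = 1) : (Mm w d).det = 1 := by
  rw [Mm, det_fin_three]; simp only [_root_.Fin.isValue, _root_.Matrix.of_apply, _root_.Matrix.cons_val', _root_.Matrix.cons_val_zero, _root_.Matrix.cons_val_fin_one, _root_.Matrix.cons_val_one, _root_.Matrix.cons_val]
  grobner

attribute [-instance] instNoNatZeroDivisorsOfIsAddTorsionFree instIsCharPOfIsLeftCancelAddOfCharP in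
theorem det_Nm (hw : w ^ 2 + w + 1 = 0) (hd : d * (w - w ^ 2) = 1) : (Nm w d).det = 1 := by
  rw [Nm, det_fin_three]; simp only [_root_.Fin.isValue, _root_.Matrix.of_apply, _root_.Matrix.cons_val', _root_.Matrix.cons_val_zero, _root_.Matrix.cons_val_fin_one, _root_.Matrix.cons_val_one, _root_.Matrix.cons_val]
  grobner

attribute [-instance] instNoNatZeroDivisorsOfIsAddTorsionFree instIsCharPOfIsLeftCancelAddOfCharP in
theorem rel_xz (hw : w ^ 2 + w + 1 = 0) : w • (Xm F * Zm w) = Zm w * Xm F := by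
  ext i j
  (revert i j; simp only [Xm, Zm, mul_apply, Fin.sum_univ_three, _root_.Fin.forall_fin_succ, _root_.Matrix.cons_mul, _root_.Nat.succ_eq_add_one, Nat.reduceAdd, _root_.Matrix.vecMul_cons, _root_.Matrix.head_cons, _root_.zero_smul, _root_.Matrix.tail_cons, _root_.one_smul, _root_.Matrix.empty_vecMul, _root_.add_zero, _root_.zero_add, _root_.Matrix.empty_mul, _root_.Equiv.symm_apply_apply, _root_.Matrix.smul_apply, _root_.Matrix.of_apply, _root_.Matrix.cons_val', _root_.Matrix.cons_val_fin_one, _root_.smul_eq_mul, Fin.isValue, _root_.Matrix.cons_val_zero, _root_.Matrix.cons_val_one, _root_.Matrix.cons_val, _root_.MulZeroClass.mul_zero, _root_.mul_one, _root_.Matrix.cons_val_succ, _root_.forall_const, _root_.true_and, _root_.and_self, _root_.and_true]) <;> grobner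

attribute [-instance] instNoNatZeroDivisorsOfIsAddTorsionFree instIsCharPOfIsLeftCancelAddOfCharP in
theorem rel_mz (hw : w ^ 2 + w + 1 = 0) : Xm F * Mm w d * Zm w = Mm w d := by
  ext i j
  (revert i j; simp only [Xm, Zm, Mm, mul_apply, Fin.sum_univ_three, _root_.Fin.forall_fin_succ, _root_.Matrix.cons_mul, _root_.Nat.succ_eq_add_one, Nat.reduceAdd, _root_.Matrix.vecMul_cons, _root_.Matrix.head_cons, _root_.zero_smul, _root_.Matrix.tail_cons, _root_.one_smul, _root_.Matrix.empty_vecMul, _root_.add_zero, _root_.zero_add, _root_.Matrix.empty_mul, _root_.Equiv.symm_apply_apply, _root_.Matrix.of_apply, _root_.Matrix.cons_val', _root_.Matrix.cons_val_fin_one, Fin.isValue, _root_.Matrix.cons_val_zero, _root_.Matrix.cons_val_one, _root_.Matrix.cons_val, _root_.mul_one, _root_.MulZeroClass.mul_zero, _root_.Matrix.cons_val_succ, _root_.forall_const, _root_.true_and, _root_.and_self]) <;> grobner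

attribute [-instance] instNoNatZeroDivisorsOfIsAddTorsionFree instIsCharPOfIsLeftCancelAddOfCharP in
theorem rel_mx (hw : w ^ 2 + w + 1 = 0) : Mm w d * Xm F = Zm w * Mm w d := by
  ext i j
  (revert i j; simp only [Xm, Zm, Mm, mul_apply, Fin.sum_univ_three, _root_.Fin.forall_fin_succ, _root_.Matrix.of_apply, _root_.Matrix.cons_val', _root_.Matrix.cons_val_fin_one, Fin.isValue, _root_.Matrix.cons_val_zero, _root_.Matrix.cons_val_one, _root_.Matrix.cons_val, _root_.MulZeroClass.mul_zero, _root_.mul_one, _root_.zero_add, _root_.add_zero, _root_.Matrix.cons_val_succ, _root_.forall_const, _root_.one_mul, _root_.MulZeroClass.zero_mul, _root_.and_self, _root_.true_and]) <;> grobner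

attribute [-instance] instNoNatZeroDivisorsOfIsAddTorsionFree instIsCharPOfIsLeftCancelAddOfCharP in
theorem rel_nz (hw : w ^ 2 + w + 1 = 0) : w ^ 2 • (Xm F * Nm w d * Zm w) = Zm w * Nm w d := by
  ext i j
  (revert i j; simp only [Xm, Zm, Nm, mul_apply, Fin.sum_univ_three, _root_.Fin.forall_fin_succ, _root_.Matrix.cons_mul, _root_.Nat.succ_eq_add_one, Nat.reduceAdd, _root_.Matrix.vecMul_cons, _root_.Matrix.head_cons, _root_.zero_smul, _root_.Matrix.tail_cons, _root_.one_smul, _root_.Matrix.empty_vecMul, _root_.add_zero, _root_.zero_add, _root_.Matrix.empty_mul, _root_.Equiv.symm_apply_apply, _root_.Matrix.smul_cons, _root_.smul_eq_mul, _root_.mul_one, _root_.MulZeroClass.mul_zero, _root_.Matrix.smul_empty, _root_.Matrix.add_cons, _root_.Matrix.empty_add_empty, _root_.Matrix.smul_apply, _root_.Matrix.of_apply, _root_.Matrix.cons_val', _root_.Matrix.cons_val_fin_one, Fin.isValue, _root_.Matrix.cons_val_zero, _root_.Matrix.cons_val_one,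 _root_.Matrix.cons_val, _root_.Matrix.cons_val_succ, _root_.forall_const, _root_.one_mul, _root_.MulZeroClass.zero_mul, _root_.mul_eq_mul_left_iff, _root_.ne_eq, _root_.OfNat.ofNat_ne_zero, _root_.not_false_eq_true, _root_.pow_eq_zero_iff, _root_.true_and]) <;> grobner

attribute [-instance] instNoNatZeroDivisorsOfIsAddTorsionFree instIsCharPOfIsLeftCancelAddOfCharP in
theorem rel_nx (hw : w ^ 2 + w + 1 = 0) : w • (Xm F * Nm w d * Xm F) = Zm w ^ 2 * Nm w d := by
  rw [pow_two]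
  ext i j
  (revert i j; simp only [Xm, Zm, Nm, mul_apply, Fin.sum_univ_three, _root_.Fin.forall_fin_succ, _root_.Matrix.cons_mul, _root_.Nat.succ_eq_add_one, Nat.reduceAdd, _root_.Matrix.vecMul_cons, _root_.Matrix.head_cons, _root_.zero_smul, _root_.Matrix.tail_cons, _root_.one_smul, _root_.Matrix.empty_vecMul, _root_.add_zero, _root_.zero_add, _root_.Matrix.empty_mul, _root_.Equiv.symm_apply_apply, _root_.Matrix.smul_cons, _root_.smul_eq_mul, _root_.MulZeroClass.mul_zero, _root_.mul_one, _root_.Matrix.smul_empty, _root_.Matrix.add_cons, _root_.Matrix.empty_add_empty, _root_.Matrix.smul_apply, _root_.Matrix.of_apply, _root_.Matrix.cons_val', _root_.Matrix.cons_val_fin_one, Fin.isValue, _root_.Matrix.cons_val_zero, _root_.Matrix.cons_val_one, _root_.Matrix.cons_val, _root_.Matrix.cons_val_succ, _root_.forall_const, _root_.one_mul, _root_.MulZeroClass.zero_mul, _root_.and_self, _root_.and_self_left, _root_.mul_eq_mul_right_iff, _root_.mul_eq_zero,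 _root_.ne_eq, _root_.OfNat.ofNat_ne_zero, _root_.not_false_eq_true, _root_.pow_eq_zero_iff]) <;> grobner

attribute [-instance] instNoNatZeroDivisorsOfIsAddTorsionFree instIsCharPOfIsLeftCancelAddOfCharP in
theorem rel_mm (hw : w ^ 2 + w + 1 = 0) (hd : d * (w - w ^ 2) = 1) :
    Mm w d * Mm w d = !![-1, 0, 0; 0, 0, -1; 0, -1, 0] := by
  ext i j
  (revert i j; simp only [Mm, mul_apply, Fin.sum_univ_three, _root_.Fin.forall_fin_succ, _root_.Matrix.of_apply, _root_.Matrix.cons_val', _root_.Matrix.cons_val_fin_one, Fin.isValue, _root_.Matrix.cons_val_zero, _root_.Matrix.cons_val_one, _root_.Matrix.cons_val, _root_.Matrix.cons_val_succ, _root_.forall_const]) <;> grobner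

attribute [-instance] instNoNatZeroDivisorsOfIsAddTorsionFree instIsCharPOfIsLeftCancelAddOfCharP in
theorem rel_nn (hw : w ^ 2 + w + 1 = 0) (hd : d * (w - w ^ 2) = 1) :
    Nm w d * Nm w d = !![-1, 0, 0; 0, 0, -1; 0, -1, 0] := by
  ext i j
  (revert i j; simp only [Nm, mul_apply, Fin.sum_univ_three, _root_.Fin.forall_fin_succ, _root_.Matrix.of_apply, _root_.Matrix.cons_val', _root_.Matrix.cons_val_fin_one, Fin.isValue, _root_.Matrix.cons_val_zero, _root_.Matrix.cons_val_one, _root_.Matrix.cons_val, _root_.Matrix.cons_val_succ, _root_.forall_const]) <;> grobner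

attribute [-instance] instNoNatZeroDivisorsOfIsAddTorsionFree instIsCharPOfIsLeftCancelAddOfCharP in
theorem rel_mnm (hw : w ^ 2 + w + 1 = 0) (hd : d * (w - w ^ 2) = 1) : Mm w d * Nm w d * Mm w d = Nm w d := by
  ext i j
  (revert i j; simp only [Mm, Nm, mul_apply, Fin.sum_univ_three, _root_.Fin.forall_fin_succ, _root_.Matrix.cons_mul, _root_.Nat.succ_eq_add_one, Nat.reduceAdd, _root_.Matrix.vecMul_cons, _root_.Matrix.head_cons, _root_.Matrix.smul_cons, _root_.smul_eq_mul, _root_.Matrix.smul_empty, _root_.Matrix.tail_cons, _root_.Matrix.empty_vecMul, _root_.add_zero, _root_.Matrix.add_cons, _root_.Matrix.empty_add_empty, _root_.Matrix.empty_mul, _root_.Equiv.symm_apply_apply, _root_.Matrix.of_apply, _root_.Matrix.cons_val', _root_.Matrix.cons_val_fin_one, Fin.isValue, _root_.Matrix.cons_val_zero, _root_.Matrix.cons_val_one, _root_.Matrix.cons_val, _root_.Matrix.cons_val_succ, _root_.forall_const]) <;> grobner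

/-- equality modulo scalars -/
theorem mk_eq_of_smul {a b : Matrix.SpecialLinearGroup (Fin 3) F} (c : F) (h : c • a.1 = b.1) : mk F a = mk F b := by
  have h1 : b.1 * (a⁻¹).1 = c • (1 : Matrix (Fin 3) (Fin 3) F) := by
    rw [← h, smul_mul_assoc, ← Matrix.SpecialLinearGroup.coe_mul, mul_inv_cancel]
    rfl
  have h2 : mk F (b * a⁻¹) = 1 := by
    refine mk_eq_one.2 ⟨c, ?_, ?_⟩
    · have h3 := (b * a⁻¹).2
      rw [Matrix.SpecialLinearGroup.coe_mul, h1, det_smul, det_one, mul_one, Fintype.card_fin] at h3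
      exact h3
    · rw [Matrix.SpecialLinearGroup.coe_mul, h1, scalar_apply, smul_one_eq_diagonal]
  rw [map_mul, map_inv, mul_inv_eq_one] at h2
  exact h2.symm

def Xs (F : Type) [Field F] : Matrix.SpecialLinearGroup (Fin 3) F := ⟨Xm F, det_Xm⟩
def Zs (hw : w ^ 2 + w + 1 = 0) : Matrix.SpecialLinearGroup (Fin 3) F := ⟨Zm w, det_Zm hw⟩
def Ms (hw : w ^ 2 + w + 1 = 0) (hd : d * (w - w ^ 2) = 1) : Matrix.SpecialLinearGroup (Fin 3) F :=
  ⟨Mm w d, det_Mm hw hd⟩
def Ns (hw : w ^ 2 + w + 1 = 0) (hd : d * (w - w ^ 2) = 1) : Matrix.SpecialLinearGroup (Fin 3) F :=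
  ⟨Nm w d, det_Nm hw hd⟩

attribute [-instance] instNoNatZeroDivisorsOfIsAddTorsionFree instIsCharPOfIsLeftCancelAddOfCharP in
/-- **`3²:Q_8` in `PSL_3(q)`.** -/
theorem heis (hw : w ^ 2 + w + 1 = 0) (hd : d * (w - w ^ 2) = 1) :
    Heis (mk F (Xs F)) (mk F (Zs hw)) (mk F (Ms hw hd)) (mk F (Ns hw hd)) where
  xz := by
    rw [← map_mul, ← map_mul]
    exact mk_eq_of_smul w (rel_xz hw)
  x3 := by
    rw [← map_pow]
    have h1 : Xs F ^ 3 = 1 := by
      apply Subtype.ext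
      rw [Matrix.SpecialLinearGroup.coe_pow]
      change Xm F ^ 3 = 1
      rw [pow_three]
      ext i j
      (revert i j; simp only [Xm, mul_apply, Fin.sum_univ_three, _root_.Fin.forall_fin_succ, _root_.Matrix.cons_mul, _root_.Nat.succ_eq_add_one, Nat.reduceAdd, _root_.Matrix.vecMul_cons, _root_.Matrix.head_cons, _root_.zero_smul, _root_.Matrix.tail_cons, _root_.one_smul, _root_.Matrix.empty_vecMul, _root_.add_zero, _root_.zero_add, _root_.Matrix.empty_mul, _root_.Equiv.symm_apply_apply, _root_.Matrix.of_apply, _root_.Matrix.cons_val', _root_.Matrix.cons_val_fin_one, Fin.isValue, _root_.Matrix.cons_val_zero, _root_.Matrix.cons_val_one, _root_.Matrix.cons_val, _root_.MulZeroClass.mul_zero, _root_.mul_one, _root_.Matrix.cons_val_succ, _root_.IsEmpty.forall_iff, _root_.and_true, _root_.Matrix.one_apply_eq, _root_.Fin.succ_zero_eq_one, _root_.ne_eq, _root_.zero_ne_one, _root_.not_false_eq_true, _root_.Matrix.one_apply_ne, _root_.Fin.succ_one_eq_two,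 Fin.reduceEq, _root_.and_self, _root_.Fin.succ_ne_zero, _root_.true_and])
    rw [h1, map_one]
  z3 := by
    rw [← map_pow]
    have h1 : Zs hw ^ 3 = 1 := by
      apply Subtype.ext
      rw [Matrix.SpecialLinearGroup.coe_pow]
      change Zm w ^ 3 = 1
      rw [pow_three]
      ext i j
      (revert i j; simp only [Zm, mul_apply, Fin.sum_univ_three, _root_.Fin.forall_fin_succ, _root_.Matrix.cons_mul, _root_.Nat.succ_eq_add_one, Nat.reduceAdd, _root_.Matrix.vecMul_cons, _root_.Matrix.head_cons, _root_.one_smul, _root_.Matrix.tail_cons, _root_.zero_smul, _root_.Matrix.empty_vecMul, _root_.add_zero, _root_.Matrix.smul_cons, _root_.smul_eq_mul, _root_.MulZeroClass.mul_zero, _root_.Matrix.smul_empty, _root_.zero_add, _root_.Matrix.empty_mul, _root_.Equiv.symm_apply_apply, _root_.Matrix.of_apply, _root_.Matrix.cons_val', _root_.Matrix.cons_val_fin_one, Fin.isValue, _root_.Matrix.cons_val_zero, _root_.Matrix.cons_val_one, _root_.Matrix.cons_val,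 _root_.mul_one, _root_.Matrix.cons_val_succ, _root_.IsEmpty.forall_iff, _root_.and_true, _root_.Matrix.one_apply_eq, _root_.MulZeroClass.zero_mul, _root_.Fin.succ_zero_eq_one, _root_.ne_eq, _root_.zero_ne_one, _root_.not_false_eq_true, _root_.Matrix.one_apply_ne, _root_.Fin.succ_one_eq_two, Fin.reduceEq, _root_.and_self, _root_.Fin.succ_ne_zero, _root_.true_and]) <;> grobner
    rw [h1, map_one]
  mz := by
    rw [← map_mul, ← map_mul]
    congr 1
    exact Subtype.ext (rel_mz hw)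
  mx := by
    rw [← map_mul, ← map_mul]
    congr 1
    exact Subtype.ext (rel_mx hw)
  nz := by
    rw [← map_mul, ← map_mul, ← map_mul]
    exact mk_eq_of_smul (w ^ 2) (rel_nz hw)
  nx := by
    rw [← map_pow, ← map_mul, ← map_mul, ← map_mul]
    exact mk_eq_of_smul w (rel_nx hw)
  m4 := by
    rw [← map_mul, ← map_mul]
    have h1 : Ms hw hd * Ms hw hd * (Ms hw hd * Ms hw hd) = 1 := by
      apply Subtype.ext
      change Mm w d * Mm w d * (Mm w d * Mm w d) = 1
      rw [rel_mm hw hd]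
      ext i j
      (revert i j; simp only [mul_apply, Fin.sum_univ_three, _root_.Fin.forall_fin_succ, _root_.Matrix.of_apply, _root_.Matrix.cons_val', _root_.Matrix.cons_val_fin_one, Fin.isValue, _root_.Matrix.cons_val_zero, _root_.Matrix.cons_val_one, _root_.Matrix.cons_val, _root_.mul_neg, _root_.mul_one, _root_.MulZeroClass.mul_zero, _root_.add_zero, _root_.Matrix.cons_val_succ, _root_.zero_add, _root_.IsEmpty.forall_iff, _root_.and_true, _root_.neg_neg, _root_.Matrix.one_apply_eq, _root_.neg_zero, Nat.reduceAdd, _root_.Fin.succ_zero_eq_one, _root_.ne_eq, _root_.zero_ne_one, _root_.not_false_eq_true, _root_.Matrix.one_apply_ne, _root_.Fin.succ_one_eq_two, Fin.reduceEq, _root_.and_self, _root_.Fin.succ_ne_zero, _root_.neg_eq_zero, _root_.true_and])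
    rw [h1, map_one]
  nn := by
    rw [← map_mul, ← map_mul]
    congr 1
    exact Subtype.ext ((rel_nn hw hd).trans (rel_mm hw hd).symm)
  mnm := by
    rw [← map_mul, ← map_mul]
    congr 1
    exact Subtype.ext (rel_mnm hw hd)
  x1 := by
    intro h
    obtain ⟨c, -, hc⟩ := mk_eq_one.1 h
    have h1 := congrFun (congrFun hc 1) 0
    simp [Xs, Xm] at h1
  m1 := by
    intro h
    rw [← map_mul] at h
    obtain ⟨c, -, hc⟩ := mk_eq_one.1 h
    have h2 : (Ms hw hd * Ms hw hd).1 = !![-1, 0, 0; 0, 0, -1; 0, -1, 0] := rel_mm hw hd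
    rw [h2] at hc
    have h1 := congrFun (congrFun hc 1) 2
    simp at h1

/-- **`3 ∣ q - 1`** -/
theorem no_three_split [Fintype F] (h : 3 ∣ Fintype.card F - 1) {k : ℕ}
    {D : Subgroup (ProjectiveSpecialLinearGroup (Fin 3) F)} (hD : OddTI k D) (h3 : 3 ∣ Nat.card D) : False := by
  have hf : Fact (Nat.Prime 3) := ⟨Nat.prime_three⟩
  obtain ⟨z, hz⟩ := exists_prime_orderOf_dvd_card' (G := Fˣ) 3 (by rwa [Nat.card_units, Nat.card_eq_fintype_card])
  obtain ⟨w, hwdef⟩ : ∃ w : F, w = z := ⟨_, rfl⟩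
  have hw3 : w ^ 3 = 1 := by
    rw [hwdef, ← Units.val_pow_eq_pow_val, ← hz, pow_orderOf_eq_one, Units.val_one]
  have hw1 : w ≠ 1 := by
    intro h1
    have h2 : z = 1 := Units.ext (by rw [← hwdef, h1, Units.val_one])
    rw [h2, orderOf_one] at hz
    omega
  have hw : w ^ 2 + w + 1 = 0 := by
    have h1 : (w - 1) * (w ^ 2 + w + 1) = 0 := by linear_combination hw3
    exact (mul_eq_zero.1 h1).resolve_left (sub_ne_zero.2 hw1)
  have hne : w - w ^ 2 ≠ 0 := by
    intro h1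
    have h2 : w * (1 - w) = 0 := by linear_combination h1
    rcases mul_eq_zero.1 h2 with h4 | h4
    · rw [h4] at hw3
      norm_num only [_root_.zero_ne_one] at hw3
    · exact hw1 (sub_eq_zero.1 h4).symm
  exact heis_false (heis hw (d := (w - w ^ 2)⁻¹) (inv_mul_cancel₀ hne)) hD h3

end Cfsg.Agent.H583.FxThree
end

-- part: H583/FxPslThree
section
/-!
# The rows `PSL_3(q)` of S3002 (helper583, task 2052)

* `noTI4_psl3` : `NoTI 4 (PSL_3(q))`, `q ≥ 3`;
* `noEx_psl3_even` : `q ≥ 8` even: no action of fixity 4 with point stabilizers of even order and an element with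
  exactly four fixed points.
-/

set_option autoImplicit false
set_option linter.unusedSectionVars false

namespace Cfsg.Agent.H583.FxThree

open Matrix Subgroup Cfsg.Agent.H254.Fx Cfsg.Agent.H254.Ev Cfsg.Agent.H583.FxHeis

variable {F : Type} [Field F]

local notation "K3" => ProjectiveSpecialLinearGroup (Fin 3) F

/-! ### Arithmetic -/

theorem iff_of_prime {q r e : ℕ} (hr : r.Prime) (he : e.Prime) (hq : 1 ≤ q) (h1 : ¬ r ∣ q - 1) (h2 : r ∣ q ^ e - 1) :
    ∀ j, r ∣ q ^ j - 1 ↔ e ∣ j := by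
  have : Fact r.Prime := ⟨hr⟩
  have key : ∀ j, r ∣ q ^ j - 1 ↔ ((q : ZMod r)) ^ j = 1 := by
    intro j
    have h3 : 1 ≤ q ^ j := Nat.one_le_pow _ _ hq
    rw [← ZMod.natCast_eq_zero_iff, Nat.cast_sub h3, sub_eq_zero, Nat.cast_pow, Nat.cast_one]
  have h4 : orderOf ((q : ZMod r)) ∣ e := orderOf_dvd_of_pow_eq_one ((key e).1 h2)
  have h5 : orderOf ((q : ZMod r)) = e := by
    rcases (Nat.dvd_prime he).1 h4 with h | h
    · exfalso
      apply h1
      have h6 := (key 1).2 (by rw [pow_one]; exact orderOf_eq_one_iff.1 h)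
      rwa [pow_one] at h6
    · exact h
  intro j
  rw [key, ← orderOf_dvd_iff_pow_eq_one, h5]

theorem card_formula [Fintype F] : Nat.gcd 3 (Fintype.card F - 1) * ((Fintype.card F - 1) * Nat.card K3) =
    (Fintype.card F ^ 3 - 1) * (Fintype.card F ^ 3 - Fintype.card F) * (Fintype.card F ^ 3 - Fintype.card F ^ 2) := by
  have h := Cfsg.Agent.S0243.result (F := F) rfl 3 (by norm_num)
  rw [Fin.prod_univ_three] at h
  have e0 : ((0 : Fin 3) : ℕ) = 0 := rfl
  have e1 : ((1 : Fin 3) : ℕ) = 1 := rfl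
  have e2 : ((2 : Fin 3) : ℕ) = 2 := rfl
  rw [e0, e1, e2, pow_zero, pow_one] at h
  exact h

theorem prime_cases [Fintype F] {r : ℕ} (hr : r.Prime) (hd : r ∣ Nat.card K3) :
    r ∣ Fintype.card F ∨ r ∣ Fintype.card F - 1 ∨
      (¬ r ∣ Fintype.card F - 1 ∧ r ∣ Fintype.card F ^ 2 - 1) ∨
      (¬ r ∣ Fintype.card F - 1 ∧ r ∣ Fintype.card F ^ 3 - 1) := by
  set q := Fintype.card F with hq
  have hq1 : 1 < q := Fintype.one_lt_card
  by_cases h1 : r ∣ q
  · exact Or.inl h1
  by_cases h2 : r ∣ q - 1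
  · exact Or.inr (Or.inl h2)
  have h3 : r ∣ (q ^ 3 - 1) * (q ^ 3 - q) * (q ^ 3 - q ^ 2) := by
    rw [← card_formula]
    exact Dvd.dvd.mul_left (Dvd.dvd.mul_left hd _) _
  rcases hr.dvd_mul.1 h3 with h4 | h4
  · rcases hr.dvd_mul.1 h4 with h5 | h5
    · exact Or.inr (Or.inr (Or.inr ⟨h2, h5⟩))
    · have e1 : q ^ 3 - q = q * (q ^ 2 - 1) := by
        rw [Nat.mul_sub_one, ← pow_succ']
      rw [e1] at h5
      exact Or.inr (Or.inr (Or.inl ⟨h2, (hr.dvd_mul.1 h5).resolve_left h1⟩))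
  · exfalso
    have e1 : q ^ 3 - q ^ 2 = q ^ 2 * (q - 1) := by
      rw [Nat.mul_sub_one, ← pow_succ]
    rw [e1] at h4
    rcases hr.dvd_mul.1 h4 with h5 | h5
    · exact h1 (hr.dvd_of_dvd_pow h5)
    · exact h2 h5

theorem dvd27 [Fintype F] (h3 : 3 ∣ Fintype.card F) : 27 ∣ Nat.card K3 := by
  have hf := card_formula (F := F)
  set q := Fintype.card F with hq
  have hq1 : 1 < q := Fintype.one_lt_card
  have e1 : q ^ 3 - q = q * (q ^ 2 - 1) := by
    rw [Nat.mul_sub_one, ← pow_succ']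
  have e2 : q ^ 3 - q ^ 2 = q ^ 2 * (q - 1) := by
    rw [Nat.mul_sub_one, ← pow_succ]
  have h4 : 27 ∣ (q ^ 3 - 1) * (q ^ 3 - q) * (q ^ 3 - q ^ 2) := by
    rw [e1, e2]
    obtain ⟨k, hk⟩ := h3
    refine ⟨k ^ 3 * ((q ^ 3 - 1) * (q ^ 2 - 1) * (q - 1)), ?_⟩
    generalize q ^ 3 - 1 = A
    generalize q ^ 2 - 1 = B
    generalize q - 1 = C
    rw [hk]
    ring
  have h5 : Nat.Coprime 3 (q - 1) := by
    rw [Nat.prime_three.coprime_iff_not_dvd]
    omega
  have h6 : Nat.Coprime 27 (Nat.gcd 3 (q - 1)) := by rw [h5]; exact Nat.coprime_one_right _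
  have h7 : Nat.Coprime 27 (q - 1) := Nat.Coprime.pow_left 3 h5
  rw [← hf] at h4
  exact h7.dvd_of_dvd_mul_left (h6.dvd_of_dvd_mul_left h4)

/-! ### Simplicity and an involution -/

theorem simple [Fintype F] : IsSimpleGroup K3 := Cfsg.Agent.S0249.result 3 le_rfl

theorem not_comm [Fintype F] : ¬ IsMulCommutative K3 := by
  intro hc
  let A : Matrix.SpecialLinearGroup (Fin 3) F := ⟨!![1, 1, 0; 0, 1, 0; 0, 0, 1], by rw [det_fin_three]; simp⟩
  let B : Matrix.SpecialLinearGroup (Fin 3) F := ⟨!![1, 0, 0; 1, 1, 0; 0, 0, 1], by rw [det_fin_three]; simp⟩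
  have h1 : mk F (A * B * (B * A)⁻¹) = 1 := by
    rw [map_mul, map_inv, mul_inv_eq_one, map_mul, map_mul]
    exact hc.is_comm.comm _ _
  obtain ⟨c, -, h2⟩ := mk_eq_one.1 h1
  have h3 : (A * B).1 = Matrix.scalar (Fin 3) c * (B * A).1 := by
    rw [← h2, ← Matrix.SpecialLinearGroup.coe_mul, inv_mul_cancel_right]
  have h4 : (!![1, 1, 0; 0, 1, 0; 0, 0, 1] * !![1, 0, 0; 1, 1, 0; 0, 0, 1] : Matrix (Fin 3) (Fin 3) F) =
      Matrix.scalar (Fin 3) c * (!![1, 0, 0; 1, 1, 0; 0, 0, 1] * !![1, 1, 0; 0, 1, 0; 0, 0, 1]) := h3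
  have h5 := congrFun (congrFun h4 0) 0
  have h6 := congrFun (congrFun h4 2) 2
  simp only [mul_apply, Fin.sum_univ_three, _root_.Fin.isValue, _root_.Matrix.of_apply, _root_.Matrix.cons_val', _root_.Matrix.cons_val_fin_one, _root_.Matrix.cons_val_zero, _root_.mul_one, _root_.Matrix.cons_val_one, _root_.Matrix.cons_val, _root_.MulZeroClass.mul_zero, _root_.add_zero, _root_.Matrix.scalar_apply, _root_.Matrix.cons_mul, _root_.Nat.succ_eq_add_one, _root_.Nat.reduceAdd, _root_.Matrix.vecMul_cons, _root_.Matrix.head_cons, _root_.one_smul, _root_.Matrix.tail_cons, _root_.zero_smul, _root_.Matrix.empty_vecMul, _root_.Matrix.add_cons, _root_.Matrix.empty_add_empty, _root_.zero_add, _root_.Matrix.empty_mul, _root_.Equiv.symm_apply_apply, _root_.Matrix.diagonal_apply_eq, _root_.ne_eq, _root_.zero_ne_one, _root_.not_false_eq_true, _root_.Matrix.diagonal_apply_ne, _root_.Fin.reduceEq] at h5 h6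
  rw [← h6] at h5
  have h7 : (1 : F) = 0 := by linear_combination h5
  exact one_ne_zero h7

theorem two_dvd [Fintype F] : 2 ∣ Nat.card K3 := by
  let A : Matrix.SpecialLinearGroup (Fin 3) F := ⟨!![0, 1, 0; 1, 0, 0; 0, 0, -1], by rw [det_fin_three]; simp⟩
  have hA : A * A = 1 := by
    apply Subtype.ext
    change (!![0, 1, 0; 1, 0, 0; 0, 0, -1] * !![0, 1, 0; 1, 0, 0; 0, 0, -1] : Matrix (Fin 3) (Fin 3) F) = 1
    ext i j
    (revert i j; simp only [mul_apply, Fin.sum_univ_three, _root_.Fin.forall_fin_succ, _root_.Matrix.of_apply, _root_.Matrix.cons_val', _root_.Matrix.cons_val_fin_one, Fin.isValue, _root_.Matrix.cons_val_zero, _root_.Matrix.cons_val_one, _root_.Matrix.cons_val, _root_.MulZeroClass.mul_zero, _root_.mul_one, _root_.zero_add, _root_.add_zero, _root_.Matrix.cons_val_succ, _root_.mul_neg, _root_.IsEmpty.forall_iff, _root_.and_true, _root_.Matrix.one_apply_eq, Nat.reduceAdd, _root_.Fin.succ_zero_eq_one, _root_.ne_eq, _root_.zero_ne_one,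 _root_.not_false_eq_true, _root_.Matrix.one_apply_ne, _root_.neg_zero, _root_.Fin.succ_one_eq_two, Fin.reduceEq, _root_.and_self, _root_.Fin.succ_ne_zero, _root_.neg_neg, _root_.true_and])
  have hf : Fact (Nat.Prime 2) := ⟨Nat.prime_two⟩
  have h1 : orderOf (mk F A) = 2 := by
    refine orderOf_eq_prime (by rw [pow_two, ← map_mul, hA, map_one]) fun h => ?_
    obtain ⟨c, -, h2⟩ := mk_eq_one.1 h
    have h3 : (!![0, 1, 0; 1, 0, 0; 0, 0, -1] : Matrix (Fin 3) (Fin 3) F) = Matrix.scalar (Fin 3) c := h2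
    have h4 := congrFun (congrFun h3 0) 1
    simp at h4
  rw [← h1]
  exact _root_.orderOf_dvd_natCard _

/-! ### The prime divisors of `q - 1` -/

/-- two commuting elements of order `s` which are independent -/
theorem not_cyc {G : Type*} [Group G] [Finite G] {s : ℕ} [Fact s.Prime] {a b : G} (ha : orderOf a = s)
    (hb : orderOf b = s) (hab : a * b = b * a) (hn : ∀ k : ℕ, b ≠ a ^ k) : ¬ ∀ P : Sylow s G, IsCyclic ↥P := by
  intro hcyc
  have h1 : IsPGroup s ↥(_root_.Subgroup.closure ({a, b} : Set G)) := by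
    have hcm : ∀ x ∈ _root_.Subgroup.closure ({a, b} : Set G), ∀ y ∈ _root_.Subgroup.closure ({a, b} : Set G), x * y = y * x := by
      have h2 : IsMulCommutative ↥(closure ({a, b} : Set G)) := by
        refine isMulCommutative_closure ?_
        rintro x (rfl | rfl) y (rfl | rfl)
        · rfl
        · exact hab
        · exact hab.symm
        · rfl
      intro x hx y hy
      exact congrArg Subtype.val (h2.is_comm.comm ⟨x, hx⟩ ⟨y, hy⟩)
    have key : ∀ x ∈ closure ({a, b} : Set G), x ^ s = 1 := by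
      intro x hx
      induction hx using closure_induction with
      | mem x hx =>
        rcases hx with rfl | rfl
        · rw [← ha, pow_orderOf_eq_one]
        · rw [← hb, pow_orderOf_eq_one]
      | one => exact one_pow _
      | mul x y hx hy ihx ihy =>
        have h3 : Commute x y := hcm x hx y hy
        rw [h3.mul_pow, ihx, ihy, one_mul]
      | inv x _ ihx => rw [inv_pow, ihx, inv_one]
    intro x
    exact ⟨1, Subtype.ext (by rw [pow_one]; exact key x x.2)⟩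
  obtain ⟨P, hP⟩ := h1.exists_le_sylow
  have h2 : zpowers a = zpowers b := by
    refine Cfsg.Agent.OddOrderLocal.CyclicSub.eq_of_card_eq_of_le_cyclic (Z := (P : Subgroup G)) (hcyc P) ?_ ?_ ?_
    · rw [zpowers_le]; exact hP (_root_.Subgroup.subset_closure (by simp))
    · rw [zpowers_le]; exact hP (_root_.Subgroup.subset_closure (by simp))
    · rw [Nat.card_zpowers, Nat.card_zpowers, ha, hb]
  have h3 : b ∈ zpowers a := by rw [h2]; exact mem_zpowers b
  rw [← (isOfFinOrder_of_finite a).mem_powers_iff_mem_zpowers] at h3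
  obtain ⟨k, hk⟩ := h3
  exact hn k hk.symm

/-- diagonal matrices -/
def dS (F : Type) [Field F] : Fˣ × Fˣ →* Matrix.SpecialLinearGroup (Fin 3) F where
  toFun p := ⟨Matrix.diagonal ![((p.1 : Fˣ) : F), ((p.2 : Fˣ) : F), (((p.1 * p.2)⁻¹ : Fˣ) : F)], by
    rw [det_diagonal, Fin.prod_univ_three]
    change ((p.1 : Fˣ) : F) * ((p.2 : Fˣ) : F) * (((p.1 * p.2)⁻¹ : Fˣ) : F) = 1
    rw [← Units.val_mul]
    exact Units.mul_inv _⟩
  map_one' := by
    apply Subtype.ext
    ext i j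
    (revert i j; simp only [_root_.Fin.forall_fin_succ, _root_.Prod.fst_one, _root_.Units.val_one, _root_.Prod.snd_one, _root_.mul_one, _root_.inv_one, _root_.Matrix.SpecialLinearGroup.coe_one, Fin.isValue, _root_.Fin.succ_zero_eq_one, _root_.Fin.succ_one_eq_two, _root_.IsEmpty.forall_iff, _root_.and_true, _root_.Matrix.diagonal_apply_eq, _root_.Matrix.cons_val_zero, _root_.Matrix.one_apply_eq, _root_.ne_eq, _root_.zero_ne_one, _root_.not_false_eq_true, _root_.Matrix.diagonal_apply_ne, Nat.reduceAdd, _root_.Matrix.one_apply_ne, Fin.reduceEq, _root_.and_self, _root_.Fin.succ_ne_zero, _root_.true_and, _root_.Matrix.cons_val_one, _root_.Matrix.cons_val])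
  map_mul' p q := by
    apply Subtype.ext
    change Matrix.diagonal _ = Matrix.diagonal _ * Matrix.diagonal _
    rw [diagonal_mul_diagonal]
    congr 1
    funext i
    fin_cases i
    · simp only [_root_.Prod.fst_mul, _root_.Units.val_mul, _root_.Prod.snd_mul, _root_.mul_inv_rev, _root_.Units.val_inv_eq_inv_val, _root_.Nat.succ_eq_add_one, _root_.Nat.reduceAdd, _root_.Fin.zero_eta, _root_.Fin.isValue, _root_.Matrix.cons_val_zero]
    · simp only [_root_.Prod.fst_mul, _root_.Units.val_mul, _root_.Prod.snd_mul, _root_.mul_inv_rev, _root_.Units.val_inv_eq_inv_val, _root_.Nat.succ_eq_add_one, _root_.Nat.reduceAdd, _root_.Fin.mk_one, _root_.Fin.isValue, _root_.Matrix.cons_val_one, _root_.Matrix.cons_val_zero]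
    · simp only [_root_.Prod.fst_mul, _root_.Units.val_mul, _root_.Prod.snd_mul, _root_.mul_inv_rev, _root_.Units.val_inv_eq_inv_val, _root_.Nat.succ_eq_add_one, _root_.Nat.reduceAdd, _root_.Fin.reduceFinMk, _root_.Matrix.cons_val]; ring

theorem coe_dS (p : Fˣ × Fˣ) : (dS F p).1 =
    Matrix.diagonal ![((p.1 : Fˣ) : F), ((p.2 : Fˣ) : F), (((p.1 * p.2)⁻¹ : Fˣ) : F)] := rfl

theorem mk_dS_eq_one {p : Fˣ × Fˣ} (h : mk F (dS F p) = 1) : p.1 = p.2 ∧ p.1 ^ 3 = 1 := by
  obtain ⟨c, hc, h1⟩ := mk_eq_one.1 h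
  rw [coe_dS, scalar_apply] at h1
  have h2 := Matrix.diagonal_injective h1
  have h3 := congrFun h2 0
  have h4 := congrFun h2 1
  simp only [cons_val_zero, cons_val_one] at h3 h4
  refine ⟨Units.ext (h3.trans h4.symm), Units.ext ?_⟩
  rw [Units.val_pow_eq_pow_val, h3, hc, Units.val_one]

/-- **`s ∣ q - 1`, `s ≥ 5`** -/
theorem noSP_split [Fintype F] {s : ℕ} (hs : s.Prime) (h5 : 5 ≤ s) (hd : s ∣ Fintype.card F - 1) :
    Cfsg.Agent.H998.StrP.NoSP s K3 := by
  have : Fact s.Prime := ⟨hs⟩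
  obtain ⟨r, hch⟩ := CharP.exists F
  obtain ⟨n, hr, hn⟩ := FiniteField.card F r
  have : Fact r.Prime := ⟨hr⟩
  have hsr : s ≠ r := by
    rintro rfl
    have h1 : s ∣ Fintype.card F := by rw [hn]; exact dvd_pow_self _ n.ne_zero
    have h2 : 1 < Fintype.card F := Fintype.one_lt_card
    have h3 := Nat.dvd_sub h1 hd
    rw [Nat.sub_sub_self h2.le] at h3
    exact hs.one_lt.ne' (Nat.dvd_one.1 h3)
  have := simple (F := F)
  refine Cfsg.Agent.H242.StrP.LinAll.noSP_psl (r := r) (F := F) (n := 3) (G := K3) (by omega) hsr (by norm_num) (by omega)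
    not_comm (MulEquiv.refl _) ?_ (by omega)
  obtain ⟨z, hz⟩ := exists_prime_orderOf_dvd_card' (G := Fˣ) s (by rwa [Nat.card_units, Nat.card_eq_fintype_card])
  have hz3 : z ^ 3 ≠ 1 := by
    intro h
    have h1 := orderOf_dvd_of_pow_eq_one h
    rw [hz] at h1
    have := Nat.le_of_dvd (by norm_num) h1
    omega
  have hzs : z ^ s = 1 := by rw [← hz, pow_orderOf_eq_one]
  have ho : ∀ p : Fˣ × Fˣ, p ^ s = 1 → (p.1 = p.2 → p.1 ^ 3 ≠ 1) → orderOf (mk F (dS F p)) = s := by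
    intro p hp hne
    refine orderOf_eq_prime (by rw [← map_pow, ← map_pow, hp, map_one, map_one]) fun h => ?_
    obtain ⟨h1, h2⟩ := mk_dS_eq_one h
    exact hne h1 h2
  refine not_cyc (a := mk F (dS F (z, z⁻¹))) (b := mk F (dS F (1, z))) (ho _ ?_ ?_) (ho _ ?_ ?_) ?_ ?_
  · exact Prod.ext hzs (by rw [Prod.pow_snd, inv_pow, hzs, inv_one]; rfl)
  · intro h
    exact hz3
  · exact Prod.ext (one_pow _) hzs
  · intro h
    exfalso
    have h1 : (1 : Fˣ) = z := h
    apply hz3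
    rw [← h1, one_pow]
  · rw [← map_mul, ← map_mul, ← map_mul, ← map_mul, mul_comm]
  · intro k h
    have h1 : mk F (dS F ((1, z) * ((z, z⁻¹) ^ k)⁻¹)) = 1 := by
      rw [map_mul, map_mul, map_inv, map_inv, map_pow, map_pow, h, mul_inv_cancel]
    obtain ⟨h2, h3⟩ := mk_dS_eq_one h1
    have h4 : (1 : Fˣ) * (z ^ k)⁻¹ = z * ((z⁻¹) ^ k)⁻¹ := h2
    have h5 : ((1 : Fˣ) * (z ^ k)⁻¹) ^ 3 = 1 := h3
    rw [one_mul] at h4 h5
    rw [inv_pow, inv_inv] at h4
    apply hz3
    -- `z^{-k} = z^{k+1}`, `z^{-3k} = 1`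
    have h6 : (z ^ k) ^ 3 = 1 := by rw [inv_pow, inv_eq_one] at h5; exact h5
    have h7 : z * (z ^ k * z ^ k) = 1 := by
      rw [← mul_assoc, ← h4, inv_mul_cancel]
    have h8 : (z * (z ^ k * z ^ k)) ^ 3 = 1 := by rw [h7, one_pow]
    rw [mul_pow, mul_pow, h6, one_mul, mul_one] at h8
    exact h8

/-- **the characteristic** -/
theorem noSP_own [Fintype F] {p : ℕ} [Fact p.Prime] [CharP F p] : Cfsg.Agent.H998.StrP.NoSP p K3 :=
  Cfsg.Agent.H818.StrP.Own.HasRGD2.noSP (Cfsg.Agent.H818.StrP.Own.hasRGD2_PSL (F := F) 2 le_rfl (p := p))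

/-! ### Characteristic three -/

/-- the unipotent radical in `PSL_3` -/
def UK (F : Type) [Field F] : Subgroup (ProjectiveSpecialLinearGroup (Fin 3) F) := ((mk F).comp (uS F)).range

theorem UK_ne_bot : UK F ≠ ⊥ := by
  intro h
  have h1 : mk F (uS F (Multiplicative.ofAdd ((1 : F), (0 : F)))) ∈ UK F := ⟨_, rfl⟩
  rw [h, mem_bot] at h1
  obtain ⟨c, -, h2⟩ := mk_eq_one.1 h1
  have h3 : uM (1 : F) 0 = Matrix.scalar (Fin 3) c := h2
  have h4 := congrFun (congrFun h3 0) 2
  simp [uM] at h4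

theorem gK_mem_normalizer [Fintype F] (A : GL (Fin 2) F) : gK F A ∈ normalizer (UK F : Set K3) := by
  rw [Cfsg.Agent.EvenType.StrongP.mem_norm]
  refine eq_of_le_of_card_ge ?_ ?_
  · rintro _ ⟨_, ⟨p, rfl⟩, rfl⟩
    obtain ⟨p', hp'⟩ := gS_uS A p
    refine ⟨p', ?_⟩
    change mk F (uS F p') = mk F (gS F A) * mk F (uS F p) * (mk F (gS F A))⁻¹
    rw [eq_mul_inv_iff_mul_eq, ← map_mul, ← map_mul, hp']
  · rw [card_map_eq]

theorem UK_isPGroup (h3 : (3 : F) = 0) : IsPGroup 3 (UK F) := by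
  rintro ⟨_, p, rfl⟩
  refine ⟨1, Subtype.ext ?_⟩
  change (((mk F).comp (uS F)) p) ^ 3 ^ 1 = 1
  rw [pow_one, ← map_pow]
  have h1 : p ^ 3 = 1 := by
    apply Multiplicative.toAdd.injective
    rw [toAdd_pow, toAdd_one]
    refine Prod.ext ?_ ?_
    · change 3 • (Multiplicative.toAdd p).1 = 0
      rw [nsmul_eq_mul, Nat.cast_ofNat, h3, zero_mul]
    · change 3 • (Multiplicative.toAdd p).2 = 0
      rw [nsmul_eq_mul, Nat.cast_ofNat, h3, zero_mul]
  rw [h1, map_one]

/-- **`3 ∣ q`** -/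
theorem no_three_own [Fintype F] (h : 3 ∣ Fintype.card F) {k : ℕ} {D : Subgroup K3} (hD : OddTI k D)
    (h3 : 3 ∣ Nat.card D) : False := by
  have hf : Fact (Nat.Prime 3) := ⟨Nat.prime_three⟩
  obtain ⟨p, hch⟩ := CharP.exists F
  obtain ⟨n, hp, hn⟩ := FiniteField.card F p
  have hp3 : 3 = p := by
    rw [hn] at h
    exact (Nat.prime_dvd_prime_iff_eq Nat.prime_three hp).1 (Nat.prime_three.dvd_of_dvd_pow h)
  subst hp3
  have h0 : (3 : F) = 0 := by
    have h1 := CharP.cast_eq_zero F 3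
    exact_mod_cast h1
  have hodd : Odd (Fintype.card F) := by
    rw [hn]; exact Odd.pow (by decide)
  obtain ⟨E, _, _, _, hcard, ⟨b⟩⟩ := exists_ext F
  suffices hex : ∃ D' : Subgroup K3, OddTI k D' ∧ UK F ≤ D' by
    obtain ⟨D', hD', hle⟩ := hex
    refine hD'.not_eight hle UK_ne_bot (Y := (tor b).range) ?_ (eight_dvd_range b hodd hcard)
    rintro _ ⟨a, rfl⟩
    exact gK_mem_normalizer _
  rcases hD.three h3 with ⟨Q, hQ⟩ | h9
  · exact exists_le_of_sylow Nat.prime_three hD hQ (UK_isPGroup h0)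
  · exfalso
    obtain ⟨Q⟩ : Nonempty (Sylow 3 K3) := inferInstance
    have h1 : 3 ^ 3 ∣ Nat.card Q := Q.pow_dvd_card_of_pow_dvd_card (by norm_num; exact dvd27 h)
    have h2 : Nat.card Q = 9 := (h9 Q).1
    rw [h2] at h1
    omega

/-! ### Cyclic Sylow subgroups -/

theorem cyc [Fintype F] {r e : ℕ} (hr : r.Prime) (hr2 : r ≠ 2) (he : 2 ≤ e)
    (hiff : ∀ j, r ∣ Fintype.card F ^ j - 1 ↔ e ∣ j) (P : Sylow r K3) : IsCyclic ↥(P : Subgroup K3) := by
  have : Fact r.Prime := ⟨hr⟩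
  exact Cfsg.Agent.H124.LinCyc.isCyclic_sylow_of_gl (F := F) (ι := Fin 3) (p := r) (e := e) hr2 (by omega)
    hiff (by rw [Fintype.card_fin]; omega) (Matrix.SpecialLinearGroup.toGL (n := Fin 3) (R := F))
    (Matrix.SpecialLinearGroup.toGL_injective) (mk F) mk_surjective P

/-- cyclic Sylow subgroups: a Sylow subgroup in `D` -/
theorem exists_sylow_le' {G : Type*} [Group G] [Finite G] {k r : ℕ} (hr : r.Prime) (hr2 : r ≠ 2) {D : Subgroup G}
    (hD : OddTI k D) (hd : r ∣ Nat.card D) (hcyc : ∀ P : Sylow r G, IsCyclic ↥(P : Subgroup G)) :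
    ∃ P : Sylow r G, (P : Subgroup G) ≤ D := by
  have : Fact r.Prime := ⟨hr⟩
  by_cases h5 : 5 ≤ r
  · exact hD.exists_sylow_le hr h5 hd
  · have h3 : r = 3 := by
      have h2 := hr.two_le
      have h4 : r ≠ 4 := by rintro rfl; revert hr; decide
      omega
    subst h3
    rcases hD.three hd with h | h
    · exact h
    · exfalso
      obtain ⟨Q⟩ : Nonempty (Sylow 3 G) := inferInstance
      obtain ⟨h9, hexp⟩ := h Q
      obtain ⟨g, hg⟩ := (hcyc Q).exists_generator
      have h1 : orderOf g = 9 := by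
        rw [← h9, orderOf_eq_card_of_forall_mem_zpowers hg]
      have h2 : g ^ 3 = 1 := Subtype.ext (hexp g g.2)
      have h3 := orderOf_dvd_of_pow_eq_one h2
      rw [h1] at h3
      omega

/-- **`NoTI 4 (PSL_3(q))`** -/
theorem noTI4 [Fintype F] : NoTI 4 K3 := by
  intro D hD
  have hs := simple (F := F)
  obtain ⟨p, hch⟩ := CharP.exists F
  obtain ⟨n, hp, hn⟩ := FiniteField.card F p
  have hfp : Fact p.Prime := ⟨hp⟩
  have hq1 : 1 < Fintype.card F := Fintype.one_lt_card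
  have hne : Nat.card D ≠ 1 := fun h1 => hD.ne (Subgroup.eq_bot_of_card_eq D h1)
  obtain ⟨r, hr, hrd⟩ := Nat.exists_prime_and_dvd hne
  have hfr : Fact r.Prime := ⟨hr⟩
  have hr2 : r ≠ 2 := by
    rintro rfl
    have h4 := hD.odd
    rw [← Nat.not_even_iff_odd, even_iff_two_dvd] at h4
    exact h4 hrd
  have hge : r = 3 ∨ 5 ≤ r := by
    have h2 := hr.two_le
    have h4 : r ≠ 4 := by rintro rfl; revert hr; decide
    omega
  have hok : ¬ r ∣ Fintype.card F - 1 → Ok F r := by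
    intro h
    rcases hge with rfl | h5
    · right
      intro c hc
      exact Cfsg.Agent.H583.FxLin.eq_one_of_pow hc h
    · left
      rw [Nat.coprime_primes hr Nat.prime_three]
      omega
  rcases prime_cases hr (hrd.trans (card_subgroup_dvd_card D)) with h | h | ⟨h1, h2⟩ | ⟨h1, h2⟩
  · -- `r = p`
    rcases hge with rfl | h5
    · exact no_three_own h hD hrd
    · have hrp : r = p := by
        rw [hn] at h
        exact (Nat.prime_dvd_prime_iff_eq hr hp).1 (hr.dvd_of_dvd_pow h)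
      subst hrp
      exact oddTI_false_of_noSP hD two_dvd hr h5 hrd noSP_own
  · rcases hge with rfl | h5
    · exact no_three_split h hD hrd
    · exact oddTI_false_of_noSP hD two_dvd hr h5 hrd (noSP_split hr h5 h)
  · -- `r ∣ q + 1`
    have hiff := iff_of_prime hr Nat.prime_two hq1.le h1 h2
    have hcyc := cyc hr hr2 le_rfl hiff
    obtain ⟨P, hP⟩ := exists_sylow_le' hr hr2 hD hrd hcyc
    rcases Nat.even_or_odd (Fintype.card F) with he | ho
    · have hp2 : 2 = p := by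
        rw [hn] at he
        exact ((Nat.prime_dvd_prime_iff_eq Nat.prime_two hp).1
          (Nat.prime_two.dvd_of_dvd_pow (even_iff_two_dvd.1 he)))
      subst hp2
      have hPne : r ∣ Nat.card (P : Subgroup K3) := P.dvd_card_of_dvd_card (hrd.trans (card_subgroup_dvd_card D))
      obtain ⟨x, hx⟩ := exists_prime_orderOf_dvd_card' r hPne
      have hx' : orderOf (x : K3) = r := by rw [Subgroup.orderOf_coe]; exact hx
      exact not_four hr (hok h1) hiff hx' (four_dvd hD hr hP (hcyc P) x.2 hx')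
    · obtain ⟨E, _, _, _, hcard, ⟨b⟩⟩ := exists_ext F
      obtain ⟨a, ha⟩ := exists_prime_orderOf_dvd_card' (G := Eˣ) r (by rw [Nat.card_units, hcard]; exact h2)
      have hx := orderOf_tor b hr (hok h1) ha
      obtain ⟨g, hg⟩ := exists_conj_of_sylow_le hr hP hx
      refine hD.not_bad hg ?_ ((bad_tor b ho hcard a).conj g)
      intro h3
      have h4 : orderOf (g * tor b a * g⁻¹) = r := by
        rw [← hx]; exact (MulAut.conj g).orderOf_eq (tor b a)
      rw [h3, orderOf_one] at h4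
      exact hr.one_lt.ne h4
  · have hiff := iff_of_prime hr Nat.prime_three hq1.le h1 h2
    have hcyc := cyc hr hr2 (by norm_num) hiff
    obtain ⟨P, hP⟩ := exists_sylow_le' hr hr2 hD hrd hcyc
    have hPne : r ∣ Nat.card (P : Subgroup K3) := P.dvd_card_of_dvd_card (hrd.trans (card_subgroup_dvd_card D))
    obtain ⟨x, hx⟩ := exists_prime_orderOf_dvd_card' r hPne
    have hx' : orderOf (x : K3) = r := by rw [Subgroup.orderOf_coe]; exact hx
    have h4 := four_dvd hD hr hP (hcyc P) x.2 hx'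
    have hf2 : Fact (Nat.Prime 2) := ⟨Nat.prime_two⟩
    obtain ⟨t, ht⟩ := exists_prime_orderOf_dvd_card'
      (G := ↥(normalizer (zpowers (x : K3) : Set K3))) 2 ((by norm_num : 2 ∣ 4).trans h4)
    have ht' : orderOf (t : K3) = 2 := by rw [Subgroup.orderOf_coe]; exact ht
    refine no_inv hr hr2 (hok h1) hiff hx' (t := (t : K3)) ?_ ?_ t.2
    · rw [← pow_two, ← ht', pow_orderOf_eq_one]
    · intro h5
      rw [h5, orderOf_one] at ht'
      omega

/-- **`NoTI 4 (PSL_3(q))`** -/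
theorem noTI4_psl3 (F : Type) [Field F] [Fintype F] (_h3 : 3 ≤ Fintype.card F) :
    NoTI 4 (Matrix.ProjectiveSpecialLinearGroup (Fin 3) F) := noTI4

end Cfsg.Agent.H583.FxThree
end

-- part: H949/FxCount
section
/-!
# Counting tools for fixity arguments (helper949)

* `ncard_fixedBy_conj` : `π` is a class function;
* `double_count` : `#involutions * f = index * #(involutions of H)` if all involutions fix `f` cosets;
* `burnside_const` : Burnside's lemma for a subgroup `E` all of whose non-identity elements fix `f` cosets;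
* `card_conj` : size of a conjugacy class;
* `sylow_norm` : `|N(P)| = p m` with `m ∣ p - 1` for a self-centralizing Sylow subgroup of order `p`.
-/

set_option autoImplicit false
set_option linter.style.haveILetI false
set_option linter.unusedVariables false
set_option linter.unusedSectionVars false

namespace Cfsg.Agent.H949.FxCount

open Subgroup Cfsg.Agent.H254.Ev
open Cfsg.Agent.EvenType.StrongP (mem_map_conj)

section general

variable {G : Type*} [Group G]

open scoped Pointwise in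
theorem ncard_fixedBy_conj {Ω : Type*} [MulAction G Ω] (g t : G) :
    (MulAction.fixedBy Ω (g * t * g⁻¹)).ncard = (MulAction.fixedBy Ω t).ncard := by
  rw [← MulAction.smul_fixedBy, Set.ncard_smul_set]

theorem double_count [Finite G] (H : Subgroup G) (f : ℕ)
    (hf : ∀ t : G, orderOf t = 2 → (MulAction.fixedBy (G ⧸ H) t).ncard = f) :
    {t : G | orderOf t = 2}.ncard * f = H.index * {t : G | t ∈ H ∧ orderOf t = 2}.ncard := by
  classical
  haveI := Fintype.ofFinite G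
  haveI := Fintype.ofFinite (G ⧸ H)
  have h := Finset.sum_card_bipartiteAbove_eq_sum_card_bipartiteBelow
    (s := (Finset.univ.filter fun t : G => orderOf t = 2)) (t := (Finset.univ : Finset (G ⧸ H)))
    (fun (t : G) (x : G ⧸ H) => t • x = x)
  have h1 : ∀ t ∈ (Finset.univ.filter fun t : G => orderOf t = 2),
      (Finset.bipartiteAbove (fun (t : G) (x : G ⧸ H) => t • x = x) Finset.univ t).card = f := by
    intro t ht
    rw [Finset.mem_filter] at ht
    rw [← hf t ht.2, Set.ncard_eq_toFinset_card']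
    congr 1
    ext x
    rw [Finset.mem_bipartiteAbove, Set.mem_toFinset, MulAction.mem_fixedBy]
    exact ⟨fun h => h.2, fun h => ⟨Finset.mem_univ _, h⟩⟩
  have h2 : ∀ x ∈ (Finset.univ : Finset (G ⧸ H)),
      (Finset.bipartiteBelow (fun (t : G) (x : G ⧸ H) => t • x = x)
        (Finset.univ.filter fun t : G => orderOf t = 2) x).card =
      {t : G | t ∈ H ∧ orderOf t = 2}.ncard := by
    intro x _
    obtain ⟨a, rfl⟩ := QuotientGroup.mk_surjective x
    have h3 : {t : G | t ∈ H ∧ orderOf t = 2} = (fun t => a⁻¹ * t * a) ''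
        (↑(Finset.bipartiteBelow (fun (t : G) (x : G ⧸ H) => t • x = x)
        (Finset.univ.filter fun t : G => orderOf t = 2) (a : G ⧸ H)) : Set G) := by
      ext t
      constructor
      · rintro ⟨h4, h5⟩
        refine ⟨a * t * a⁻¹, ?_, by group⟩
        rw [Finset.mem_coe, Finset.mem_bipartiteBelow, Finset.mem_filter]
        refine ⟨⟨Finset.mem_univ _, ?_⟩, ?_⟩
        · rw [← h5]
          exact (MulAut.conj a).orderOf_eq t
        · have h6 := (mk_mem_fixedBy (H := H) (a * t * a⁻¹) a).2 (by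
            have : a⁻¹ * (a * t * a⁻¹) * a = t := by group
            rw [this]; exact h4)
          exact h6
      · rintro ⟨u, hu, rfl⟩
        rw [Finset.mem_coe, Finset.mem_bipartiteBelow, Finset.mem_filter] at hu
        refine ⟨(mk_mem_fixedBy (H := H) u a).1 hu.2, ?_⟩
        rw [← hu.1.2]
        have := (MulAut.conj a⁻¹).orderOf_eq u
        simpa only [_root_.map_inv, _root_.MulAut.inv_apply, _root_.MulAut.conj_symm_apply] using this
    rw [h3, Set.ncard_image_of_injective, Set.ncard_coe_finset]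
    intro u v huv
    have h7 : a⁻¹ * u * a = a⁻¹ * v * a := huv
    exact mul_left_cancel (mul_right_cancel h7)
  rw [Finset.sum_congr rfl h1, Finset.sum_congr rfl h2, Finset.sum_const, Finset.sum_const,
    smul_eq_mul, smul_eq_mul] at h
  have h4 : {t : G | orderOf t = 2}.ncard = (Finset.univ.filter fun t : G => orderOf t = 2).card := by
    rw [Set.ncard_eq_toFinset_card']
    congr 1
    ext t
    simp
  rw [h4, h, Finset.card_univ, ← Nat.card_eq_fintype_card]
  rfl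

/-- Burnside's lemma for `E`, all of whose non-identity elements fix exactly `f` cosets -/
theorem burnside_const [Finite G] (H E : Subgroup G) (f : ℕ)
    (hf : ∀ t ∈ E, t ≠ 1 → (MulAction.fixedBy (G ⧸ H) t).ncard = f) :
    Nat.card E ∣ H.index + (Nat.card E - 1) * f := by
  classical
  haveI := Fintype.ofFinite G
  haveI := Fintype.ofFinite (G ⧸ H)
  haveI := Fintype.ofFinite E
  have h := MulAction.sum_card_fixedBy_eq_card_orbits_mul_card_group E (G ⧸ H)
  rw [← Finset.add_sum_erase _ _ (Finset.mem_univ (1 : E))] at h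
  have h1 : Fintype.card (MulAction.fixedBy (G ⧸ H) (1 : E)) = H.index := by
    rw [Subgroup.index, ← Nat.card_eq_fintype_card]
    refine Nat.card_congr ⟨fun x => x.1, fun x => ⟨x, ?_⟩, fun x => rfl, fun x => rfl⟩
    rw [MulAction.mem_fixedBy, one_smul]
  have h2 : ∀ t ∈ (Finset.univ : Finset E).erase 1,
      Fintype.card (MulAction.fixedBy (G ⧸ H) t) = f := by
    intro t ht
    have ht1 : (t : G) ≠ 1 := by
      intro h3
      exact (Finset.mem_erase.1 ht).1 (Subtype.ext h3)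
    rw [← hf t t.2 ht1, ← Nat.card_eq_fintype_card]
    rfl
  rw [Finset.sum_congr rfl h2, Finset.sum_const, smul_eq_mul, h1,
    Finset.card_erase_of_mem (Finset.mem_univ _), Finset.card_univ, ← Nat.card_eq_fintype_card] at h
  exact Dvd.intro_left _ h.symm

/-- size of a conjugacy class -/
theorem card_conj [Finite G] (s : G) (p : G → Prop) (hp : ∀ t, p t ↔ ∃ g, g * s * g⁻¹ = t) :
    {t : G | p t}.ncard * Nat.card (centralizer ({s} : Set G)) = Nat.card G := by
  have h1 : {t : G | p t}.ncard = (centralizer ({s} : Set G)).index := by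
    have h0 : ∀ a b : G, a⁻¹ * b ∈ centralizer ({s} : Set G) ↔ a * s * a⁻¹ = b * s * b⁻¹ := by
      intro a b
      rw [mem_centralizer_singleton_iff]
      constructor
      · intro h
        have e : b * s = a * s * a⁻¹ * b := by
          calc b * s = a * (a⁻¹ * b * s) := by group
            _ = a * (s * (a⁻¹ * b)) := by rw [h]
            _ = a * s * a⁻¹ * b := by group
        rw [e]; group
      · intro h
        calc a⁻¹ * b * s = a⁻¹ * (b * s * b⁻¹) * b := by group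
          _ = a⁻¹ * (a * s * a⁻¹) * b := by rw [h]
          _ = s * (a⁻¹ * b) := by group
    rw [← Nat.card_coe_set_eq, Subgroup.index]
    refine (Nat.card_congr (Equiv.ofBijective
      (Quotient.lift (fun g : G => (⟨g * s * g⁻¹, (hp _).2 ⟨g, rfl⟩⟩ : {t : G | p t})) ?_)
      ⟨?_, ?_⟩)).symm
    · intro a b hab
      apply Subtype.ext
      show a * s * a⁻¹ = b * s * b⁻¹
      rw [← h0]
      exact QuotientGroup.leftRel_apply.1 hab
    · intro a b
      refine Quotient.inductionOn₂ a b ?_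
      intro a b hab
      apply Quotient.sound
      apply QuotientGroup.leftRel_apply.2
      rw [h0]
      exact congrArg Subtype.val hab
    · rintro ⟨t, ht⟩
      obtain ⟨g, hg⟩ := (hp t).1 ht
      exact ⟨QuotientGroup.mk g, Subtype.ext hg⟩
  rw [h1]
  exact (centralizer ({s} : Set G)).index_mul_card

theorem sylow_norm [Finite G] {p : ℕ} [hp : Fact p.Prime] (P : Sylow p G)
    (hP : Nat.card P = p) (hc : ∀ g ∈ centralizer ((P : Subgroup G) : Set G), ∀ q : ℕ, q.Prime →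
      q ≠ p → orderOf g ≠ q) :
    ∃ m, m ∣ p - 1 ∧ Nat.card (normalizer ((P : Subgroup G) : Set G)) = p * m := by
  classical
  have hPS : Nat.card (P : Subgroup G) = p := hP
  haveI : IsCyclic (P : Subgroup G) := isCyclic_of_prime_card hPS
  obtain ⟨f, hf⟩ : ∃ f, f = (P : Subgroup G).normalizerMonoidHom := ⟨_, rfl⟩
  have h1 : Nat.card f.range ∣ p - 1 := by
    have h2 := Subgroup.card_subgroup_dvd_card f.range
    rw [IsCyclic.card_mulAut, hPS, Nat.totient_prime hp.out] at h2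
    exact h2
  have hcomm : ∀ x ∈ (P : Subgroup G), ∀ y ∈ (P : Subgroup G), x * y = y * x := by
    intro x hx y hy
    letI := IsCyclic.commGroup (α := (P : Subgroup G))
    have := mul_comm (⟨x, hx⟩ : (P : Subgroup G)) ⟨y, hy⟩
    exact congrArg Subtype.val this
  have hPC : (P : Subgroup G) ≤ centralizer ((P : Subgroup G) : Set G) := by
    intro x hx
    rw [mem_centralizer_iff]
    intro y hy
    exact hcomm y hy x hx
  -- the centralizer is a `p`-group
  have hCp : IsPGroup p (centralizer ((P : Subgroup G) : Set G)) := by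
    rw [IsPGroup.iff_card]
    refine ⟨_, Nat.eq_prime_pow_of_unique_prime_dvd Nat.card_pos.ne' ?_⟩
    intro q hq hqd
    haveI := Fact.mk hq
    obtain ⟨g, hg⟩ := exists_prime_orderOf_dvd_card' q hqd
    by_contra hne
    exact hc g g.2 q hq hne (by rw [Subgroup.orderOf_coe]; exact hg)
  have hC : centralizer ((P : Subgroup G) : Set G) = P := P.is_maximal' hCp hPC
  have h2 : Nat.card f.ker = p := by
    rw [hf, Subgroup.normalizerMonoidHom_ker, hC]
    rw [Nat.card_congr (Subgroup.subgroupOfEquivOfLe le_normalizer).toEquiv]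
    exact hPS
  refine ⟨Nat.card f.range, h1, ?_⟩
  have h3 := f.ker.card_mul_index
  rw [h2, Subgroup.index_ker] at h3
  exact h3.symm

end general

end Cfsg.Agent.H949.FxCount
end

-- part: H949/FxL34
section
/-!
# `PSL(3, 4)`: no subgroup of even order all of whose non-identity elements fix at most 4 cosets (helper949)
-/

set_option autoImplicit false
set_option linter.style.haveILetI false
set_option linter.unusedVariables false
set_option linter.unusedSectionVars false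

namespace Cfsg.Agent.H949.FxL34

open Subgroup Cfsg.Agent.H254.Ev Cfsg.Agent.H949.FxCount Cfsg.Agent.H350.Fix Cfsg.Agent.H254.Fx
open Cfsg.Agent.EvenType.StrongP (mem_map_conj)

/-- element orders -/
def Ord (G : Type*) [Group G] : Prop :=
  ∀ g : G, orderOf g = 1 ∨ orderOf g = 2 ∨ orderOf g = 3 ∨ orderOf g = 4 ∨ orderOf g = 5 ∨ orderOf g = 7

section general

variable {G : Type*} [Group G]

theorem Ord.no_comm (h : Ord G) {p q : ℕ} (hp : p.Prime) (hq : q.Prime) (hne : p ≠ q) {x y : G}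
    (hx : orderOf x = p) (hy : orderOf y = q) (hc : x * y = y * x) : False := by
  have h1 : orderOf (x * y) = p * q := by
    rw [← hx, ← hy]
    refine Commute.orderOf_mul_eq_mul_orderOf_of_coprime hc ?_
    rw [hx, hy]
    exact (Nat.coprime_primes hp hq).2 hne
  have h2 := hp.two_le
  have h3 := hq.two_le
  have h4 : p * q ≤ 7 := by
    rcases h (x * y) with h | h | h | h | h | h <;> omega
  have h5 : p ≤ 3 := by nlinarith only [h3, h4]
  have h6 : q ≤ 3 := by nlinarith only [h2, h4]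
  have h7 := h (x * y)
  rw [h1] at h7
  interval_cases p <;> interval_cases q <;> first | exact hne rfl | omega

theorem Ord.sub (h : Ord G) (H : Subgroup G) : Ord H := by
  intro g
  rw [← Subgroup.orderOf_coe]
  exact h _

theorem sylow_card [Finite G] {p : ℕ} [hp : Fact p.Prime] (P : Sylow p G) {a b : ℕ}
    (h : Nat.card G = p ^ a * b) (hb : ¬ p ∣ b) : Nat.card (P : Subgroup G) = p ^ a := by
  have h1 := P.card_eq_multiplicity
  rw [h, Nat.factorization_mul (pow_ne_zero _ hp.out.ne_zero) (by rintro rfl; simp at hb),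
    Nat.Prime.factorization_pow hp.out, Finsupp.add_apply, Finsupp.single_eq_same,
    Nat.factorization_eq_zero_of_not_dvd hb, add_zero] at h1
  exact h1

/-- normalizer of a Sylow subgroup of prime order and the Sylow congruence -/
theorem Ord.sylow [Finite G] (ho : Ord G) {p : ℕ} [hp : Fact p.Prime] (P : Sylow p G)
    (hP : Nat.card (P : Subgroup G) = p) :
    ∃ m c, m ∣ p - 1 ∧ Nat.card (normalizer ((P : Subgroup G) : Set G)) = p * m ∧
      c % p = 1 ∧ c * (p * m) = Nat.card G := by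
  obtain ⟨z, hz, hz1⟩ := exists_ne_one (X := (P : Subgroup G)) (by
    intro h
    rw [h, card_bot] at hP
    exact hp.out.one_lt.ne hP)
  have hzo : orderOf z = p := by
    have h1 : orderOf z ∣ p := by
      rw [← hP, ← Subgroup.orderOf_mk z hz]
      exact _root_.orderOf_dvd_natCard _
    rcases (Nat.dvd_prime hp.out).1 h1 with h | h
    · exact absurd (orderOf_eq_one_iff.1 h) hz1
    · exact h
  obtain ⟨m, hm, hN⟩ := sylow_norm P hP (by
    intro g hg q hq hne hgo
    rw [mem_centralizer_iff] at hg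
    exact ho.no_comm hp.out hq hne.symm hzo hgo (hg z hz))
  refine ⟨m, Nat.card (Sylow p G), hm, hN, ?_, ?_⟩
  · have h2 := card_sylow_modEq_one p G
    unfold Nat.ModEq at h2
    rw [h2]
    exact Nat.mod_eq_of_lt hp.out.one_lt
  · rw [P.card_eq_index_normalizer, ← hN]
    exact (normalizer ((P : Subgroup G) : Set G)).index_mul_card

theorem mem_norm_map {H : Subgroup G} {K : Subgroup H} (x : H) :
    (x : G) ∈ normalizer (K.map H.subtype : Set G) ↔ x ∈ normalizer (K : Set H) := by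
  have h0 : ∀ y : H, (y : G) ∈ K.map H.subtype ↔ y ∈ K := by
    intro y
    constructor
    · rintro ⟨z, hz, hzy⟩
      have : z = y := Subtype.ext hzy
      rwa [← this]
    · intro hy; exact ⟨y, hy, rfl⟩
  rw [mem_normalizer_iff, mem_normalizer_iff]
  constructor
  · intro h y
    have := h y
    rw [h0] at this
    rw [this, ← h0]
    rfl
  · intro h y
    by_cases hy : y ∈ H
    · have := h ⟨y, hy⟩
      rw [← h0, ← h0] at this
      exact this
    · constructor
      · rintro ⟨z, hz, rfl⟩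
        exact absurd z.2 hy
      · rintro ⟨z, hz, hzy⟩
        exfalso
        apply hy
        have h1 : y = (x : G)⁻¹ * z * x := by
          have h2 : (z : G) = x * y * (x : G)⁻¹ := hzy
          rw [h2]; group
        rw [h1]
        exact H.mul_mem (H.mul_mem (H.inv_mem x.2) z.2) x.2

/-- in a group of order `20160` with these element orders the normalizer of a Sylow 7-subgroup has order 21 -/
theorem Ord.norm_seven [Finite G] (ho : Ord G) (hG : Nat.card G = 20160) (P : Subgroup G)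
    (hP : Nat.card P = 7) : Nat.card (normalizer (P : Set G)) = 21 := by
  haveI : Fact (Nat.Prime 7) := ⟨by norm_num⟩
  have h1 : IsPGroup 7 P := IsPGroup.of_card (n := 1) (by rw [hP, pow_one])
  have h2 : ¬ 7 ∣ P.index := by
    intro h
    have h3 := P.card_mul_index
    rw [hP, hG] at h3
    omega
  obtain ⟨m, c, hm, hN, hc, hcm⟩ := ho.sylow (h1.toSylow h2) (by rw [IsPGroup.toSylow_coe]; exact hP)
  rw [IsPGroup.toSylow_coe] at hN
  rw [hG] at hcm
  have h3 : m ≤ 6 := Nat.le_of_dvd (by norm_num) hm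
  rw [hN]
  interval_cases m
  · omega
  · omega
  · omega
  · omega
  · omega
  · omega
  · omega

theorem Ord.seven [Finite G] (ho : Ord G) (hG : Nat.card G = 20160) (H : Subgroup G)
    (h7 : 7 ∣ Nat.card H) : ∃ m c, (m = 1 ∨ m = 3) ∧ c % 7 = 1 ∧ c * (7 * m) = Nat.card H := by
  haveI : Fact (Nat.Prime 7) := ⟨by norm_num⟩
  obtain ⟨P⟩ : Nonempty (Sylow 7 H) := inferInstance
  have hP : Nat.card (P : Subgroup H) = 7 := by
    obtain ⟨b, hb⟩ := h7
    have h2 := sylow_card P (a := 1) (b := b) (by rw [pow_one]; exact hb) (by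
      rintro ⟨c, rfl⟩
      have h3 := Subgroup.card_subgroup_dvd_card H
      rw [hb, hG] at h3
      have h4 : 49 ∣ 20160 := (Dvd.intro (c := c) (by ring)).trans h3
      omega)
    rwa [pow_one] at h2
  obtain ⟨m, c, hm, hN, hc, hcm⟩ := (ho.sub H).sylow P hP
  refine ⟨m, c, ?_, hc, hcm⟩
  have h3 : ¬ 2 ∣ m := by
    intro h2
    haveI : Fact (Nat.Prime 2) := ⟨Nat.prime_two⟩
    have h4 : 2 ∣ Nat.card (normalizer ((P : Subgroup H) : Set H)) := by
      rw [hN]; exact h2.mul_left _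
    obtain ⟨u, hu⟩ := exists_prime_orderOf_dvd_card' 2 h4
    have h5 := (mem_norm_map (K := (P : Subgroup H)) (u : H)).2 u.2
    have h6 := ho.norm_seven hG ((P : Subgroup H).map H.subtype) (by
      rw [Subgroup.card_map_of_injective H.subtype_injective, hP])
    have h7 : orderOf (((u : H) : G)) = 2 := by
      rw [Subgroup.orderOf_coe, Subgroup.orderOf_coe]; exact hu
    have h8 : 2 ∣ 21 := by
      rw [← h6, ← h7]
      exact orderOf_dvd_card_of_mem h5
    omega
  have h4 : m ≤ 6 := Nat.le_of_dvd (by norm_num) hm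
  have h5 : m ∣ 6 := hm
  interval_cases m
  all_goals omega

/-- `5`-arithmetic -/
theorem Ord.five [Finite G] (ho : Ord G) (hG : Nat.card G = 20160) (H : Subgroup G)
    (h5 : 5 ∣ Nat.card H) : ∃ m c, m ∣ 4 ∧ c % 5 = 1 ∧ c * (5 * m) = Nat.card H := by
  haveI : Fact (Nat.Prime 5) := ⟨by norm_num⟩
  obtain ⟨P⟩ : Nonempty (Sylow 5 H) := inferInstance
  have hP : Nat.card (P : Subgroup H) = 5 := by
    obtain ⟨b, hb⟩ := h5
    have h2 := sylow_card P (a := 1) (b := b) (by rw [pow_one]; exact hb) (by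
      rintro ⟨c, rfl⟩
      have h3 := Subgroup.card_subgroup_dvd_card H
      rw [hb, hG] at h3
      have h4 : 25 ∣ 20160 := (Dvd.intro (c := c) (by ring)).trans h3
      omega)
    rwa [pow_one] at h2
  obtain ⟨m, c, hm, hN, hc, hcm⟩ := (ho.sub H).sylow P hP
  exact ⟨m, c, hm, hc, hcm⟩

/-- elements of order 3: `18` divides the order of the normalizer -/
theorem Ord.norm_three [Finite G] (ho : Ord G) (hG : Nat.card G = 20160) (X : Subgroup G)
    (hX : Nat.card X = 3) : 18 ∣ Nat.card (normalizer (X : Set G)) := by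
  classical
  haveI : Fact (Nat.Prime 3) := ⟨Nat.prime_three⟩
  haveI : Fact (Nat.Prime 2) := ⟨Nat.prime_two⟩
  haveI : Fact (Nat.Prime 5) := ⟨Nat.prime_five⟩
  have hXp : IsPGroup 3 X := IsPGroup.of_card (n := 1) (by rw [hX, pow_one])
  obtain ⟨P, hXP⟩ := hXp.exists_le_sylow
  have hP : Nat.card (P : Subgroup G) = 9 :=
    sylow_card P (a := 2) (b := 2240) (by rw [hG]; norm_num) (by norm_num)
  have hcomm : ∀ x ∈ (P : Subgroup G), ∀ y ∈ (P : Subgroup G), x * y = y * x := by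
    intro x hx y hy
    have := (IsPGroup.isMulCommutative_of_card_eq_prime_sq (p := 3) (G := (P : Subgroup G))
      (by rw [hP]; norm_num)).is_comm.comm ⟨x, hx⟩ ⟨y, hy⟩
    exact congrArg Subtype.val this
  have hord : ∀ x ∈ (P : Subgroup G), x ≠ 1 → orderOf x = 3 := by
    intro x hx hx1
    have h1 : orderOf x ∣ 9 := by
      rw [← hP, ← Subgroup.orderOf_mk x hx]
      exact _root_.orderOf_dvd_natCard _
    rcases ho x with h | h | h | h | h | h
    · exact absurd (orderOf_eq_one_iff.1 h) hx1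
    · rw [h] at h1; omega
    · exact h
    · rw [h] at h1; omega
    · rw [h] at h1; omega
    · rw [h] at h1; omega
  -- the normalizer of `P` has even order
  obtain ⟨N, hN⟩ : ∃ N : Subgroup G, N = normalizer ((P : Subgroup G) : Set G) := ⟨_, rfl⟩
  have hNP : (P : Subgroup G) ≤ N := hN ▸ le_normalizer
  obtain ⟨m, hm⟩ : 9 ∣ Nat.card N := by
    rw [← hP]; exact card_dvd_of_le hNP
  have hs1 := card_sylow_modEq_one 3 G
  have hs2 : Nat.card (Sylow 3 G) = (normalizer ((P : Subgroup G) : Set G)).index :=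
    P.card_eq_index_normalizer
  have hs3 := (normalizer ((P : Subgroup G) : Set G)).index_mul_card
  rw [← hs2, ← hN, hm, hG] at hs3
  obtain ⟨c, hc⟩ : ∃ c, c = Nat.card (Sylow 3 G) := ⟨_, rfl⟩
  rw [← hc] at hs1 hs3
  have hs4 : c % 3 = 1 := hs1
  have hs5 : c * m = 2240 := by
    have : c * (9 * m) = 9 * (c * m) := by ring
    omega
  have h2m : 2 ∣ m := by
    by_contra hodd
    have h5m : 5 ∣ m := by
      by_contra h5
      have h1 : m ∣ 7 := by
        have h2 : m ∣ 2 ^ 6 * (5 * 7) := ⟨c, by rw [mul_comm m c, hs5]; norm_num⟩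
        have h3 : Nat.Coprime m (2 ^ 6) :=
          Nat.Coprime.pow_right 6 (((Nat.Prime.coprime_iff_not_dvd Nat.prime_two).2 hodd).symm)
        have h4 : Nat.Coprime m 5 :=
          ((Nat.Prime.coprime_iff_not_dvd Nat.prime_five).2 h5).symm
        exact h4.dvd_of_dvd_mul_left (h3.dvd_of_dvd_mul_left h2)
      rcases (Nat.dvd_prime (by norm_num)).1 h1 with h | h
      · rw [h] at hs5; omega
      · rw [h] at hs5; omega
    obtain ⟨y, hy⟩ := exists_prime_orderOf_dvd_card' (G := N) 5 (by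
      rw [hm]; exact h5m.mul_left _)
    have hyo : orderOf (y : G) = 5 := by rw [Subgroup.orderOf_coe]; exact hy
    have hyN : (y : G) ∈ normalizer ((P : Subgroup G) : Set G) := hN ▸ y.2
    obtain ⟨f, hf⟩ : ∃ f : MulAut (P : Subgroup G),
        f = (P : Subgroup G).normalizerMonoidHom ⟨(y : G), hyN⟩ := ⟨_, rfl⟩
    have hf5 : f ^ 5 = 1 := by
      rw [hf, ← map_pow]
      have : (⟨(y : G), hyN⟩ : normalizer ((P : Subgroup G) : Set G)) ^ 5 = 1 := by
        apply Subtype.ext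
        show (y : G) ^ 5 = 1
        rw [← hyo]; exact pow_orderOf_eq_one _
      rw [this, map_one]
    have hfp : IsPGroup 5 (zpowers f) := by
      rw [IsPGroup.iff_card]
      have h6 : orderOf f ∣ 5 := orderOf_dvd_of_pow_eq_one hf5
      rcases (Nat.dvd_prime Nat.prime_five).1 h6 with h | h
      · exact ⟨0, by rw [Nat.card_zpowers, h, pow_zero]⟩
      · exact ⟨1, by rw [Nat.card_zpowers, h, pow_one]⟩
    have h6 := hfp.card_modEq_card_fixedPoints (α := (P : Subgroup G))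
    rw [hP] at h6
    have h7 : 1 < Nat.card (MulAction.fixedPoints (zpowers f) (P : Subgroup G)) := by
      by_contra hle
      have h8 : Nat.card (MulAction.fixedPoints (zpowers f) (P : Subgroup G)) % 5 = 4 := h6.symm
      omega
    haveI : Nontrivial (MulAction.fixedPoints (zpowers f) (P : Subgroup G)) := by
      haveI : Finite (MulAction.fixedPoints (zpowers f) (P : Subgroup G)) := inferInstance
      exact Finite.one_lt_card_iff_nontrivial.1 h7
    have h1fix : (1 : (P : Subgroup G)) ∈ MulAction.fixedPoints (zpowers f) (P : Subgroup G) := by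
      rw [MulAction.mem_fixedPoints]
      intro g
      show (g : MulAut (P : Subgroup G)) 1 = 1
      exact map_one _
    obtain ⟨z, hz⟩ := exists_ne (⟨1, h1fix⟩ : MulAction.fixedPoints (zpowers f) (P : Subgroup G))
    have hz1 : ((z : (P : Subgroup G)) : G) ≠ 1 := by
      intro h
      apply hz
      exact Subtype.ext (Subtype.ext h)
    have hzf : f (z : (P : Subgroup G)) = z := z.2 ⟨f, mem_zpowers f⟩
    have hfw : ∀ w : (P : Subgroup G), ((f w : (P : Subgroup G)) : G) = y * w * (y : G)⁻¹ := by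
      intro w; rw [hf]; rfl
    have hzc : (y : G) * ((z : (P : Subgroup G)) : G) * (y : G)⁻¹ = ((z : (P : Subgroup G)) : G) := by
      have h9 := congrArg Subtype.val hzf
      rw [hfw] at h9
      exact h9
    refine ho.no_comm Nat.prime_three Nat.prime_five (by norm_num)
      (hord _ (z : (P : Subgroup G)).2 hz1) hyo ?_
    rw [mul_inv_eq_iff_eq_mul] at hzc
    exact hzc.symm
  obtain ⟨u, hu⟩ := exists_prime_orderOf_dvd_card' (G := N) 2 (by
    rw [hm]; exact h2m.mul_left _)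
  have huo : orderOf (u : G) = 2 := by rw [Subgroup.orderOf_coe]; exact hu
  have huN : (u : G) ∈ normalizer ((P : Subgroup G) : Set G) := hN ▸ u.2
  have huu : (u : G) * u = 1 := by
    have := pow_orderOf_eq_one (u : G)
    rw [huo, pow_two] at this
    exact this
  have hui : (u : G)⁻¹ = u := inv_eq_of_mul_eq_one_left huu
  have hinv : ∀ z ∈ (P : Subgroup G), (u : G) * z * (u : G)⁻¹ = z⁻¹ := by
    intro z hz
    have h1 : (u : G) * z * (u : G)⁻¹ ∈ (P : Subgroup G) := (mem_normalizer_iff.1 huN z).1 hz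
    have h2 : z * ((u : G) * z * (u : G)⁻¹) = 1 := by
      by_contra hne
      have hw := mul_mem hz h1
      refine ho.no_comm Nat.prime_three Nat.prime_two (by norm_num) (hord _ hw hne) huo ?_
      have h3 := hcomm _ hz _ h1
      rw [hui] at h3 ⊢
      calc z * (u * z * u) * u = z * u * z * (u * u) := by group
        _ = z * u * z := by rw [huu, mul_one]
        _ = (u * u) * (z * u * z) := by rw [huu, one_mul]
        _ = u * (u * z * u * z) := by group
        _ = u * (z * (u * z * u)) := by rw [← h3]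
    exact (inv_eq_of_mul_eq_one_right h2).symm
  have hPX : (P : Subgroup G) ≤ normalizer (X : Set G) := by
    intro y hy
    rw [mem_normalizer_iff]
    intro z
    constructor
    · intro hz
      rw [hcomm y hy z (hXP hz)]; simpa using hz
    · intro hz
      have h1 : z ∈ (P : Subgroup G) := by
        have h2 := mul_mem (mul_mem (inv_mem hy) (hXP hz)) hy
        have h3 : y⁻¹ * (y * z * y⁻¹) * y = z := by group
        rwa [h3] at h2
      rw [hcomm y hy z h1] at hz; simpa using hz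
  have huX : (u : G) ∈ normalizer (X : Set G) := by
    rw [mem_normalizer_iff]
    intro z
    constructor
    · intro hz
      rw [hinv z (hXP hz)]; exact inv_mem hz
    · intro hz
      have h1 : z ∈ (P : Subgroup G) := (mem_normalizer_iff.1 huN z).2 (hXP hz)
      rw [hinv z h1] at hz
      exact (inv_mem_iff (x := z)).1 hz
  have e9 : 9 ∣ Nat.card (normalizer (X : Set G)) := by
    rw [← hP]; exact card_dvd_of_le hPX
  have e2 : 2 ∣ Nat.card (normalizer (X : Set G)) := by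
    have := orderOf_dvd_card_of_mem huX
    rwa [huo] at this
  omega

/-- the case `|H| = 48` -/
theorem Ord.case48 [Finite G] (ho : Ord G) (hG : Nat.card G = 20160) {H : Subgroup G}
    (hH : FixLE 4 H) (h48 : Nat.card H = 48) : False := by
  haveI : Fact (Nat.Prime 3) := ⟨Nat.prime_three⟩
  obtain ⟨P⟩ : Nonempty (Sylow 3 H) := inferInstance
  have hP : Nat.card (P : Subgroup H) = 3 := by
    have := sylow_card P (a := 1) (b := 16) (by rw [h48]; norm_num) (by norm_num)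
    rwa [pow_one] at this
  obtain ⟨m, c, hm, hN, hc, hcm⟩ := (ho.sub H).sylow P hP
  rw [h48] at hcm
  have hm1 : m = 1 := by
    have h4 : m ≤ 2 := Nat.le_of_dvd (by norm_num) hm
    interval_cases m <;> omega
  subst hm1
  obtain ⟨X, hX⟩ : ∃ X : Subgroup G, X = (P : Subgroup H).map H.subtype := ⟨_, rfl⟩
  have hXc : Nat.card X = 3 := by
    rw [hX, Subgroup.card_map_of_injective H.subtype_injective, hP]
  have h18 := ho.norm_three hG X hXc
  have hXH : X ≤ H := by rw [hX]; exact Subgroup.map_subtype_le _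
  have hX1 : X ≠ ⊥ := by
    intro h
    rw [h, card_bot] at hXc
    omega
  have hrel := hH.relIndex_le hXH hX1 (le_refl (normalizer (X : Set G)))
  have h1 : Nat.card (H.subgroupOf (normalizer (X : Set G))) * H.relIndex (normalizer (X : Set G)) =
      Nat.card (normalizer (X : Set G)) := (H.subgroupOf (normalizer (X : Set G))).card_mul_index
  have h2 : Nat.card (H.subgroupOf (normalizer (X : Set G))) ≤ 3 := by
    have h3 : Nat.card (normalizer ((P : Subgroup H) : Set H)) = 3 := by rw [hN]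
    rw [← h3]
    refine Nat.card_le_card_of_injective
      (fun y => (⟨⟨(y : normalizer (X : Set G)), mem_subgroupOf.1 y.2⟩, ?_⟩ :
        normalizer ((P : Subgroup H) : Set H))) ?_
    · have h4 := (y : normalizer (X : Set G)).2
      rw [← mem_norm_map, ← hX]
      exact h4
    · intro y z hyz
      have h5 := congrArg (fun w : normalizer ((P : Subgroup H) : Set H) => ((w : H) : G)) hyz
      exact Subtype.ext (Subtype.ext h5)
  have h3 : Nat.card (normalizer (X : Set G)) ≤ 3 * 4 := by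
    rw [← h1]
    exact Nat.mul_le_mul h2 hrel
  have h4 : 0 < Nat.card (normalizer (X : Set G)) := Nat.card_pos
  omega

end general

section dat

open Cfsg.Agent.LThreeFour

variable {L : Type*} [Group L] (A : Dat L)

theorem A1_order {t : L} (ht : t ∈ A.A1) (ht1 : t ≠ 1) : orderOf t = 2 :=
  orderOf_eq_prime (by rw [pow_two]; exact Dat.A1_sq ht) ht1

theorem s_ne : A.x 0 2 1 ≠ 1 := by
  intro h
  rw [← A.el_x02, A.el_eq_one] at h
  exact absurd (congrArg Code.c h) (by decide)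

theorem s_order : orderOf (A.x 0 2 1) = 2 :=
  orderOf_eq_prime (by rw [pow_two]; exact A.x_sq 0 2 (by decide) 1) (s_ne A)

theorem invol_iff (t : L) : orderOf t = 2 ↔ ∃ g, g * A.x 0 2 1 * g⁻¹ = t := by
  constructor
  · intro h
    have h1 : t ≠ 1 := by
      rintro rfl
      rw [orderOf_one] at h; omega
    have h2 : t * t = 1 := by
      have := pow_orderOf_eq_one t
      rwa [h, pow_two] at this
    obtain ⟨g, hg⟩ := A.invol_conj t h1 h2
    exact ⟨g⁻¹, by rw [← hg]; group⟩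
  · rintro ⟨g, rfl⟩
    exact ((MulAut.conj g).orderOf_eq (A.x 0 2 1)).trans (s_order A)

theorem cent_s : centralizer ({A.x 0 2 1} : Set L) = A.T := by
  ext l
  rw [mem_centralizer_singleton_iff]
  constructor
  · intro h
    obtain ⟨p, hp⟩ := A.cent l h
    exact ⟨p, hp.symm⟩
  · rintro ⟨p, rfl⟩
    rw [← A.el_x02, A.el_mul, A.el_mul]
    congr 1
    revert p
    decide +kernel

include A in
theorem card_inv : {t : L | orderOf t = 2}.ncard = 315 := by
  haveI := A.finite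
  have h := card_conj (A.x 0 2 1) (fun t => orderOf t = 2) (invol_iff A)
  rw [cent_s, A.card_T, A.card] at h
  omega

theorem num (n f a : ℕ) (hf1 : 1 ≤ f) (hf4 : f ≤ 4) (h16 : 16 ∣ n + 15 * f)
    (hdc : 315 * f = n * a) :
    ¬ 2 ∣ n ∨ n = 2 ∨ n = 4 ∨ n = 18 ∨ n = 20 ∨ n = 36 ∨ n = 180 ∨ n = 84 ∨ (n = 210 ∧ a = 3) ∨
      n = 420 := by
  have h0 : n ∣ 315 * f := ⟨a, hdc⟩
  interval_cases f
  · left
    intro h
    have := h.trans h0
    omega
  · have h1 : n ∈ Nat.divisors 630 := Nat.mem_divisors.2 ⟨h0, by norm_num⟩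
    have h2 : ∀ n ∈ Nat.divisors 630, 16 ∣ n + 15 * 2 → n = 2 ∨ n = 18 ∨ n = 210 := by
      decide +kernel
    rcases h2 n h1 h16 with h | h | h
    · (clear * - n a h; tauto)
    · (clear * - h; simp only [h, true_or, or_true])
    · subst h
      have : a = 3 := by omega
      (clear * - this; tauto)
  · left
    intro h
    have := h.trans h0
    omega
  · have h1 : n ∈ Nat.divisors 1260 := Nat.mem_divisors.2 ⟨h0, by norm_num⟩
    have h2 : ∀ n ∈ Nat.divisors 1260, 16 ∣ n + 15 * 4 → n = 4 ∨ n = 20 ∨ n = 36 ∨ n = 84 ∨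
        n = 180 ∨ n = 420 := by
      decide +kernel
    have h3 := h2 n h1 h16
    clear h1 h2 h0 hdc h16
    (clear * - h3; solve | lia | omega)

theorem isPGroup_T : IsPGroup 2 A.T := by
  have h := A.card_T
  have h2 : Nat.card A.T = 2 ^ 6 := by rw [h]; norm_num
  exact IsPGroup.of_card h2

theorem relIndex_mul_card' {G : Type*} [Group G] {X Y : Subgroup G} (h : X ≤ Y) :
    X.relIndex Y * Nat.card X = Nat.card Y := by
  rw [← Nat.card_congr (Subgroup.subgroupOfEquivOfLe h).toEquiv]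
  exact (X.subgroupOf Y).index_mul_card

theorem A1_ne : A.A1 ≠ ⊥ := by
  intro h
  have := Dat.card_A1 (A := A)
  rw [h, card_bot] at this
  omega

theorem A2_ne : A.A2 ≠ ⊥ := by
  intro h
  have h1 : A.x 0 2 1 ∈ A.A2 := Dat.Z_le_A2 ⟨1, rfl⟩
  rw [h, mem_bot] at h1
  exact s_ne A h1

include A in
/-- odd index -/
theorem odd_index {H : Subgroup L} (hH : FixLE 4 H) (hn : ¬ 2 ∣ H.index) : H = ⊤ := by
  haveI := A.finite
  haveI : Fact (Nat.Prime 2) := ⟨Nat.prime_two⟩
  obtain ⟨x, hx⟩ := (isPGroup_T A).nonempty_fixed_point_of_prime_not_dvd_card (α := L ⧸ H) hn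
  obtain ⟨a, rfl⟩ := QuotientGroup.mk_surjective x
  rw [MulAction.mem_fixedPoints] at hx
  obtain ⟨H', hH'⟩ : ∃ H' : Subgroup L, H' = H.map (MulAut.conj a).toMonoidHom := ⟨_, rfl⟩
  have hT : A.T ≤ H' := by
    intro t ht
    rw [hH', mem_map_conj]
    exact (mk_mem_fixedBy (H := H) t a).1 (hx ⟨t, ht⟩)
  have hF : FixLE 4 H' := hH' ▸ hH.conj a
  have h1 : A.P1 ≤ H' := hF.perfect_le (le_refl 4) (Dat.A1_le_T.trans hT) (A1_ne A)
    Dat.P1_le_normalizer Dat.P1_perfect
  have h2 : A.P2 ≤ H' := hF.perfect_le (le_refl 4) (Dat.A2_le_T.trans hT) (A2_ne A)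
    Dat.P2_le_normalizer Dat.P2_perfect
  have h3 : H' = ⊤ := by
    rw [eq_top_iff, ← Dat.P1_sup_P2 (A := A)]
    exact sup_le h1 h2
  rw [eq_top_iff]
  intro y _
  have h4 : a * y * a⁻¹ ∈ H' := h3 ▸ mem_top _
  rw [hH', mem_map_conj] at h4
  have h5 : a⁻¹ * (a * y * a⁻¹) * a = y := by group
  rwa [h5] at h4

include A in
/-- the case `|H| = 96` with 3 involutions -/
theorem case96 {H : Subgroup L} (h96 : Nat.card H = 96)
    (h3 : {t : L | t ∈ H ∧ orderOf t = 2}.ncard = 3) : False := by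
  haveI := A.finite
  haveI : Fact (Nat.Prime 2) := ⟨Nat.prime_two⟩
  obtain ⟨Q⟩ : Nonempty (Sylow 2 H) := inferInstance
  have hQ : Nat.card (Q : Subgroup H) = 32 := by
    have := sylow_card Q (a := 5) (b := 3) (by rw [h96]; norm_num) (by norm_num)
    rw [this]; norm_num
  obtain ⟨X, hX⟩ : ∃ X : Subgroup L, X = (Q : Subgroup H).map H.subtype := ⟨_, rfl⟩
  have hXc : Nat.card X = 32 := by
    rw [hX, Subgroup.card_map_of_injective H.subtype_injective, hQ]
  have hXp : IsPGroup 2 X := IsPGroup.of_card (n := 5) (by rw [hXc]; norm_num)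
  have hXH : X ≤ H := by rw [hX]; exact Subgroup.map_subtype_le _
  obtain ⟨S, hS⟩ := hXp.exists_le_sylow
  have hTi : ¬ 2 ∣ A.T.index := A.T_index
  obtain ⟨g, hg⟩ := MulAction.exists_smul_eq L S ((isPGroup_T A).toSylow hTi)
  have hgT : ∀ y ∈ X, g * y * g⁻¹ ∈ A.T := by
    intro y hy
    have h1 : g * y * g⁻¹ ∈ ((g • S : Sylow 2 L) : Subgroup L) := by
      rw [Sylow.coe_subgroup_smul]
      exact ⟨y, hS hy, rfl⟩
    rw [hg, IsPGroup.toSylow_coe] at h1
    exact h1
  obtain ⟨Y, hY⟩ : ∃ Y : Subgroup L, Y = X.map (MulAut.conj g).toMonoidHom := ⟨_, rfl⟩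
  have hYc : Nat.card Y = 32 := by
    rw [hY, Subgroup.card_map_of_injective (MulAut.conj g).injective, hXc]
  have hYT : Y ≤ A.T := by
    rw [hY]
    rintro _ ⟨y, hy, rfl⟩
    exact hgT y hy
  have r1 : Y.relIndex A.T = 2 := by
    have h := relIndex_mul_card' hYT
    rw [hYc, A.card_T] at h
    omega
  have r2 : A.A1.relIndex A.T = 4 := by
    have h := relIndex_mul_card' (Dat.A1_le_T (A := A))
    rw [Dat.card_A1, A.card_T] at h
    omega
  have r3 : (Y ⊓ A.A1).relIndex A.T ≤ 8 := by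
    refine (relIndex_inf_le (H := Y) (K := A.A1) (L := A.T)).trans ?_
    rw [r1, r2]
  have r4 : 8 ≤ Nat.card (Y ⊓ A.A1 : Subgroup L) := by
    have h := relIndex_mul_card' ((inf_le_left (a := Y) (b := A.A1)).trans hYT)
    rw [A.card_T] at h
    by_contra hlt
    push Not at hlt
    have : (Y ⊓ A.A1).relIndex A.T * Nat.card (Y ⊓ A.A1 : Subgroup L) ≤ 8 * 7 :=
      Nat.mul_le_mul r3 (by omega)
    omega
  -- the involutions
  have h5 : ((fun y => g⁻¹ * y * g) '' ((↑(Y ⊓ A.A1) : Set L) \ {1})) ⊆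
      {t : L | t ∈ H ∧ orderOf t = 2} := by
    rintro _ ⟨y, ⟨hy, hy1⟩, rfl⟩
    have hy' : y ∈ Y ∧ y ∈ A.A1 := hy
    refine ⟨?_, ?_⟩
    · have h6 := hy'.1
      rw [hY, mem_map_conj] at h6
      exact hXH h6
    · rw [← A1_order A hy'.2 hy1]
      have := (MulAut.conj g⁻¹).orderOf_eq y
      simpa only [_root_.map_inv, _root_.MulAut.inv_apply, _root_.MulAut.conj_symm_apply] using this
  have h6 := Set.ncard_le_ncard h5 (Set.toFinite _)
  rw [h3, Set.ncard_image_of_injective _ (fun a b hab => mul_left_cancel (mul_right_cancel hab)),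
    Set.ncard_sdiff_singleton_of_mem (one_mem _)] at h6
  have h7 : (↑(Y ⊓ A.A1) : Set L).ncard = Nat.card (Y ⊓ A.A1 : Subgroup L) := rfl
  omega

include A in
/-- **the theorem for a group with coordinates** -/
theorem main (ho : Ord L) {H : Subgroup L} (hH : FixLE 4 H) (h2 : 2 ∣ Nat.card H) : H = ⊤ := by
  haveI := A.finite
  haveI : Fact (Nat.Prime 2) := ⟨Nat.prime_two⟩
  obtain ⟨f, hfdef⟩ : ∃ f, f = (MulAction.fixedBy (L ⧸ H) (A.x 0 2 1)).ncard := ⟨_, rfl⟩
  have hf : ∀ t : L, orderOf t = 2 → (MulAction.fixedBy (L ⧸ H) t).ncard = f := by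
    intro t ht
    obtain ⟨g, rfl⟩ := (invol_iff A t).1 ht
    rw [ncard_fixedBy_conj, hfdef]
  have hf4 : f ≤ 4 := hfdef ▸ hH _ (s_ne A)
  have hf1 : 1 ≤ f := by
    obtain ⟨t, ht⟩ := exists_prime_orderOf_dvd_card' (G := H) 2 h2
    have ht2 : orderOf (t : L) = 2 := by rw [Subgroup.orderOf_coe]; exact ht
    rw [← hf _ ht2, Nat.one_le_iff_ne_zero, Ne, Set.ncard_eq_zero (Set.toFinite _)]
    intro h
    have h1 := (mk_mem_fixedBy (H := H) (t : L) 1).2 (by simp)
    rw [h] at h1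
    exact h1
  have h16 : 16 ∣ H.index + 15 * f := by
    have := burnside_const H A.A1 f (fun t ht ht1 => hf t (A1_order A ht ht1))
    rwa [Dat.card_A1] at this
  obtain ⟨a, ha⟩ : ∃ a, a = {t : L | t ∈ H ∧ orderOf t = 2}.ncard := ⟨_, rfl⟩
  have hdc : 315 * f = H.index * a := by
    rw [ha, ← double_count H f hf, card_inv A]
  have hidx : H.index * Nat.card H = 20160 := by rw [H.index_mul_card, A.card]
  rcases num H.index f a hf1 hf4 h16 hdc with h | h
  · exact odd_index A hH h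
  · exfalso
    rcases h with h | h | h | h | h | h | h | ⟨h, h'⟩ | h
    · have hc : Nat.card H = 10080 := by rw [h] at hidx; omega
      obtain ⟨m, c, hm, h8, h9⟩ := ho.seven A.card H (by rw [hc]; norm_num)
      rw [hc] at h9
      rcases hm with rfl | rfl <;> omega
    · have hc : Nat.card H = 5040 := by rw [h] at hidx; omega
      obtain ⟨m, c, hm, h8, h9⟩ := ho.seven A.card H (by rw [hc]; norm_num)
      rw [hc] at h9
      rcases hm with rfl | rfl <;> omega
    · have hc : Nat.card H = 1120 := by rw [h] at hidx; omega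
      obtain ⟨m, c, hm, h8, h9⟩ := ho.seven A.card H (by rw [hc]; norm_num)
      rw [hc] at h9
      rcases hm with rfl | rfl <;> omega
    · have hc : Nat.card H = 1008 := by rw [h] at hidx; omega
      obtain ⟨m, c, hm, h8, h9⟩ := ho.seven A.card H (by rw [hc]; norm_num)
      rw [hc] at h9
      rcases hm with rfl | rfl <;> omega
    · have hc : Nat.card H = 560 := by rw [h] at hidx; omega
      obtain ⟨m, c, hm, h8, h9⟩ := ho.seven A.card H (by rw [hc]; norm_num)
      rw [hc] at h9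
      rcases hm with rfl | rfl <;> omega
    · have hc : Nat.card H = 112 := by rw [h] at hidx; omega
      obtain ⟨m, c, hm, h8, h9⟩ := ho.seven A.card H (by rw [hc]; norm_num)
      rw [hc] at h9
      rcases hm with rfl | rfl <;> omega
    · have hc : Nat.card H = 240 := by rw [h] at hidx; omega
      obtain ⟨m, c, hm, h8, h9⟩ := ho.five A.card H (by rw [hc]; norm_num)
      rw [hc] at h9
      have hm4 : m ≤ 4 := Nat.le_of_dvd (by norm_num) hm
      interval_cases m <;> (clear * - hm h8 h9; omega)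
    · have hc : Nat.card H = 96 := by rw [h] at hidx; omega
      exact case96 A hc (by rw [← ha, h'])
    · have hc : Nat.card H = 48 := by rw [h] at hidx; omega
      exact ho.case48 A.card hH hc

end dat

/-- element orders of `PSL(3, 4)` -/
theorem ord_psl {F : Type*} [Field F] [Fintype F] (hF : Fintype.card F = 4) :
    Ord (Matrix.ProjectiveSpecialLinearGroup (Fin 3) F) := by
  haveI : CharP F 2 := by
    obtain ⟨p, hp⟩ := CharP.exists F
    obtain ⟨n, hpp, hn⟩ := FiniteField.card F p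
    have h1 : p ∣ 2 ^ 2 := by
      rw [show 2 ^ 2 = 4 by norm_num, ← hF, hn]
      exact dvd_pow_self p n.ne_zero
    have h2 := (Nat.prime_dvd_prime_iff_eq hpp Nat.prime_two).1 (hpp.dvd_of_dvd_pow h1)
    rwa [h2] at hp
  haveI : Fact (Nat.Prime 2) := ⟨Nat.prime_two⟩
  intro g
  have h1 := Cfsg.Agent.S2476.result (F := F) 2
  have h2 : orderOf g ∈ Set.range (orderOf : Matrix.ProjectiveSpecialLinearGroup (Fin 3) F → ℕ) :=
    ⟨g, rfl⟩
  rw [h1, Set.mem_ofPred_eq, hF] at h2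
  obtain ⟨m, hm⟩ : ∃ m, m = orderOf g := ⟨_, rfl⟩
  rw [← hm] at h2 ⊢
  norm_num at h2
  rcases h2 with h | h | h | h | h
  · have := Nat.le_of_dvd (by norm_num) h
    interval_cases m <;> revert h <;> decide
  · have := Nat.le_of_dvd (by norm_num) h
    interval_cases m <;> revert h <;> decide
  · have := Nat.le_of_dvd (by norm_num) h
    interval_cases m <;> revert h <;> decide
  · have := Nat.le_of_dvd (by norm_num) h
    interval_cases m <;> revert h <;> decide
  · have := Nat.le_of_dvd (by norm_num) h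
    interval_cases m <;> revert h <;> decide

/-- the corresponding theorem with conclusion `H = ⊤` -/
theorem eq_top {F : Type*} [Field F] [Fintype F] (h : Fintype.card F = 4)
    {H : Subgroup (Matrix.ProjectiveSpecialLinearGroup (Fin 3) F)} (hH : FixLE 4 H)
    (h2 : 2 ∣ Nat.card H) : H = ⊤ := by
  obtain ⟨A⟩ := Cfsg.Agent.LThreeFour.exists_dat h (MulEquiv.refl _)
  exact main A (ord_psl h) hH h2

end Cfsg.Agent.H949.FxL34
end

private theorem dce_13b73258cbe3 : _root_.True := by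
  try have : _root_.True := by simp only [_root_.Cfsg.Agent.H583.FxThree.Nm.eq_1]
  try have : _root_.True := by simp only [_root_.Cfsg.Agent.H583.FxThree.Zm.eq_1]
  try have : _root_.True := by simp only [_root_.Cfsg.Agent.H583.FxThree.Xs.eq_1]
  try have : _root_.True := by simp only [_root_.Cfsg.Agent.H583.FxThree.Xm.eq_1]
  try have : _root_.True := by simp only [_root_.Cfsg.Agent.H583.FxHeis.P.eq_1]
  try have : _root_.True := by simp only [_root_.Cfsg.Agent.H583.FxThree.uM.eq_1]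
  try have : _root_.True := by simp only [_root_.Cfsg.Agent.H583.FxThree.Mm.eq_1]
  try have : _root_.True := by simp only [_root_.Cfsg.Agent.H583.FxThree.gM.eq_1]
  exact _root_.True.intro
end

-- part: H808/GTwo/NoEv
section
prune_inst 0xe5207464410000000000059231003c66de0005b200688001c8400a4006c8ef6209822120b490111012ccae0540390060011000d0422000000a000400011d018000a81206b148a000200016800084000000000000000000000000000000010004000000000
set_option linter.all false
open scoped Cfsg.Agent.FastGrp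

-- part: H808/GTwo/Base
section
/-!
# Root elements of `D.group K` (helper808)

* `xx hp K r t : ↥(D.group K)` : the root elements; `hh hp K i c` : `h_{p_i}(c)`;
* `xx_add`, `xx_inv`, `xx_comm`, `xx_comm_of_coeff`, `hh_conj`, `top_le_of_xx`;
* `perfect_range` : the range of a homomorphism of `SL(2,K)`, `|K| > 3`, is perfect.
-/

set_option autoImplicit false
set_option linter.unusedSectionVars false

namespace Cfsg.Agent.H808.GTwo

open Cfsg.Agent.ChevalleyStructure
open Cfsg Cfsg.Lie Cfsg.Lie.ChevalleyDatum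
open Cfsg.Agent.ChevalleyStructure.Elts Cfsg.Agent.ChevalleyStructure.NPerm
open Cfsg.Agent.Nodes.RGDChev
open Cfsg.Agent.OddHalf.LongSL Cfsg.Agent.OddHalf.LongSL.Chev
open Cfsg.Agent.H808.D4
open scoped commutatorElement

/-- the range of a homomorphism of `SL(2,K)`, `|K| > 3`, is perfect -/
theorem perfect_range {Y : Type*} [Group Y] {K : Type*} [Field K] [Fintype K] (h : 3 < Fintype.card K)
    (φ : Matrix.SpecialLinearGroup (Fin 2) K →* Y) : ⁅φ.range, φ.range⁆ = φ.range := by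
  have h1 := TwoFusion.SLTwoFacts.commutator_eq_top (F := K) h
  rw [MonoidHom.range_eq_map, ← Subgroup.map_commutator, ← _root_.commutator_def, h1]

variable {D : ChevalleyDatum} {l : ℕ} {M : CoxeterMatrix (Fin l)} (hp : IsType D l M) (K : Type) [Field K]

/-- the root elements -/
noncomputable def xx (r : ℕ) (t : K) : ↥(D.group K) := ⟨xG hp.inList r t, xG_mem_group hp.inList r t⟩

/-- the elements `h_{p_i}(c)` -/
noncomputable def hh (i : Fin l) (c : K) : ↥(D.group K) :=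
  ⟨hG hp.inList (D.simple i) c, hG_mem_group hp.inList _ c⟩

theorem xx_add (r : ℕ) (t u : K) : xx hp K r t * xx hp K r u = xx hp K r (t + u) :=
  Subtype.ext (xG_add hp.inList r t u)

theorem xx_zero (r : ℕ) : xx hp K r 0 = 1 := Subtype.ext (xG_zero hp.inList r)

theorem xx_inv (r : ℕ) (t : K) : (xx hp K r t)⁻¹ = xx hp K r (-t) := Subtype.ext (xG_inv hp.inList r t)

theorem xx_injective {r : ℕ} (hr : r < D.nroots) : Function.Injective (xx hp K r) := fun _ _ h =>
  xG_injective hp.inList hr (congrArg Subtype.val h)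

theorem xx_ne_one {r : ℕ} (hr : r < D.nroots) {t : K} (ht : t ≠ 0) : xx hp K r t ≠ 1 := by
  rw [← xx_zero hp K r]
  exact fun h => ht (xx_injective hp K hr h)

theorem xx_comm {r s : ℕ} (hr : r < D.nroots) (hs : s < D.nroots) (hrs : s ≠ r) (hneg : s ≠ D.neg r)
    (hnil : D.commTerms r s = []) (t u : K) : xx hp K s u * xx hp K r t = xx hp K r t * xx hp K s u :=
  Subtype.ext (commute_xG hp K hr hs hrs hneg hnil t u)

theorem wordG_eq_one (w : List (ℕ × K)) (h : ∀ p ∈ w, p.2 = 0) : wordG hp.inList w = 1 := by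
  induction w with
  | nil => rfl
  | cons p w ih =>
    rw [wordG_cons, h p List.mem_cons_self, xG_zero, ih fun q hq => h q (List.mem_cons_of_mem _ hq), one_mul]

/-- the commutator of root elements -/
theorem xx_commutator {r s : ℕ} (hr : r < D.nroots) (hs : s < D.nroots) (hrs : s ≠ r) (hneg : s ≠ D.neg r) (t u : K) :
    ((⁅xx hp K s u, xx hp K r t⁆ : ↥(D.group K)) : GL D.Idx K) = wordG hp.inList (D.commWord K r s (-t) (-u)) := by
  rw [← comm_xG hp hr hs hrs hneg, xG_inv, xG_inv, _root_.neg_neg, _root_.neg_neg]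
  rfl

/-- root elements commute if all coefficients of the commutator formula vanish -/
theorem xx_comm_of_coeff {r s : ℕ} (hr : r < D.nroots) (hs : s < D.nroots) (hrs : s ≠ r) (hneg : s ≠ D.neg r)
    (hc : ∀ v ∈ D.commTerms r s, ((v.2.1 : ℤ) : K) = 0) (t u : K) :
    xx hp K s u * xx hp K r t = xx hp K r t * xx hp K s u := by
  have h1 : (⁅xx hp K s u, xx hp K r t⁆ : ↥(D.group K)) = 1 := by
    apply Subtype.ext
    rw [xx_commutator hp K hr hs hrs hneg]
    refine wordG_eq_one hp K _ ?_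
    intro p hp'
    have hp'' : p ∈ (D.commTerms r s).map fun c => (c.1, (c.2.1 : K) * (- -t) ^ c.2.2.1 * (-u) ^ c.2.2.2) := hp'
    obtain ⟨v, hv, rfl⟩ := List.mem_map.1 hp''
    show (v.2.1 : K) * (- -t) ^ v.2.2.1 * (-u) ^ v.2.2.2 = 0
    rw [hc v hv, zero_mul, zero_mul]
  exact commutatorElement_eq_one_iff_mul_comm.1 h1

theorem hh_conj (i : Fin l) {s : ℕ} (hs : s < D.nroots) {c : K} (hc : c ≠ 0) (t : K) :
    hh hp K i c * xx hp K s t * (hh hp K i c)⁻¹ = xx hp K s (c ^ (D.cartan i s) * t) :=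
  Subtype.ext (conj_hG hp K i hs c hc t)

/-- a subgroup containing all root elements is the whole group -/
theorem top_le_of_xx (H : Subgroup ↥(D.group K)) (h : ∀ r < D.nroots, ∀ t, xx hp K r t ∈ H) : H = ⊤ := by
  rw [eq_top_iff]
  intro g _
  have h1 : D.group K ≤ H.map (D.group K).subtype := by
    unfold ChevalleyDatum.group
    rw [Subgroup.closure_le]
    rintro x ⟨r, t, hx⟩
    have h2 : x = xG hp.inList r t := by
      rw [eq_xG_iff, hx, x_of_lt r.2 t]
    rw [h2]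
    exact ⟨xx hp K r t, h r r.2 t, rfl⟩
  obtain ⟨y, hy, hyg⟩ := h1 g.2
  have : y = g := Subtype.ext hyg
  rwa [← this]

/-- `h_{p_i}(c)` lies in every subgroup containing the root elements of `± p_i` -/
theorem hh_mem {H : Subgroup ↥(D.group K)} (i : Fin l) (h : ∀ t, xx hp K (D.simple i) t ∈ H)
    (h' : ∀ t, xx hp K (D.neg (D.simple i)) t ∈ H) (c : K) : hh hp K i c ∈ H := by
  have hn : ∀ c : K, (⟨nG hp.inList (D.simple i) c, nG_mem_group hp.inList _ c⟩ : ↥(D.group K)) ∈ H := by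
    intro c
    have e : (⟨nG hp.inList (D.simple i) c, nG_mem_group hp.inList _ c⟩ : ↥(D.group K)) =
        xx hp K (D.simple i) c * (xx hp K (D.neg (D.simple i)) (-c⁻¹) * xx hp K (D.simple i) c) :=
      Subtype.ext (nG_def hp.inList (D.simple i) c)
    rw [e]
    exact mul_mem (h _) (mul_mem (h' _) (h _))
  have e : hh hp K i c = (⟨nG hp.inList (D.simple i) c, nG_mem_group hp.inList _ c⟩ : ↥(D.group K)) *
      ⟨nG hp.inList (D.simple i) (-1), nG_mem_group hp.inList _ (-1)⟩ := Subtype.ext (hG_def hp.inList (D.simple i) c)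
  rw [e]
  exact mul_mem (hn _) (hn _)

end Cfsg.Agent.H808.GTwo
end

-- part: H808/GTwo/NoEv
section
/-!
# `NoEv` for `G₂(q)`, `q ≥ 5` odd (helper808, task 2046 of helper254)
-/

set_option autoImplicit false
set_option linter.unusedSectionVars false

namespace Cfsg.Agent.H808.GTwo

open Cfsg.Agent.ChevalleyStructure
open Cfsg Cfsg.Lie Cfsg.Lie.ChevalleyDatum
open Cfsg.Agent.ChevalleyStructure.Elts Cfsg.Agent.ChevalleyStructure.NPerm
open Cfsg.Agent.Nodes.RGDChev
open Cfsg.Agent.OddHalf.LongSL Cfsg.Agent.OddHalf.LongSL.Chev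
open Cfsg.Agent.H808.D4 Cfsg.Agent.H254.Ev
open scoped commutatorElement

theorem hG2 : IsType chevG2 2 CoxeterMatrix.G₂ := by simp [IsType, typeList]

theorem nroots_G2 : chevG2.nroots = 12 := rfl

theorem simple0 : chevG2.simple ((0 : Fin 2) : ℕ) = 7 := by decide +kernel
theorem simple1 : chevG2.simple ((1 : Fin 2) : ℕ) = 6 := by decide +kernel
theorem neg7 : chevG2.neg 7 = 4 := by decide +kernel

/-- an element with `c ^ 3 ≠ 1` -/
theorem exists_cube_ne {F : Type*} [Field F] [Fintype F] (h : 5 ≤ Fintype.card F) : ∃ c : F, c ≠ 0 ∧ c ^ 3 ≠ 1 := by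
  classical
  by_contra hcon
  push Not at hcon
  have h1 : (Finset.univ : Finset F) ⊆ insert 0 (Polynomial.nthRoots 3 (1 : F)).toFinset := by
    intro c _
    rw [Finset.mem_insert]
    by_cases hc : c = 0
    · exact Or.inl hc
    · right
      rw [Multiset.mem_toFinset, Polynomial.mem_nthRoots (by norm_num)]
      exact hcon c hc
  have h2 := Finset.card_le_card h1
  rw [Finset.card_univ] at h2
  have h3 : (insert 0 (Polynomial.nthRoots 3 (1 : F)).toFinset).card ≤ (Polynomial.nthRoots 3 (1 : F)).toFinset.card + 1 :=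
    Finset.card_insert_le _ _
  have h4 : (Polynomial.nthRoots 3 (1 : F)).toFinset.card ≤ Multiset.card (Polynomial.nthRoots 3 (1 : F)) :=
    Multiset.toFinset_card_le _
  have h5 := Polynomial.card_nthRoots 3 (1 : F)
  omega

section

variable (F : Type) [Field F] [Fintype F]

/-- the group generated by the root groups of `± α` and of the roots of `S` -/
def YY (S : List ℕ) : Subgroup ↥(chevG2.group F) :=
  Subgroup.closure {y | ∃ r ∈ (7 :: 4 :: S), ∃ t : F, y = xx hG2 F r t}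

variable {F}

theorem xx_mem_YY {S : List ℕ} {r : ℕ} (hr : r ∈ (7 :: 4 :: S)) (t : F) : xx hG2 F r t ∈ YY F S :=
  Subgroup.subset_closure ⟨r, hr, t, rfl⟩

/-- the `SL₂` of the root `r` -/
noncomputable def ph (F : Type) [Field F] (r : ℕ) (hr : r < chevG2.nroots) :
    Matrix.SpecialLinearGroup (Fin 2) F →* ↥(chevG2.group F) :=
  (Phi hG2 F r hr).codRestrict (chevG2.group F) (Phi_mem hG2 F r hr)

theorem ph_up (r : ℕ) (hr : r < chevG2.nroots) (t : F) : ph F r hr (SL2Hom.up t) = xx hG2 F r t :=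
  Subtype.ext (Phi_up hG2 F r hr t)

theorem ph_lo (r : ℕ) (hr : r < chevG2.nroots) (t : F) : ph F r hr (SL2Hom.lo t) = xx hG2 F (chevG2.neg r) t :=
  Subtype.ext (Phi_lo hG2 F r hr t)

theorem ph_le {r : ℕ} (hr : r < chevG2.nroots) {H : Subgroup ↥(chevG2.group F)} (h1 : ∀ t, xx hG2 F r t ∈ H)
    (h2 : ∀ t, xx hG2 F (chevG2.neg r) t ∈ H) : (ph F r hr).range ≤ H := by
  rintro _ ⟨s, rfl⟩
  have h3 : s ∈ H.comap (ph F r hr) := by
    refine (Subgroup.closure_le _).2 ?_ (SL2Hom.mem_closure_SL2 s)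
    rintro x (⟨t, rfl⟩ | ⟨t, rfl⟩)
    · show ph F r hr _ ∈ H
      rw [ph_up]
      exact h1 t
    · show ph F r hr _ ∈ H
      rw [ph_lo]
      exact h2 t
  exact h3

theorem YY_perfect (hF : 5 ≤ Fintype.card F) {S : List ℕ}
    (hS : ∀ s ∈ S, s < chevG2.nroots ∧ (chevG2.cartan ((0 : Fin 2) : ℕ) s = 1 ∨ chevG2.cartan ((0 : Fin 2) : ℕ) s = -1 ∨
      chevG2.cartan ((0 : Fin 2) : ℕ) s = 3 ∨ chevG2.cartan ((0 : Fin 2) : ℕ) s = -3)) : ⁅YY F S, YY F S⁆ = YY F S := by
  apply le_antisymm (Subgroup.commutator_le_self _)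
  have h7 : 7 < chevG2.nroots := by rw [nroots_G2]; norm_num
  have hJ : (ph F 7 h7).range ≤ YY F S :=
    ph_le h7 (fun t => xx_mem_YY (by simp) t) (fun t => by rw [neg7]; exact xx_mem_YY (by simp) t)
  have hJ' : (ph F 7 h7).range ≤ ⁅YY F S, YY F S⁆ := by
    rw [← perfect_range (by omega) (ph F 7 h7)]
    exact Subgroup.commutator_mono hJ hJ
  obtain ⟨c, hc0, hc3⟩ := exists_cube_ne hF
  have hh0 : hh hG2 F 0 c ∈ YY F S := hh_mem hG2 F 0 (fun t => by rw [simple0]; exact xx_mem_YY (by simp) t)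
    (fun t => by rw [simple0, neg7]; exact xx_mem_YY (by simp) t) c
  unfold YY
  rw [Subgroup.closure_le]
  rintro _ ⟨r, hr, t, rfl⟩
  change xx hG2 F r t ∈ ⁅YY F S, YY F S⁆
  rw [List.mem_cons, List.mem_cons] at hr
  rcases hr with rfl | rfl | hr
  · exact hJ' ⟨SL2Hom.up t, ph_up 7 h7 t⟩
  · refine hJ' ⟨SL2Hom.lo t, ?_⟩
    rw [ph_lo, neg7]
  · obtain ⟨hr', hcar⟩ := hS r hr
    have hne : c ^ chevG2.cartan ((0 : Fin 2) : ℕ) r ≠ 1 := by
      rcases hcar with h | h | h | h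
      · rw [h, zpow_one]
        rintro rfl
        exact hc3 (one_pow 3)
      · rw [h, zpow_neg, zpow_one]
        intro h1
        rw [inv_eq_one] at h1
        rw [h1] at hc3
        exact hc3 (one_pow 3)
      · rw [h]
        exact_mod_cast hc3
      · rw [h, zpow_neg]
        intro h1
        rw [inv_eq_one] at h1
        exact hc3 (by exact_mod_cast h1)
    have hd : c ^ chevG2.cartan ((0 : Fin 2) : ℕ) r - 1 ≠ 0 := sub_ne_zero.2 hne
    have e : xx hG2 F r t = ⁅hh hG2 F 0 c, xx hG2 F r (t / (c ^ chevG2.cartan ((0 : Fin 2) : ℕ) r - 1))⁆ := by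
      rw [commutatorElement_def, hh_conj hG2 F 0 hr' hc0, xx_inv, xx_add]
      congr 1
      field_simp
      ring
    rw [e]
    exact Subgroup.commutator_mem_commutator hh0 (xx_mem_YY (by simp [hr]) _)

/-- the involution -/
noncomputable def zz (F : Type) [Field F] : ↥(chevG2.group F) := hh hG2 F 0 (-1)

theorem zz_sq : zz F * zz F = 1 := by
  have e : zz F = phi hG2 F 0 (-1) := Subtype.ext (phi_neg_one hG2 F 0).symm
  rw [e, ← map_mul, neg_one_mul, _root_.neg_neg, map_one]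

theorem zz_conj {s : ℕ} (hs : s < chevG2.nroots) (h : Even (chevG2.cartan ((0 : Fin 2) : ℕ) s)) (t : F) :
    zz F * xx hG2 F s t = xx hG2 F s t * zz F := by
  have h1 := hh_conj hG2 F 0 hs (neg_ne_zero.2 one_ne_zero) t
  rw [h.neg_one_zpow, one_mul] at h1
  exact mul_inv_eq_iff_eq_mul.1 h1

theorem zz_ne (h2 : (2 : F) ≠ 0) : zz F ≠ 1 := by
  intro h
  have h8 : 8 < chevG2.nroots := by rw [nroots_G2]; norm_num
  have h1 := hh_conj hG2 F 0 h8 (neg_ne_zero.2 (one_ne_zero (α := F))) 1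
  have h2' : hh hG2 F 0 (-1 : F) = 1 := h
  have h3 : chevG2.cartan ((0 : Fin 2) : ℕ) 8 = -1 := by decide +kernel
  rw [h2', h3, one_mul, inv_one, mul_one, zpow_neg, zpow_one, inv_neg, inv_one, mul_one] at h1
  have h4 := xx_injective hG2 F h8 h1
  apply h2
  linear_combination h4

theorem orderOf_zz (h2 : (2 : F) ≠ 0) : orderOf (zz F) = 2 := by
  rw [orderOf_eq_prime_iff, pow_two]
  exact ⟨zz_sq, zz_ne h2⟩

/-- the tables -/
theorem tabA : ∀ s ∈ ([7, 4, 6, 8, 9, 10] : List ℕ), s < chevG2.nroots ∧ s ≠ 11 ∧ s ≠ chevG2.neg 11 ∧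
    chevG2.commTerms 11 s = [] := by decide +kernel

theorem tabB : ∀ s ∈ ([7, 4, 1, 2, 3, 5] : List ℕ), s < chevG2.nroots ∧ s ≠ 0 ∧ s ≠ chevG2.neg 0 ∧
    chevG2.commTerms 0 s = [] := by decide +kernel

theorem tabC : ∀ s ∈ ([6, 8, 9, 10] : List ℕ), s < chevG2.nroots ∧ (chevG2.cartan ((0 : Fin 2) : ℕ) s = 1 ∨
    chevG2.cartan ((0 : Fin 2) : ℕ) s = -1 ∨ chevG2.cartan ((0 : Fin 2) : ℕ) s = 3 ∨
    chevG2.cartan ((0 : Fin 2) : ℕ) s = -3) := by decide +kernel

theorem tabD : ∀ s ∈ ([1, 2, 3, 5] : List ℕ), s < chevG2.nroots ∧ (chevG2.cartan ((0 : Fin 2) : ℕ) s = 1 ∨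
    chevG2.cartan ((0 : Fin 2) : ℕ) s = -1 ∨ chevG2.cartan ((0 : Fin 2) : ℕ) s = 3 ∨
    chevG2.cartan ((0 : Fin 2) : ℕ) s = -3) := by decide +kernel

theorem neg11 : chevG2.neg 11 = 0 := by decide +kernel

theorem even11 : Even (chevG2.cartan ((0 : Fin 2) : ℕ) 11) ∧ Even (chevG2.cartan ((0 : Fin 2) : ℕ) 0) := by
  decide +kernel

/-- a subgroup with the closure property for perfect subgroups containing `z` is the whole group -/
theorem top_of_perfect (hF : 5 ≤ Fintype.card F) (h2 : (2 : F) ≠ 0) (H : Subgroup ↥(chevG2.group F)) (hz : zz F ∈ H)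
    (hp : ∀ x ∈ H, x ≠ 1 → ∀ Y : Subgroup ↥(chevG2.group F), (∀ y ∈ Y, y * x = x * y) → ⁅Y, Y⁆ = Y → Y ≤ H) :
    H = ⊤ := by
  have h11 : 11 < chevG2.nroots := by rw [nroots_G2]; norm_num
  have h0 : 0 < chevG2.nroots := by rw [nroots_G2]; norm_num
  have hJ : (ph F 11 h11).range ≤ H := by
    refine hp _ hz (zz_ne h2) _ ?_ (perfect_range (by omega) _)
    intro y hy
    refine (commute_range (ph F 11 h11) (u := zz F) ?_ ?_ y hy).symm
    · intro t
      rw [ph_up]
      exact zz_conj h11 even11.1 t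
    · intro t
      rw [ph_lo, neg11]
      exact zz_conj h0 even11.2 t
  have hA : ∀ t, xx hG2 F 11 t ∈ H := fun t => hJ ⟨SL2Hom.up t, ph_up 11 h11 t⟩
  have hB : ∀ t, xx hG2 F 0 t ∈ H := fun t => hJ ⟨SL2Hom.lo t, by rw [ph_lo, neg11]⟩
  have hYA : YY F [6, 8, 9, 10] ≤ H := by
    refine hp _ (hA 1) (xx_ne_one hG2 F h11 one_ne_zero) _ ?_ (YY_perfect hF tabC)
    intro y hy
    have h1 : YY F [6, 8, 9, 10] ≤ Subgroup.centralizer {xx hG2 F 11 1} := by
      unfold YY
      rw [Subgroup.closure_le]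
      rintro _ ⟨r, hr, t, rfl⟩
      obtain ⟨e1, e2, e3, e4⟩ := tabA r hr
      exact Subgroup.mem_centralizer_singleton_iff.2 (xx_comm hG2 F h11 e1 e2 e3 e4 1 t)
    exact Subgroup.mem_centralizer_singleton_iff.1 (h1 hy)
  have hYB : YY F [1, 2, 3, 5] ≤ H := by
    refine hp _ (hB 1) (xx_ne_one hG2 F h0 one_ne_zero) _ ?_ (YY_perfect hF tabD)
    intro y hy
    have h1 : YY F [1, 2, 3, 5] ≤ Subgroup.centralizer {xx hG2 F 0 1} := by
      unfold YY
      rw [Subgroup.closure_le]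
      rintro _ ⟨r, hr, t, rfl⟩
      obtain ⟨e1, e2, e3, e4⟩ := tabB r hr
      exact Subgroup.mem_centralizer_singleton_iff.2 (xx_comm hG2 F h0 e1 e2 e3 e4 1 t)
    exact Subgroup.mem_centralizer_singleton_iff.1 (h1 hy)
  refine top_le_of_xx hG2 F H ?_
  intro r hr t
  rw [nroots_G2] at hr
  interval_cases r
  · exact hB t
  · exact hYB (xx_mem_YY (by simp) t)
  · exact hYB (xx_mem_YY (by simp) t)
  · exact hYB (xx_mem_YY (by simp) t)
  · exact hYB (xx_mem_YY (by simp) t)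
  · exact hYB (xx_mem_YY (by simp) t)
  · exact hYA (xx_mem_YY (by simp) t)
  · exact hYA (xx_mem_YY (by simp) t)
  · exact hYA (xx_mem_YY (by simp) t)
  · exact hYA (xx_mem_YY (by simp) t)
  · exact hYA (xx_mem_YY (by simp) t)
  · exact hA t

theorem finite_G2 : Finite ↥(chevG2.group F) := by
  classical
  have : Finite (GL chevG2.Idx F) := inferInstance
  exact Subtype.finite

/-- `FixLE k H` with an involution in `H`: `H = ⊤` (`k ≤ 4`) -/
theorem eq_top_of_fixLE (hF : 5 ≤ Fintype.card F) (ho : Odd (Fintype.card F)) {k : ℕ} (hk : k ≤ 4)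
    {H : Subgroup ↥(chevG2.group F)} (hH : FixLE k H) {t : ↥(chevG2.group F)} (ht : t ∈ H) (ht2 : orderOf t = 2) :
    H = ⊤ := by
  have hfin : Finite ↥(chevG2.group F) := finite_G2
  have h2 : (2 : F) ≠ 0 := two_ne_of_odd ho
  obtain ⟨c, hc⟩ := isConj_iff.1 (S4278.result ho t (zz F) ht2 (orderOf_zz h2))
  have hH' := hH.conj c
  have hz : zz F ∈ H.map (MulAut.conj c).toMonoidHom := ⟨t, ht, hc⟩
  have h1 := top_of_perfect hF h2 _ hz (fun x hx hx1 Y hY hp => hH'.perfect_le' hk hx hx1 hY hp)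
  rw [eq_top_iff]
  intro y _
  have h3 : c * y * c⁻¹ ∈ H.map (MulAut.conj c).toMonoidHom := by rw [h1]; trivial
  obtain ⟨w, hw, hwy⟩ := h3
  have hwy' : c * w * c⁻¹ = c * y * c⁻¹ := hwy
  rwa [← mul_left_cancel (mul_right_cancel hwy')]

end

/-- **`G₂(q)`, `q ≥ 5` odd.** -/
theorem noEv_g2 (F : Type) [Field F] [Fintype F] (h5 : 5 ≤ Fintype.card F) (ho : Odd (Fintype.card F)) :
    NoEv ↥(Cfsg.Lie.chevG2.group F) := by
  rintro H hH ⟨t, ht2, ht4⟩
  have hfin : Finite ↥(chevG2.group F) := finite_G2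
  have hH1 : H ≠ ⊤ := ne_top_of_exact (by norm_num) ht4
  obtain ⟨a, ha, -⟩ := exists_conj_exact (by norm_num) ht4
  refine hH1 (eq_top_of_fixLE h5 ho le_rfl hH ha ?_)
  rw [← ht2]
  have := (MulAut.conj a⁻¹).orderOf_eq t
  simpa using this

end Cfsg.Agent.H808.GTwo
end
end

-- part: H808/GTwo/Three_mg
section
prune_inst 0xc5004020010000000000058231001802820004b0000000000020000000808c2009822000200000001200000100310060010000800200000000000000000501000000000001400000000010000000000000000000000000000000000000000000000000000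
set_option linter.all false
open scoped Cfsg.Agent.FastGrp

-- part: H808/GTwo/Three
section
/-!
# `NoEv` for `G₂(3)` (helper808, task 2047 of helper254)
-/

set_option autoImplicit false
set_option linter.unusedSectionVars false

namespace Cfsg.Agent.H808.GTwo

open Cfsg.Agent.ChevalleyStructure
open Cfsg Cfsg.Lie Cfsg.Lie.ChevalleyDatum
open Cfsg.Agent.ChevalleyStructure.Elts Cfsg.Agent.ChevalleyStructure.NPerm
open Cfsg.Agent.Nodes.RGDChev
open Cfsg.Agent.OddHalf.LongSL Cfsg.Agent.OddHalf.LongSL.Chev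
open Cfsg.Agent.H808.D4 Cfsg.Agent.H254.Ev
open scoped commutatorElement

theorem perm_comb : ∀ a b : Equiv.Perm (Fin 4), a ^ 3 = 1 → b ^ 3 = 1 → a * b = b * a →
    a = 1 ∨ b = 1 ∨ a * b = 1 ∨ a * b * b = 1 := by decide +kernel

theorem perm_comm {a b c : Equiv.Perm (Fin 4)} (ha : a ^ 3 = 1) (hb : b ^ 3 = 1) (hc : c ^ 3 = 1) (ha1 : a ≠ 1)
    (hab : a * b = b * a) (hac : a * c = c * a) : b * c = c * b := by
  have key : ∀ b : Equiv.Perm (Fin 4), b ^ 3 = 1 → a * b = b * a → b ∈ Subgroup.zpowers a := by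
    intro b hb hab
    rcases perm_comb a b ha hb hab with h | h | h | h
    · exact absurd h ha1
    · rw [h]; exact one_mem _
    · rw [← inv_eq_of_mul_eq_one_right h]
      exact inv_mem (Subgroup.mem_zpowers a)
    · have h1 : b = a := by
        have h2 : a * b * b * b = a * b ^ 3 := by rw [pow_succ, pow_two, mul_assoc, mul_assoc, mul_assoc]
        rw [h, hb, one_mul, mul_one] at h2
        exact h2
      rw [h1]
      exact Subgroup.mem_zpowers a
  obtain ⟨i, rfl⟩ := key b hb hab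
  obtain ⟨j, rfl⟩ := key c hc hac
  exact Commute.zpow_zpow_self a i j

section abs

variable {G : Type*} [Group G] {H D : Subgroup G} {k : ℕ}

/-- two commuting elements of order 3 of `N(D)`: a combination lies in `D` -/
theorem comb (h : EvTI k H D) {x y : G} (hx : x ∈ Subgroup.normalizer (D : Set G))
    (hy : y ∈ Subgroup.normalizer (D : Set G)) (hx3 : x ^ 3 = 1) (hy3 : y ^ 3 = 1) (hxy : x * y = y * x) :
    x ∈ D ∨ y ∈ D ∨ x * y ∈ D ∨ x * y * y ∈ D := by
  obtain ⟨f, hf⟩ := h.hom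
  have h1 := perm_comb (f ⟨x, hx⟩) (f ⟨y, hy⟩) (by rw [← map_pow, ← map_one f]; exact congrArg f (Subtype.ext hx3))
    (by rw [← map_pow, ← map_one f]; exact congrArg f (Subtype.ext hy3))
    (by rw [← map_mul, ← map_mul]; exact congrArg f (Subtype.ext hxy))
  rw [← map_mul, ← map_mul] at h1
  rcases h1 with h1 | h1 | h1 | h1
  · exact Or.inl ((hf _).1 h1)
  · exact Or.inr (Or.inl ((hf _).1 h1))
  · exact Or.inr (Or.inr (Or.inl ((hf _).1 h1)))
  · exact Or.inr (Or.inr (Or.inr ((hf _).1 h1)))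

/-- the commutator of two elements of order 3 of `N(D)` commuting with `a ∈ N(D) - D` lies in `D` -/
theorem comm_mem (h : EvTI k H D) {a b c : G} (ha : a ∈ Subgroup.normalizer (D : Set G))
    (hb : b ∈ Subgroup.normalizer (D : Set G)) (hc : c ∈ Subgroup.normalizer (D : Set G)) (ha3 : a ^ 3 = 1)
    (hb3 : b ^ 3 = 1) (hc3 : c ^ 3 = 1) (haD : a ∉ D) (hab : a * b = b * a) (hac : a * c = c * a) : ⁅b, c⁆ ∈ D := by
  obtain ⟨f, hf⟩ := h.hom
  have h1 := perm_comm (a := f ⟨a, ha⟩) (b := f ⟨b, hb⟩) (c := f ⟨c, hc⟩)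
    (by rw [← map_pow, ← map_one f]; exact congrArg f (Subtype.ext ha3))
    (by rw [← map_pow, ← map_one f]; exact congrArg f (Subtype.ext hb3))
    (by rw [← map_pow, ← map_one f]; exact congrArg f (Subtype.ext hc3))
    (fun h2 => haD ((hf _).1 h2))
    (by rw [← map_mul, ← map_mul]; exact congrArg f (Subtype.ext hab))
    (by rw [← map_mul, ← map_mul]; exact congrArg f (Subtype.ext hac))
  have h2 : f ⁅(⟨b, hb⟩ : ↥(Subgroup.normalizer (D : Set G))), ⟨c, hc⟩⁆ = 1 := by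
    rw [map_commutatorElement]
    exact commutatorElement_eq_one_iff_mul_comm.2 h1
  exact (hf _).1 h2

end abs

/-- the root elements of `w_i s` from those of `s` and `± p_i` -/
theorem xx_reflect {D : ChevalleyDatum} {l : ℕ} {M : CoxeterMatrix (Fin l)} (hp : IsType D l M) (K : Type) [Field K]
    {H : Subgroup ↥(D.group K)} (i : Fin l) (hi : (i : ℕ) < D.rank) (h : ∀ t, xx hp K (D.simple i) t ∈ H)
    (h' : ∀ t, xx hp K (D.neg (D.simple i)) t ∈ H) {s : ℕ} (hs : s < D.nroots) (hsH : ∀ t, xx hp K s t ∈ H) (t : K) :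
    xx hp K (D.reflectRoot i s) t ∈ H := by
  have hn : (⟨nG hp.inList (D.simple i) 1, nG_mem_group hp.inList _ 1⟩ : ↥(D.group K)) ∈ H := by
    have e : (⟨nG hp.inList (D.simple i) 1, nG_mem_group hp.inList _ 1⟩ : ↥(D.group K)) =
        xx hp K (D.simple i) 1 * (xx hp K (D.neg (D.simple i)) (-1⁻¹) * xx hp K (D.simple i) 1) :=
      Subtype.ext (nG_def hp.inList (D.simple i) 1)
    rw [e]
    exact mul_mem (h _) (mul_mem (h' _) (h _))
  have h1 := conjRoot_nG (F := K) hp.inList hi hs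
  have h2 : xG hp.inList (D.reflectRoot i s) t ∈
      (D.rootSubgroup K s).map (MulAut.conj (nG hp.inList (D.simple i) 1)).toMonoidHom := by
    rw [h1]
    exact xG_mem_rootSubgroup hp.inList _ _
  obtain ⟨x, hx, hxe⟩ := h2
  obtain ⟨u, rfl⟩ := (mem_rootSubgroup_iff hp.inList s x).1 hx
  have e : xx hp K (D.reflectRoot i s) t = (⟨nG hp.inList (D.simple i) 1, nG_mem_group hp.inList _ 1⟩ : ↥(D.group K)) *
      xx hp K s u * (⟨nG hp.inList (D.simple i) 1, nG_mem_group hp.inList _ 1⟩ : ↥(D.group K))⁻¹ :=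
    Subtype.ext hxe.symm
  rw [e]
  exact mul_mem (mul_mem hn (hsH u)) (inv_mem hn)

section

variable (F : Type) [Field F] [Fintype F]

theorem xx_cube (h3 : (3 : F) = 0) (r : ℕ) (t : F) : xx hG2 F r t ^ 3 = 1 := by
  rw [pow_succ, pow_two, xx_add, xx_add, ← xx_zero hG2 F r]
  congr 1
  linear_combination t * h3

/-- the commuting pairs of positive roots (with a coefficient condition) -/
theorem tab3 : ∀ r ∈ ([9, 11] : List ℕ), ∀ s ∈ ([6, 7, 8, 9, 10, 11] : List ℕ), r < chevG2.nroots ∧ s < chevG2.nroots ∧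
    (s ≠ r → s ≠ chevG2.neg r ∧ ∀ v ∈ chevG2.commTerms r s, (3 : ℤ) ∣ v.2.1) := by decide +kernel

theorem comm3 (h3 : (3 : F) = 0) {r s : ℕ} (hr : r ∈ ([9, 11] : List ℕ)) (hs : s ∈ ([6, 7, 8, 9, 10, 11] : List ℕ))
    (t u : F) : xx hG2 F r t * xx hG2 F s u = xx hG2 F s u * xx hG2 F r t := by
  obtain ⟨h1, h2, h4⟩ := tab3 r hr s hs
  by_cases hsr : s = r
  · subst hsr
    rw [xx_add, xx_add, add_comm]
  · obtain ⟨h5, h6⟩ := h4 hsr
    refine (xx_comm_of_coeff hG2 F h1 h2 hsr h5 ?_ t u).symm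
    intro v hv
    obtain ⟨c, hc⟩ := h6 v hv
    rw [hc]
    push_cast
    rw [h3, zero_mul]

theorem neg6 : chevG2.neg 6 = 5 := by decide +kernel

theorem terms_6_10 : chevG2.commTerms 6 10 = [(11, 1, 1, 1)] := by decide +kernel

theorem terms_7_8 : chevG2.commTerms 7 8 = [(9, -2, 1, 1), (10, -3, 2, 1), (11, 3, 1, 2)] := by decide +kernel

theorem ne_10_6 : (10 : ℕ) ≠ chevG2.neg 6 := by decide +kernel

theorem ne_8_7 : (8 : ℕ) ≠ chevG2.neg 7 := by decide +kernel

theorem comm_10_6 : ⁅xx hG2 F 10 (-1), xx hG2 F 6 1⁆ = xx hG2 F 11 1 := by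
  apply Subtype.ext
  rw [xx_commutator hG2 F (by rw [nroots_G2]; norm_num) (by rw [nroots_G2]; norm_num) (by norm_num) ne_10_6]
  have e : chevG2.commWord F 6 10 (-1) (- -1) = [(11, 1)] := by
    show (chevG2.commTerms 6 10).map (fun c => (c.1, (c.2.1 : F) * (- -1) ^ c.2.2.1 * (- -1) ^ c.2.2.2)) = _
    rw [terms_6_10]
    simp
  rw [e, wordG_cons]
  exact mul_one _

theorem comm_8_7 (h3 : (3 : F) = 0) (t : F) : ⁅xx hG2 F 8 (-1), xx hG2 F 7 t⁆ = xx hG2 F 9 t := by
  apply Subtype.ext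
  rw [xx_commutator hG2 F (by rw [nroots_G2]; norm_num) (by rw [nroots_G2]; norm_num) (by norm_num) ne_8_7]
  have e : chevG2.commWord F 7 8 (-t) (- -1) = [(9, t), (10, 0), (11, 0)] := by
    show (chevG2.commTerms 7 8).map (fun c => (c.1, (c.2.1 : F) * (- -t) ^ c.2.2.1 * (- -1) ^ c.2.2.2)) = _
    rw [terms_7_8]
    simp only [List.map_cons, List.map_nil]
    push_cast
    rw [h3]
    have : (-2 : F) * (- -t) ^ 1 * (- -1) ^ 1 = t := by linear_combination (-t) * h3
    rw [this]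
    simp
  rw [e, wordG_cons, wordG_cons, wordG_cons, xG_zero, xG_zero, one_mul, one_mul]
  exact mul_one _

/-- `N(D)` contains a conjugate of everything: the main argument, `D` contains the involution `z` -/
theorem normalizer_top_of_zz (h3 : (3 : F) = 0) {H D : Subgroup ↥(chevG2.group F)} {k : ℕ} (h : EvTI k H D)
    (hz : zz F ∈ D) : Subgroup.normalizer (D : Set ↥(chevG2.group F)) = ⊤ := by
  have h2 : (2 : F) ≠ 0 := by
    intro h2
    apply one_ne_zero (α := F)
    linear_combination h3 - h2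
  have hlt : ∀ {r : ℕ}, r < 12 → r < chevG2.nroots := fun hr => by rwa [nroots_G2]
  have m9 : 9 ∈ ([9, 11] : List ℕ) := by simp
  have m11 : 11 ∈ ([9, 11] : List ℕ) := by simp
  -- `x₁₁(1), x₇(1) ∈ N(D)`
  have a11 : xx hG2 F 11 1 ∈ Subgroup.normalizer (D : Set ↥(chevG2.group F)) :=
    h.cent hz (zz_ne h2) (zz_conj (hlt (by norm_num)) even11.1 1).symm
  have a7 : xx hG2 F 7 1 ∈ Subgroup.normalizer (D : Set ↥(chevG2.group F)) :=
    h.cent hz (zz_ne h2) (zz_conj (hlt (by norm_num)) (by decide +kernel) 1).symm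
  -- a non-trivial `x₁₁(s) x₇(t) ∈ D`
  obtain ⟨s, t, hst, hD1⟩ : ∃ s t : F, (s ≠ 0 ∨ t ≠ 0) ∧ xx hG2 F 11 s * xx hG2 F 7 t ∈ D := by
    rcases comb h a11 a7 (xx_cube F h3 _ _) (xx_cube F h3 _ _) (comm3 F h3 m11 (by simp) 1 1) with h1 | h1 | h1 | h1
    · exact ⟨1, 0, Or.inl one_ne_zero, by rwa [xx_zero, mul_one]⟩
    · exact ⟨0, 1, Or.inr one_ne_zero, by rwa [xx_zero, one_mul]⟩
    · exact ⟨1, 1, Or.inl one_ne_zero, h1⟩
    · exact ⟨1, 1 + 1, Or.inl one_ne_zero, by rwa [← xx_add, ← mul_assoc]⟩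
  have hw1 : xx hG2 F 11 s * xx hG2 F 7 t ≠ 1 := by
    intro h1
    by_cases ht : t = 0
    · rw [ht, xx_zero, mul_one] at h1
      exact xx_ne_one hG2 F (hlt (by norm_num)) (hst.resolve_right (not_not.2 ht)) h1
    · have h4 : xx hG2 F 7 t = xx hG2 F 11 (-s) := by
        rw [← xx_inv]
        exact (inv_eq_of_mul_eq_one_right h1).symm
      have h5 := comm_8_7 F h3 t
      rw [h4, commutatorElement_eq_one_iff_mul_comm.2 (comm3 F h3 m11 (by simp) _ _).symm] at h5
      exact xx_ne_one hG2 F (hlt (by norm_num)) ht h5.symm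
  have hcw : ∀ {r : ℕ}, r ∈ ([9, 11] : List ℕ) → ∀ u, xx hG2 F r u * (xx hG2 F 11 s * xx hG2 F 7 t) =
      xx hG2 F 11 s * xx hG2 F 7 t * xx hG2 F r u := by
    intro r hr u
    rw [← mul_assoc, comm3 F h3 hr (by simp) u s, mul_assoc, comm3 F h3 hr (by simp) u t, mul_assoc]
  -- `x₁₁(1), x₉(1) ∈ N(D)`
  have b11 := h.cent hD1 hw1 (hcw m11 1)
  have b9 := h.cent hD1 hw1 (hcw m9 1)
  obtain ⟨a, b, hab, hD2⟩ : ∃ s t : F, (s ≠ 0 ∨ t ≠ 0) ∧ xx hG2 F 11 s * xx hG2 F 9 t ∈ D := by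
    rcases comb h b11 b9 (xx_cube F h3 _ _) (xx_cube F h3 _ _) (comm3 F h3 m11 (by simp) 1 1) with h1 | h1 | h1 | h1
    · exact ⟨1, 0, Or.inl one_ne_zero, by rwa [xx_zero, mul_one]⟩
    · exact ⟨0, 1, Or.inr one_ne_zero, by rwa [xx_zero, one_mul]⟩
    · exact ⟨1, 1, Or.inl one_ne_zero, h1⟩
    · exact ⟨1, 1 + 1, Or.inl one_ne_zero, by rwa [← xx_add, ← mul_assoc]⟩
  have tab9 : 9 < chevG2.nroots ∧ 4 < chevG2.nroots ∧ 5 < chevG2.nroots ∧ 11 < chevG2.nroots ∧
      chevG2.commTerms 9 5 = [] ∧ chevG2.commTerms 11 4 = [] ∧ 5 ≠ chevG2.neg 9 ∧ 4 ≠ chevG2.neg 11 := by decide +kernel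
  have hw2 : xx hG2 F 11 a * xx hG2 F 9 b ≠ 1 := by
    intro h1
    by_cases ha : a = 0
    · rw [ha, xx_zero, one_mul] at h1
      exact xx_ne_one hG2 F (hlt (by norm_num)) (hab.resolve_left (not_not.2 ha)) h1
    · by_cases hb : b = 0
      · rw [hb, xx_zero, mul_one] at h1
        exact xx_ne_one hG2 F (hlt (by norm_num)) ha h1
      · have h4 : xx hG2 F 9 b = xx hG2 F 11 (-a) := by
          rw [← xx_inv]
          exact (inv_eq_of_mul_eq_one_right h1).symm
        -- `h₀(-1)` commutes with `x₁₁`, inverts `x₉`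
        have c9 : chevG2.cartan ((0 : Fin 2) : ℕ) 9 = 1 := by decide +kernel
        have c11 : chevG2.cartan ((0 : Fin 2) : ℕ) 11 = 0 := by decide +kernel
        have e9 := hh_conj hG2 F 0 (hlt (r := 9) (by norm_num)) (neg_ne_zero.2 (one_ne_zero (α := F))) b
        have e11 := hh_conj hG2 F 0 (hlt (r := 11) (by norm_num)) (neg_ne_zero.2 (one_ne_zero (α := F))) (-a)
        rw [c9, zpow_one] at e9
        rw [c11, zpow_zero, one_mul] at e11
        rw [h4, e11, ← h4] at e9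
        have h5 := xx_injective hG2 F (hlt (r := 9) (by norm_num)) e9
        apply hb
        have h6 : (2 : F) * b = 0 := by linear_combination h5
        exact (mul_eq_zero.1 h6).resolve_left h2
  -- all positive root elements lie in `N(D)`
  have hpos : ∀ r ∈ ([6, 7, 8, 9, 10, 11] : List ℕ), ∀ u, xx hG2 F r u ∈
      Subgroup.normalizer (D : Set ↥(chevG2.group F)) := by
    intro r hr u
    refine h.cent hD2 hw2 ?_
    rw [← mul_assoc, ← comm3 F h3 m11 hr a u, mul_assoc, ← comm3 F h3 m9 hr b u, mul_assoc]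
  -- `x₁₁(1) ∈ D`
  have d11 : xx hG2 F 11 1 ∈ D := by
    by_contra hcon
    apply hcon
    rw [← comm_10_6 F]
    exact comm_mem h b11 (hpos 10 (by simp) _) (hpos 6 (by simp) _) (xx_cube F h3 _ _) (xx_cube F h3 _ _)
      (xx_cube F h3 _ _) hcon (comm3 F h3 m11 (by simp) _ _) (comm3 F h3 m11 (by simp) _ _)
  have d9 : xx hG2 F 9 1 ∈ D := by
    by_contra hcon
    apply hcon
    rw [← comm_8_7 F h3 1]
    exact comm_mem h b9 (hpos 8 (by simp) _) (hpos 7 (by simp) _) (xx_cube F h3 _ _) (xx_cube F h3 _ _)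
      (xx_cube F h3 _ _) hcon (comm3 F h3 m9 (by simp) _ _) (comm3 F h3 m9 (by simp) _ _)
  obtain ⟨t9, t4, t5, t11, e5, e4, n5, n4⟩ := tab9
  have f4 : ∀ u, xx hG2 F 4 u ∈ Subgroup.normalizer (D : Set ↥(chevG2.group F)) := fun u =>
    h.cent d11 (xx_ne_one hG2 F t11 one_ne_zero) (xx_comm hG2 F t11 t4 (by norm_num) n4 e4 1 u)
  have f5 : ∀ u, xx hG2 F 5 u ∈ Subgroup.normalizer (D : Set ↥(chevG2.group F)) := fun u =>
    h.cent d9 (xx_ne_one hG2 F t9 one_ne_zero) (xx_comm hG2 F t9 t5 (by norm_num) n5 e5 1 u)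
  have r0 : ∀ {s s' : ℕ}, s < 12 → chevG2.reflectRoot ((0 : Fin 2) : ℕ) s = s' →
      (∀ u, xx hG2 F s u ∈ Subgroup.normalizer (D : Set ↥(chevG2.group F))) →
      ∀ u, xx hG2 F s' u ∈ Subgroup.normalizer (D : Set ↥(chevG2.group F)) := by
    intro s s' hs e hsH u
    rw [← e]
    exact xx_reflect hG2 F 0 (by decide +kernel) (fun t => by rw [simple0]; exact hpos 7 (by simp) t)
      (fun t => by rw [simple0, neg7]; exact f4 t) (hlt hs) hsH u
  have r1 : ∀ {s s' : ℕ}, s < 12 → chevG2.reflectRoot ((1 : Fin 2) : ℕ) s = s' →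
      (∀ u, xx hG2 F s u ∈ Subgroup.normalizer (D : Set ↥(chevG2.group F))) →
      ∀ u, xx hG2 F s' u ∈ Subgroup.normalizer (D : Set ↥(chevG2.group F)) := by
    intro s s' hs e hsH u
    rw [← e]
    exact xx_reflect hG2 F 1 (by decide +kernel) (fun t => by rw [simple1]; exact hpos 6 (by simp) t)
      (fun t => by rw [simple1, neg6]; exact f5 t) (hlt hs) hsH u
  have f1 := r0 (s := 5) (s' := 1) (by norm_num) (by decide +kernel) f5
  have f3 := r1 (s := 4) (s' := 3) (by norm_num) (by decide +kernel) f4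
  have f2 := r0 (s := 3) (s' := 2) (by norm_num) (by decide +kernel) f3
  have f0 := r1 (s := 1) (s' := 0) (by norm_num) (by decide +kernel) f1
  refine top_le_of_xx hG2 F _ ?_
  intro r hr t
  rw [nroots_G2] at hr
  interval_cases r
  · exact f0 t
  · exact f1 t
  · exact f2 t
  · exact f3 t
  · exact f4 t
  · exact f5 t
  · exact hpos 6 (by simp) t
  · exact hpos 7 (by simp) t
  · exact hpos 8 (by simp) t
  · exact hpos 9 (by simp) t
  · exact hpos 10 (by simp) t
  · exact hpos 11 (by simp) t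

end

/-- the number of fixed cosets of a conjugate of `H` -/
theorem ncard_conj {G : Type*} [Group G] [Finite G] (H : Subgroup G) (g x : G) :
    (MulAction.fixedBy (G ⧸ H.map (MulAut.conj g).toMonoidHom) x).ncard =
      (MulAction.fixedBy (G ⧸ H) (g⁻¹ * x * g)).ncard := by
  have htr : MulAction.IsPretransitive G (G ⧸ H) := inferInstance
  have hst : MulAction.stabilizer G (g : G ⧸ H) = H.map (MulAut.conj g).toMonoidHom := by
    ext y
    rw [MulAction.mem_stabilizer_iff, Cfsg.Agent.EvenType.StrongP.mem_map_conj, ← mk_mem_fixedBy (H := H)]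
    rfl
  rw [← hst, ncard_fixedBy_quot htr]
  have h3 : MulAction.fixedBy (G ⧸ H) x = (fun a => g • a) '' MulAction.fixedBy (G ⧸ H) (g⁻¹ * x * g) := by
    ext a
    constructor
    · intro ha
      refine ⟨g⁻¹ • a, ?_, smul_inv_smul g a⟩
      rw [MulAction.mem_fixedBy] at ha ⊢
      rw [mul_smul, mul_smul, smul_inv_smul, ha]
    · rintro ⟨b, hb, rfl⟩
      rw [MulAction.mem_fixedBy] at hb ⊢
      rw [mul_smul, mul_smul, inv_smul_eq_iff] at hb
      exact hb
  rw [h3, Set.ncard_image_of_injective _ (MulAction.injective g)]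

/-- **`G₂(3)`.** -/
theorem noEv_g2_three (F : Type) [Field F] [Fintype F] (h : Fintype.card F = 3) :
    NoEv ↥(Cfsg.Lie.chevG2.group F) := by
  rintro H hH ⟨t, ht2, ht4⟩
  have hfin : Finite ↥(chevG2.group F) := finite_G2
  have h3 : (3 : F) = 0 := by
    have h1 : ((Fintype.card F : ℕ) : F) = 0 := Nat.cast_card_eq_zero F
    rw [h] at h1
    exact_mod_cast h1
  have ho : Odd (Fintype.card F) := by rw [h]; decide
  have h2 : (2 : F) ≠ 0 := two_ne_of_odd ho
  have hs : IsSimpleGroup ↥(chevG2.group F) := (S1055.result (F := F) ⟨-1, neg_ne_zero.2 one_ne_zero, fun h1 => h2 (by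
    linear_combination -h1)⟩).1
  have hH1 : H ≠ ⊤ := ne_top_of_exact (by norm_num) ht4
  obtain ⟨a, ha, ha4⟩ := exists_conj_exact (by norm_num) ht4
  have ha2 : orderOf (a⁻¹ * t * a) = 2 := by
    rw [← ht2]
    have := (MulAut.conj a⁻¹).orderOf_eq t
    simpa only [_root_.map_inv, _root_.MulAut.inv_apply, _root_.MulAut.conj_symm_apply] using this
  obtain ⟨c, hc⟩ := isConj_iff.1 (S4278.result ho _ (zz F) ha2 (orderOf_zz h2))
  have hHc := hH.conj c
  have hz : zz F ∈ H.map (MulAut.conj c).toMonoidHom := ⟨a⁻¹ * t * a, ha, hc⟩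
  have hz4 : (MulAction.fixedBy (↥(chevG2.group F) ⧸ H.map (MulAut.conj c).toMonoidHom) (zz F)).ncard = 4 := by
    rw [ncard_conj, ← hc, ← ha4]
    congr 2
    group
  obtain ⟨D, hD, hzD⟩ := hHc.exists_ti (by norm_num) le_rfl hz (zz_ne h2) hz4
  refine hD.normalizer_ne_top ?_ (normalizer_top_of_zz F h3 hD hzD)
  intro htop
  apply hH1
  rw [eq_top_iff]
  intro y _
  have h3 : c * y * c⁻¹ ∈ H.map (MulAut.conj c).toMonoidHom := by rw [htop]; trivial
  obtain ⟨w, hw, hwy⟩ := h3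
  have hwy' : c * w * c⁻¹ = c * y * c⁻¹ := hwy
  rwa [← mul_left_cancel (mul_right_cancel hwy')]

end Cfsg.Agent.H808.GTwo
end

-- part: H223/NoEvU4A
section
/-!
# `PSU_4(q)`, `q` odd: elements commuting with an involution (for S3002, S2993; task 2044)

* `exists_root` : `s² = μ²`, `s` without eigenvalue outside `±μ`;
* `exists_unip` : a unipotent element commuting with `s`;
* `exists_tor` : an element of prime order `r ∣ q + 1`, `r ∤ n`, commuting with `s`.
-/

set_option autoImplicit false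
set_option linter.unusedSectionVars false
set_option linter.unusedFintypeInType false
set_option linter.unusedDecidableInType false

namespace Cfsg.Agent.H223.EvU

open Subgroup Cfsg Matrix
open Cfsg.Agent.LieClassical.HermSiegel Cfsg.Agent.LieClassical.HermBasic
open Cfsg.Agent.ClassicalGeometry.PSUAutCount (gm toAut gm_mul gm_one gm_inv_mul gm_mul_inv gm_inv_mulVec
  gm_mulVec_inv gm_inj herm_gm sc gm_sc_mul)
open Cfsg.Agent.ClassicalGeometry.UnitAutBasic (pr pr_surjective exists_ne_zero_orth hL hL_apply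
  exists_scalar_of_mem_center mem_center_of_scalar pr_eq_pr_iff)

variable {F : Type*} [Field F] [Fintype F] {q n : ℕ}

local notation "hh" => hermForm n F q

/-- the data of a lift of an involution -/
structure Lift (hF : Fintype.card F = q ^ 2) (s : SU n F q) (μ : F) : Prop where
  two : (2 : F) ≠ 0
  sq : ∀ x, act s (act s x) = (μ * μ) • x
  norm : μ * μ ^ q = 1 ∨ μ * μ ^ q = -1
  ex_pos : ∃ x, x ≠ 0 ∧ act s x = μ • x
  ex_neg : ∃ x, x ≠ 0 ∧ act s x = (-μ) • x

theorem Lift.ne {hF : Fintype.card F = q ^ 2} {s : SU n F q} {μ : F} (h : Lift hF s μ) : μ ≠ 0 := by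
  rintro rfl
  rcases h.norm with h1 | h1
  · rw [zero_mul] at h1
    exact zero_ne_one h1
  · rw [zero_mul] at h1
    have : (1 : F) = 0 := by linear_combination h1
    exact one_ne_zero this

theorem Lift.neg {hF : Fintype.card F = q ^ 2} {s : SU n F q} {μ : F} (h : Lift hF s μ) : Lift hF s (-μ) where
  two := h.two
  sq x := by rw [h.sq, neg_mul_neg]
  norm := by rw [neg_pow_q hF, neg_mul_neg]; exact h.norm
  ex_pos := h.ex_neg
  ex_neg := by rw [neg_neg]; exact h.ex_pos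

/-- every lift of an involution of `PSU_n(q)`, `q` odd -/
theorem exists_lift (hF : Fintype.card F = q ^ 2) (hn : 3 ≤ n) (h2 : (2 : F) ≠ 0) (ho : Odd q) {t : PSU n F q}
    (ht : orderOf t = 2) : ∃ (s : SU n F q) (μ : F), pr n F q s = t ∧ Lift hF s μ := by
  obtain ⟨s, rfl⟩ := pr_surjective t
  have ht2 : pr n F q (s * s) = 1 := by
    rw [map_mul, ← pow_two, ← ht, pow_orderOf_eq_one]
  have ht1 : pr n F q s ≠ 1 := by
    intro h
    rw [h, orderOf_one] at ht
    omega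
  obtain ⟨l, hl, hs⟩ := exists_scalar_of_mem_center hF hn ((QuotientGroup.eq_one_iff _).1 ht2)
  have hl0 : l ≠ 0 := left_ne_zero_of_mul_eq_one hl
  obtain ⟨μ, hμ⟩ : IsSquare l := by
    rw [FiniteField.isSquare_iff _ hl0]
    · obtain ⟨k, hk⟩ := ho
      have h1 : Fintype.card F / 2 = (q + 1) * k := by
        rw [hF, hk]
        have : (2 * k + 1) ^ 2 = 2 * ((2 * k + 1 + 1) * k) + 1 := by ring
        omega
      rw [h1, pow_mul, pow_succ', hl, one_pow]
    · intro hc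
      apply h2
      have := ringChar.Nat.cast_ringChar (R := F)
      rw [hc] at this
      exact_mod_cast this
  have hsq : ∀ x, act s (act s x) = (μ * μ) • x := by
    intro x
    rw [← act_mul, hs, hμ]
  have hμ0 : μ ≠ 0 := by
    rintro rfl
    rw [mul_zero] at hμ
    exact hl0 hμ
  have hnorm : μ * μ ^ q = 1 ∨ μ * μ ^ q = -1 := by
    rw [hμ, mul_pow] at hl
    have : (μ * μ ^ q) * (μ * μ ^ q) = 1 := by linear_combination hl
    exact mul_self_eq_one_iff.1 this
  refine ⟨s, μ, rfl, h2, hsq, hnorm, ?_, ?_⟩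
  · by_contra hcon
    push Not at hcon
    apply ht1
    apply (QuotientGroup.eq_one_iff _).2
    apply mem_center_of_scalar (c := -μ)
    intro x
    have h1 : act s (act s x + μ • x) = μ • (act s x + μ • x) := by
      rw [act_add, act_smul, hsq, smul_add, smul_smul]
      abel
    by_contra h3
    refine hcon _ (fun h4 => h3 ?_) h1
    rw [neg_smul]
    exact eq_neg_of_add_eq_zero_left h4
  · by_contra hcon
    push Not at hcon
    apply ht1
    apply (QuotientGroup.eq_one_iff _).2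
    apply mem_center_of_scalar (c := μ)
    intro x
    have h1 : act s (act s x - μ • x) = (-μ) • (act s x - μ • x) := by
      rw [act_sub, act_smul, hsq, smul_sub, smul_smul, neg_mul, neg_smul, neg_smul]
      abel
    by_contra h3
    exact hcon _ (fun h4 => h3 (sub_eq_zero.1 h4)) h1

/-- the eigenspace -/
def Eg (s : SU n F q) (μ : F) : Submodule F (Fin n → F) where
  carrier := {x | act s x = μ • x}
  zero_mem' := by
    show act s 0 = μ • (0 : Fin n → F)
    rw [act_zero, smul_zero]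
  add_mem' := by
    intro x y hx hy
    show act s (x + y) = μ • (x + y)
    rw [act_add, hx, hy, smul_add]
  smul_mem' := by
    intro c x hx
    show act s (c • x) = μ • (c • x)
    rw [act_smul, hx, smul_comm]

omit [Fintype F] in
theorem mem_Eg {s : SU n F q} {μ : F} {x : Fin n → F} : x ∈ Eg s μ ↔ act s x = μ • x := Iff.rfl

theorem finrank_Eg {hF : Fintype.card F = q ^ 2} {s : SU n F q} {μ : F} (h : Lift hF s μ) :
    Module.finrank F (Eg s μ) + Module.finrank F (Eg s (-μ)) = n := by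
  have h1 := Submodule.finrank_sup_add_finrank_inf_eq (Eg s μ) (Eg s (-μ))
  have h2 : Eg s μ ⊓ Eg s (-μ) = ⊥ := by
    rw [eq_bot_iff]
    rintro x ⟨hx, hx'⟩
    have hx1 : act s x = μ • x := hx
    have hx2 : act s x = (-μ) • x := hx'
    rw [hx1] at hx2
    have h3 : (2 * μ) • x = 0 := by
      have := sub_eq_zero.2 hx2
      rw [← sub_smul] at this
      rw [← this]
      congr 1
      ring
    exact (smul_eq_zero.1 h3).resolve_left (mul_ne_zero h.two h.ne)
  have h3 : Eg s μ ⊔ Eg s (-μ) = ⊤ := by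
    rw [eq_top_iff]
    intro x _
    have hμ := h.ne
    have h2 := h.two
    have e : x = ((2 * μ)⁻¹ • (act s x + μ • x)) + ((-(2 * μ)⁻¹) • (act s x - μ • x)) := by
      funext i
      simp only [Pi.add_apply, Pi.sub_apply, Pi.smul_apply, smul_eq_mul]
      field_simp
      ring
    rw [e]
    apply Submodule.add_mem_sup
    · apply Submodule.smul_mem
      show act s (act s x + μ • x) = μ • (act s x + μ • x)
      rw [act_add, act_smul, h.sq, smul_add, smul_smul]
      abel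
    · apply Submodule.smul_mem
      show act s (act s x - μ • x) = (-μ) • (act s x - μ • x)
      rw [act_sub, act_smul, h.sq, smul_sub, smul_smul, neg_mul, neg_smul, neg_smul]
      abel
  rw [h2, h3, finrank_bot, finrank_top, add_zero] at h1
  rw [← h1]
  simp only [_root_.Module.finrank_fintype_fun_eq_card, _root_.Fintype.card_fin]

omit [Fintype F] in
/-- perpendicular vectors in a subspace of dimension at least two -/
theorem exists_perp {W : Submodule F (Fin n → F)} (hW : 2 ≤ Module.finrank F W) (v : Fin n → F) :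
    ∃ x ∈ W, x ≠ 0 ∧ hh x v = 0 := by
  have h : LinearMap.ker ((hL n q v).comp W.subtype) ≠ ⊥ := by
    apply LinearMap.ker_ne_bot_of_finrank_lt
    rw [Module.finrank_self]
    omega
  obtain ⟨x, hx, hx0⟩ := (Submodule.ne_bot_iff _).1 h
  refine ⟨x, x.2, fun h1 => hx0 (Subtype.ext h1), ?_⟩
  exact hx

/-- isotropic vectors in a subspace of dimension at least two -/
theorem exists_iso (hF : Fintype.card F = q ^ 2) {W : Submodule F (Fin n → F)} (hW : 2 ≤ Module.finrank F W) :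
    ∃ x ∈ W, x ≠ 0 ∧ hh x x = 0 := by
  by_contra hcon
  push Not at hcon
  have hnt : ∃ e ∈ W, e ≠ 0 := by
    apply (Submodule.ne_bot_iff _).1
    rintro rfl
    rw [finrank_bot] at hW
    omega
  obtain ⟨e, he, he0⟩ := hnt
  obtain ⟨f, hf, hf0, hfe⟩ := exists_perp (q := q) hW e
  have hee := hcon e he he0
  have hff := hcon f hf hf0
  have hef := herm_eq_zero_swap hF hfe
  obtain ⟨a, ha⟩ := exists_norm_eq hF (c := -(hh e e / hh f f)) (by
    rw [neg_pow_q hF, div_pow, herm_self_pow hF, herm_self_pow hF])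
  refine hcon (e + a • f) (W.add_mem he (W.smul_mem _ hf)) ?_ ?_
  · intro h
    have h1 : hh (e + a • f) e = 0 := by rw [h, herm_zero_left]
    rw [herm_add_left, herm_smul_left, hfe, mul_zero, add_zero] at h1
    exact hee h1
  · rw [herm_add_left, herm_add_right hF, herm_add_right hF, herm_smul_left, herm_smul_right, herm_smul_left,
      herm_smul_right, hef, hfe]
    have h1 : a * (a ^ q * hh f f) = -hh e e := by
      rw [← mul_assoc, ha, neg_mul, div_mul_cancel₀ _ hff]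
    linear_combination h1

/-- the form and eigenvectors -/
theorem herm_act_eig {hF : Fintype.card F = q ^ 2} {s : SU n F q} {ν : F} (hν : ν * ν ^ q = 1) {v : Fin n → F}
    (hv : act s v = ν • v) (x : Fin n → F) : hh (act s x) v = ν * hh x v := by
  have h1 := herm_act s x v
  rw [hv, herm_smul_right] at h1
  linear_combination ν * h1 - hh (act s x) v * hν

/-- **Unipotent elements commuting with a lift of an involution.** -/
theorem exists_unip (hF : Fintype.card F = q ^ 2) (hn : 4 ≤ n) {s : SU n F q} {μ : F} (h : Lift hF s μ) :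
    ∃ y : SU n F q, s * y = y * s ∧ y ≠ 1 ∧ ∀ x, act y (act y x - x) = act y x - x := by
  -- the larger eigenspace
  obtain ⟨ν, h', hdim⟩ : ∃ ν, Lift hF s ν ∧ 2 ≤ Module.finrank F (Eg s ν) := by
    have h1 := finrank_Eg h
    by_cases h2 : 2 ≤ Module.finrank F (Eg s μ)
    · exact ⟨μ, h, h2⟩
    · exact ⟨-μ, h.neg, by omega⟩
  have hν0 := h'.ne
  have h2 := h'.two
  rcases h'.norm with hν | hν
  · -- a transvection
    obtain ⟨v, hv, hv0, hvv⟩ := exists_iso hF hdim
    obtain ⟨a, ha0, ha⟩ := exists_trace_zero_ne hF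
    have hsg : IsSiegel q v 0 a := ⟨hvv, herm_zero_left v, by rw [herm_zero_left, add_zero]; exact ha⟩
    have hy : ∀ x, act (siegel hF v 0 a hsg) x = x + (a * hh x v) • v := by
      intro x
      rw [act_siegel, herm_zero_right hF, smul_zero, add_zero, sub_zero]
    refine ⟨siegel hF v 0 a hsg, ?_, ?_, ?_⟩
    · apply ext_act
      intro x
      rw [act_mul, act_mul, hy, hy, act_add, act_smul, herm_act_eig (hF := hF) hν hv, mem_Eg.1 hv, smul_smul]
      congr 2
      ring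
    · intro h1
      obtain ⟨x, hx⟩ := exists_herm_ne_zero hF hv0
      have h3 := hy x
      rw [h1, act_one] at h3
      have h4 : (a * hh x v) • v = 0 := by
        have := congrArg (fun z => z - x) h3
        simpa only [_root_.smul_eq_zero, _root_.mul_eq_zero, _root_.add_sub_cancel_left, _root_.sub_self] using this.symm
      rcases smul_eq_zero.1 h4 with h5 | h5
      · rcases mul_eq_zero.1 h5 with h6 | h6
        · exact ha0 h6
        · exact hx (herm_eq_zero_swap hF h6)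
      · exact hv0 h5
    · intro x
      have e : act (siegel hF v 0 a hsg) x - x = (a * hh x v) • v := by rw [hy]; abel
      rw [e, hy, herm_smul_left, hvv]
      simp
  · -- a Siegel element
    obtain ⟨v, hv0, hv⟩ := h'.ex_neg
    obtain ⟨w, hw, hw0, hwv⟩ := exists_perp (q := q) hdim v
    have hws : act s w = ν • w := hw
    have hvv : hh v v = 0 := by
      have h1 := herm_act s v v
      rw [hv, herm_smul_left, herm_smul_right, neg_pow_q hF] at h1
      have h3 : 2 * hh v v = 0 := by linear_combination hν * hh v v - h1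
      exact (mul_eq_zero.1 h3).resolve_left h2
    have hww : hh w w = 0 := by
      have h1 := herm_act s w w
      rw [hws, herm_smul_left, herm_smul_right] at h1
      have h3 : 2 * hh w w = 0 := by linear_combination hν * hh w w - h1
      exact (mul_eq_zero.1 h3).resolve_left h2
    have hvw := herm_eq_zero_swap hF hwv
    have hsg : IsSiegel q v w 0 := ⟨hvv, hwv, by rw [hww, zero_pow_q hF]; ring⟩
    have hy : ∀ x, act (siegel hF v w 0 hsg) x = x + hh x v • w - hh x w • v := by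
      intro x
      rw [act_siegel, zero_mul, zero_sub, neg_smul]
      abel
    have hsv : ∀ x, hh (act s x) v = ν * hh x v := by
      intro x
      have h1 := herm_act s x v
      rw [hv, herm_smul_right, neg_pow_q hF] at h1
      linear_combination ν * h1 + hh (act s x) v * hν
    have hsw : ∀ x, hh (act s x) w = -(ν * hh x w) := by
      intro x
      have h1 := herm_act s x w
      rw [hws, herm_smul_right] at h1
      linear_combination -ν * h1 + (hh (act s x) w) * hν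
    refine ⟨siegel hF v w 0 hsg, ?_, ?_, ?_⟩
    · apply ext_act
      intro x
      rw [act_mul, act_mul, hy, hy, act_sub, act_add, act_smul, act_smul, hsv, hsw, hws, hv, smul_smul, smul_smul]
      funext i
      simp only [Pi.add_apply, Pi.sub_apply, Pi.smul_apply, smul_eq_mul]
      ring
    · intro h1
      -- `w` and `v` are independent
      obtain ⟨x, hx⟩ := exists_herm_ne_zero hF hv0
      have h3 := hy x
      rw [h1, act_one] at h3
      have h4 : hh x v • w = hh x w • v := by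
        have := congrArg (fun z => z - x + hh x w • v) h3
        simp only [sub_self, zero_add] at this
        rw [this]
        abel
      have h5 := congrArg (act s) h4
      rw [act_smul, act_smul, hws, hv, smul_smul, smul_smul, mul_comm, mul_smul, h4, smul_smul] at h5
      have h6 : (2 * ν * hh x w) • v = 0 := by
        have := sub_eq_zero.2 h5
        rw [← sub_smul] at this
        rw [← this]
        congr 1
        ring
      have h7 : hh x w = 0 := by
        rcases smul_eq_zero.1 h6 with h8 | h8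
        · exact (mul_eq_zero.1 h8).resolve_left (mul_ne_zero h2 hν0)
        · exact absurd h8 hv0
      rw [h7, zero_smul] at h4
      rcases smul_eq_zero.1 h4 with h8 | h8
      · exact hx (herm_eq_zero_swap hF h8)
      · exact hw0 h8
    · intro x
      have e : act (siegel hF v w 0 hsg) x - x = hh x v • w - hh x w • v := by rw [hy]; abel
      rw [e, hy, herm_sub_left, herm_smul_left, herm_smul_left, herm_sub_left, herm_smul_left, herm_smul_left, hvv,
        hww, hvw, hwv]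
      simp

end Cfsg.Agent.H223.EvU
end

-- part: H223/NoEvU4B
section
/-!
# `PSU_4(q)`, `q` odd: elements of order `r ∣ q + 1` commuting with an involution (task 2044)
-/

set_option autoImplicit false
set_option linter.unusedSectionVars false
set_option linter.unusedFintypeInType false
set_option linter.unusedDecidableInType false

namespace Cfsg.Agent.H223.EvU

open Subgroup Cfsg Matrix
open Cfsg.Agent.LieClassical.HermSiegel Cfsg.Agent.LieClassical.HermBasic
open Cfsg.Agent.ClassicalGeometry.PSUAutCount (gm toAut gm_mul gm_one gm_inv_mul gm_mul_inv gm_inv_mulVec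
  gm_mulVec_inv gm_inj herm_gm sc gm_sc_mul)
open Cfsg.Agent.ClassicalGeometry.UnitAutBasic (pr pr_surjective exists_ne_zero_orth hL hL_apply
  exists_scalar_of_mem_center mem_center_of_scalar pr_eq_pr_iff)
open Cfsg.Agent.H724.UThree (toGU gm_toGU exists_toGU toGU_pow toGU_injective gm_pow exists_gen_norm)

variable {F : Type*} [Field F] [Fintype F] {q n : ℕ}

local notation "hh" => hermForm n F q

theorem tor_of_proj (hF : Fintype.card F = q ^ 2) {s : SU n F q} {P : (Fin n → F) →ₗ[F] (Fin n → F)}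
    (hPP : ∀ x, P (P x) = P x) (hsa : ∀ x z, hh (P x) z = hh x (P z)) (hsP : ∀ x, act s (P x) = P (act s x))
    {x0 x1 : Fin n → F} (hx0 : x0 ≠ 0) (hP0 : P x0 = x0) (hx1 : x1 ≠ 0) (hP1 : P x1 = 0) {r : ℕ} [hrp : Fact r.Prime]
    (hr : r ∣ q + 1) (hrn : ¬ r ∣ n) :
    ∃ y : SU n F q, s * y = y * s ∧ y ^ r = 1 ∧ ¬ ∃ κ : F, ∀ x, act y x = κ • x := by
  -- the scalar
  obtain ⟨c, hc, hcr, hc1⟩ : ∃ c : F, c * c ^ q = 1 ∧ c ^ r = 1 ∧ c ≠ 1 := by
    obtain ⟨g, hg1, hg⟩ := exists_gen_norm hF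
    obtain ⟨m, hm⟩ := hr
    have hgq : g ^ (q + 1) = 1 := by rw [pow_succ', hg1]
    refine ⟨g ^ m, ?_, ?_, ?_⟩
    · rw [← pow_succ', ← pow_mul, mul_comm, pow_mul, hgq, one_pow]
    · rw [← pow_mul, mul_comm, ← hm, hgq]
    · intro h
      have hm0 : 0 < m := by
        rcases Nat.eq_zero_or_pos m with h1 | h1
        · rw [h1, mul_zero] at hm
          omega
        · exact h1
      have h1 := Nat.le_of_dvd hm0 (hg m h)
      have h2 : 2 * m ≤ r * m := Nat.mul_le_mul_right m hrp.out.two_le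
      omega
  obtain ⟨M, hM⟩ : ∃ M : Matrix (Fin n) (Fin n) F, ∀ x, M *ᵥ x = x + (c - 1) • P x :=
    ⟨LinearMap.toMatrix' (LinearMap.id + (c - 1) • P), fun x => by rw [LinearMap.toMatrix'_mulVec]; rfl⟩
  have hiso : ∀ u v : Fin n → F, hh (M *ᵥ u) (M *ᵥ v) = hh u v := by
    intro u v
    rw [hM, hM, herm_add_left, herm_add_right hF, herm_add_right hF, herm_smul_left, herm_smul_right, herm_smul_left,
      herm_smul_right, ← hsa u v, hsa u (P v), hPP, ← hsa, sub_pow_q hF, one_pow]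
    linear_combination hh (P u) v * hc
  obtain ⟨A, hA⟩ : ∃ A : GU n F q, gm A = M :=
    ⟨LieClassical.GUOrder.mkGU hF M hiso, LieClassical.GUOrder.coe_mkGU hF M hiso⟩
  have hpow : ∀ k : ℕ, ∀ x, M ^ k *ᵥ x = x + (c ^ k - 1) • P x := by
    intro k
    induction k with
    | zero => intro x; rw [pow_zero, one_mulVec, pow_zero, sub_self, zero_smul, add_zero]
    | succ k ih =>
      intro x
      rw [pow_succ, ← mulVec_mulVec, hM, ih, map_add, map_smul, hPP, pow_succ]
      funext i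
      simp only [Pi.add_apply, Pi.smul_apply, smul_eq_mul]
      ring
  have hMr : M ^ r = 1 := by
    apply Matrix.ext_of_mulVec_single
    intro i
    rw [hpow, hcr, sub_self, zero_smul, add_zero, one_mulVec]
  obtain ⟨δ, hδ⟩ : ∃ δ, δ = M.det := ⟨_, rfl⟩
  have hδr : δ ^ r = 1 := by rw [hδ, ← Matrix.det_pow, hMr, Matrix.det_one]
  obtain ⟨m, k, hmk⟩ : ∃ m k : ℕ, n * m + 1 = r * k := by
    have hcop : Nat.Coprime n r := Nat.Coprime.symm ((Nat.Prime.coprime_iff_not_dvd hrp.out).2 hrn)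
    obtain ⟨a, -, ha⟩ := Nat.exists_mul_mod_eq_one_of_coprime hcop hrp.out.one_lt
    refine ⟨a * (r - 1), a * n - n * a / r, ?_⟩
    have h1 := Nat.div_add_mod (n * a) r
    rw [ha] at h1
    have h2 := hrp.out.two_le
    have h3 : n * a / r ≤ a * n := by rw [mul_comm a n]; exact Nat.div_le_self _ _
    zify [h3, (by omega : 1 ≤ r)] at h1 ⊢
    linear_combination h1
  obtain ⟨d, hd⟩ : ∃ d, d = δ ^ m := ⟨_, rfl⟩
  have hdn : d ^ n * δ = 1 := by
    rw [hd, ← pow_mul, ← pow_succ, mul_comm m n, hmk, pow_mul, hδr, one_pow]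
  have hdr : d ^ r = 1 := by rw [hd, ← pow_mul, mul_comm, pow_mul, hδr, one_pow]
  have hdq : d * d ^ q = 1 := by
    obtain ⟨j, hj⟩ := hr
    rw [← pow_succ', hj, pow_mul, hdr, one_pow]
  have hd0 : d ≠ 0 := left_ne_zero_of_mul_eq_one hdq
  obtain ⟨B, hB⟩ : ∃ B : GU n F q, gm B = d • M := ⟨sc n ⟨d, hdq⟩ * A, by rw [gm_sc_mul, hA]⟩
  obtain ⟨y, hy⟩ := exists_toGU B (by rw [hB, Matrix.det_smul, Fintype.card_fin, ← hδ, hdn])
  have hyx : ∀ x, act y x = d • (x + (c - 1) • P x) := by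
    intro x
    rw [act_def, ← gm_toGU, hy, hB, smul_mulVec, hM]
  refine ⟨y, ?_, ?_, ?_⟩
  · apply ext_act
    intro x
    rw [act_mul, act_mul, hyx, hyx, act_smul, act_add, act_smul, hsP]
  · apply toGU_injective
    rw [toGU_pow, hy]
    apply gm_inj
    rw [gm_pow, hB, smul_pow, hdr, hMr, one_smul]
    rfl
  · rintro ⟨κ, hκ⟩
    have h1 := hκ x1
    rw [hyx, hP1, smul_zero, add_zero] at h1
    have h2 := hκ x0
    rw [hyx, hP0] at h2
    have h3 : d = κ := by
      have := sub_eq_zero.2 h1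
      rw [← sub_smul] at this
      exact sub_eq_zero.1 ((smul_eq_zero.1 this).resolve_right hx1)
    have h4 : (d * (c - 1)) • x0 = 0 := by
      rw [← h3] at h2
      have := sub_eq_zero.2 h2
      rw [← this]
      funext i
      simp only [Pi.add_apply, Pi.sub_apply, Pi.smul_apply, smul_eq_mul]
      ring
    rcases smul_eq_zero.1 h4 with h5 | h5
    · exact (mul_ne_zero hd0 (sub_ne_zero.2 hc1)) h5
    · exact hx0 h5

/-- scaling -/
theorem exists_unit (hF : Fintype.card F = q ^ 2) {v : Fin n → F} (hv : hh v v ≠ 0) :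
    ∃ l : F, l ≠ 0 ∧ hh (l • v) (l • v) = 1 := by
  obtain ⟨l, hl0, hl⟩ := exists_norm_eq_ne hF (c := (hh v v)⁻¹)
    (by rw [inv_pow, herm_self_pow hF]) (inv_ne_zero hv)
  refine ⟨l, hl0, ?_⟩
  rw [herm_smul_left, herm_smul_right, ← mul_assoc, hl, inv_mul_cancel₀ hv]

/-- the decomposition of a vector -/
theorem exists_decomp {hF : Fintype.card F = q ^ 2} {s : SU n F q} {μ : F} (h : Lift hF s μ) (x : Fin n → F) :
    ∃ a b : Fin n → F, act s a = μ • a ∧ act s b = (-μ) • b ∧ x = a + b := by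
  have hμ := h.ne
  have h2 := h.two
  refine ⟨(2 * μ)⁻¹ • (act s x + μ • x), (-(2 * μ)⁻¹) • (act s x - μ • x), ?_, ?_, ?_⟩
  · rw [act_smul, act_add, act_smul, h.sq]
    funext i
    simp only [Pi.add_apply, Pi.smul_apply, smul_eq_mul]
    ring
  · rw [act_smul, act_sub, act_smul, h.sq]
    funext i
    simp only [Pi.sub_apply, Pi.smul_apply, smul_eq_mul]
    ring
  · funext i
    simp only [Pi.add_apply, Pi.sub_apply, Pi.smul_apply, smul_eq_mul]
    field_simp
    ring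

/-- **Elements of order `r ∣ q + 1` commuting with a lift of an involution.** -/
theorem exists_tor (hF : Fintype.card F = q ^ 2) (hn : 3 ≤ n) {s : SU n F q} {μ : F} (h : Lift hF s μ) {r : ℕ}
    [hrp : Fact r.Prime] (hr : r ∣ q + 1) (hrn : ¬ r ∣ n) :
    ∃ y : SU n F q, s * y = y * s ∧ y ^ r = 1 ∧ ¬ ∃ κ : F, ∀ x, act y x = κ • x := by
  have hq := two_le hF
  have h2 := h.two
  rcases h.norm with hμ | hμ
  · -- a nonisotropic eigenvector
    obtain ⟨ν, e, hν, hse, hee⟩ : ∃ (ν : F) (e : Fin n → F), ν * ν ^ q = 1 ∧ act s e = ν • e ∧ hh e e ≠ 0 := by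
      by_contra hcon
      push Not at hcon
      obtain ⟨x, hx⟩ : ∃ x : Fin n → F, hh x x = 1 := by
        refine ⟨Pi.single ⟨0, by omega⟩ 1, ?_⟩
        rw [herm_single_left, Pi.single_eq_same, one_pow, mul_one]
      obtain ⟨a, b, ha, hb, rfl⟩ := exists_decomp h x
      have ha' := hcon μ a hμ ha
      have hb' := hcon (-μ) b (by rw [neg_pow_q hF, neg_mul_neg]; exact hμ) hb
      have hab : hh a b = 0 := by
        have h1 := herm_act s a b
        rw [ha, hb, herm_smul_left, herm_smul_right, neg_pow_q hF] at h1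
        have h3 : 2 * hh a b = 0 := by linear_combination -h1 - hμ * hh a b
        exact (mul_eq_zero.1 h3).resolve_left h2
      rw [herm_add_left, herm_add_right hF, herm_add_right hF, ha', hb', hab, herm_eq_zero_swap hF hab] at hx
      exact zero_ne_one (by linear_combination hx)
    obtain ⟨l, hl0, hl⟩ := exists_unit hF hee
    obtain ⟨f, hf⟩ : ∃ f, f = l • e := ⟨_, rfl⟩
    rw [← hf] at hl
    have hsf : act s f = ν • f := by rw [hf, act_smul, hse, smul_comm]
    let P : (Fin n → F) →ₗ[F] (Fin n → F) := (hL n q f).smulRight f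
    have hP : ∀ x, P x = hh x f • f := fun x => rfl
    obtain ⟨x1, hx1, hx1f, -⟩ := exists_ne_zero_orth (q := q) hn f f
    refine tor_of_proj hF (P := P) (x0 := f) (x1 := x1) ?_ ?_ ?_ ?_ ?_ hx1 ?_ hr hrn
    · intro x
      rw [hP, hP, herm_smul_left, hl, mul_one]
    · intro x z
      rw [hP, hP, herm_smul_left, herm_smul_right, ← herm_swap hF, mul_comm]
    · intro x
      rw [hP, hP, act_smul, hsf, herm_act_eig (hF := hF) hν hsf, smul_smul, mul_comm]
    · rintro rfl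
      rw [herm_zero_left] at hl
      exact zero_ne_one hl
    · rw [hP, hl, one_smul]
    · rw [hP, hx1f, zero_smul]
  · -- a hyperbolic plane
    obtain ⟨v, hv0, hv⟩ := h.ex_pos
    obtain ⟨x, hx⟩ := exists_herm_ne_zero hF hv0
    obtain ⟨a, b, ha, hb, rfl⟩ := exists_decomp h x
    have hva : hh v a = 0 := by
      have h1 := herm_act s v a
      rw [hv, ha, herm_smul_left, herm_smul_right] at h1
      have h3 : 2 * hh v a = 0 := by linear_combination hμ * hh v a - h1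
      exact (mul_eq_zero.1 h3).resolve_left h2
    rw [herm_add_right hF, hva, zero_add] at hx
    obtain ⟨w, hwe⟩ : ∃ w, w = ((hh v b)⁻¹ ^ q) • b := ⟨_, rfl⟩
    have hw : act s w = (-μ) • w := by rw [hwe, act_smul, hb, smul_comm]
    have hvw : hh v w = 1 := by
      rw [hwe, herm_smul_right, pow_q_pow_q hF, inv_mul_cancel₀ hx]
    have hwv : hh w v = 1 := by rw [herm_swap hF v w, hvw, one_pow]
    have hvv : hh v v = 0 := by
      have h1 := herm_act s v v
      rw [hv, herm_smul_left, herm_smul_right] at h1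
      have h3 : 2 * hh v v = 0 := by linear_combination hμ * hh v v - h1
      exact (mul_eq_zero.1 h3).resolve_left h2
    have hww : hh w w = 0 := by
      have h1 := herm_act s w w
      rw [hw, herm_smul_left, herm_smul_right, neg_pow_q hF] at h1
      have h3 : 2 * hh w w = 0 := by linear_combination hμ * hh w w - h1
      exact (mul_eq_zero.1 h3).resolve_left h2
    have hsv : ∀ x, hh (act s x) v = -(μ * hh x v) := by
      intro x
      have h1 := herm_act s x v
      rw [hv, herm_smul_right] at h1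
      linear_combination -μ * h1 + (hh (act s x) v) * hμ
    have hsw : ∀ x, hh (act s x) w = μ * hh x w := by
      intro x
      have h1 := herm_act s x w
      rw [hw, herm_smul_right, neg_pow_q hF] at h1
      linear_combination μ * h1 + hh (act s x) w * hμ
    let P : (Fin n → F) →ₗ[F] (Fin n → F) := (hL n q w).smulRight v + (hL n q v).smulRight w
    have hP : ∀ x, P x = hh x w • v + hh x v • w := fun x => rfl
    obtain ⟨x1, hx1, hx1v, hx1w⟩ := exists_ne_zero_orth (q := q) hn v w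
    refine tor_of_proj hF (P := P) (x0 := v) (x1 := x1) ?_ ?_ ?_ hv0 ?_ hx1 ?_ hr hrn
    · intro x
      rw [hP x, hP, herm_add_left, herm_add_left, herm_smul_left, herm_smul_left, herm_smul_left, herm_smul_left, hvv,
        hww, hvw, hwv]
      simp
    · intro x z
      rw [hP, hP, herm_add_left, herm_add_right hF, herm_smul_left, herm_smul_right, herm_smul_left, herm_smul_right,
        ← herm_swap hF, ← herm_swap hF]
      ring
    · intro x
      rw [hP, hP, act_add, act_smul, act_smul, hv, hw, hsv, hsw]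
      funext i
      simp only [Pi.add_apply, Pi.smul_apply, smul_eq_mul]
      ring
    · rw [hP, hvw, hvv, one_smul, zero_smul, add_zero]
    · rw [hP, hx1v, hx1w, zero_smul, zero_smul, add_zero]

end Cfsg.Agent.H223.EvU
end

-- part: H223/NoEvU4
section
/-!
# `NoEv` for `PSU_4(q)`, `q` odd (for S3002, S2993; task 2044)

* `noEv_own` : `NoEv (PSU n K q)` for `n ≥ 4` in characteristic `p ≥ 5`;
* `noEv_cross` : `NoEv (PSU n K q)` for `n ≥ 4`, `q` odd, if a prime `r ≥ 5` divides `q + 1` and not `n`;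
* `noEv_psu4`.
-/

set_option autoImplicit false
set_option linter.unusedSectionVars false
set_option linter.unusedFintypeInType false
set_option linter.unusedDecidableInType false

namespace Cfsg.Agent.H223.EvU

open Subgroup Cfsg Matrix
open Cfsg.Agent.LieClassical.HermSiegel Cfsg.Agent.LieClassical.HermBasic
open Cfsg.Agent.ClassicalGeometry.UnitAutBasic (pr pr_surjective exists_scalar_of_mem_center)
open Cfsg.Agent.H254.Ev

variable {K : Type} [Field K] [Fintype K] {q n : ℕ}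

theorem key (hK : Fintype.card K = q ^ 2) (hn : 4 ≤ n) (h2 : (2 : K) ≠ 0) (ho : Odd q) {r : ℕ} [hr : Fact r.Prime]
    (h5 : 5 ≤ r) (hno : H998.StrP.NoSP r (PSU n K q))
    (hex : ∀ (s : SU n K q) (μ : K), Lift hK s μ → ∃ y : SU n K q, s * y = y * s ∧ y ^ r = 1 ∧
      ¬ ∃ κ : K, ∀ x, act y x = κ • x) : NoEv (PSU n K q) := by
  have hfin : Finite (PSU n K q) := inferInstance
  have hsimp : IsSimpleGroup (PSU n K q) := S0283.result hK n (by omega) (by omega)
  rintro H hH ⟨t, ht, ht4⟩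
  have hHt : H ≠ ⊤ := ne_top_of_exact (k := 4) (by norm_num) ht4
  obtain ⟨a, ha, ha4⟩ := exists_conj_exact (k := 4) (by norm_num) ht4
  obtain ⟨t', ht'⟩ : ∃ t', t' = a⁻¹ * t * a := ⟨_, rfl⟩
  rw [← ht'] at ha
  have ht'o : orderOf t' = 2 := by
    rw [ht', ← ht]
    have := (MulAut.conj a⁻¹).orderOf_eq t
    simpa only [_root_.map_inv, _root_.MulAut.inv_apply, _root_.MulAut.conj_symm_apply] using this
  have ht'1 : t' ≠ 1 := by
    intro h
    rw [h, orderOf_one] at ht'o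
    omega
  obtain ⟨s, μ, hs, hL⟩ := exists_lift hK (by omega) h2 ho ht'o
  obtain ⟨y, hsy, hyr, hns⟩ := hex s μ hL
  have hy1 : pr n K q y ≠ 1 := by
    intro h
    obtain ⟨c, -, hc⟩ := exists_scalar_of_mem_center hK (by omega) ((QuotientGroup.eq_one_iff _).1 h)
    exact hns ⟨c, hc⟩
  have hyo : orderOf (pr n K q y) = r := orderOf_eq_prime (by rw [← map_pow, hyr, map_one]) hy1
  have hyH : pr n K q y ∈ H := by
    refine hH.mem_of_comm le_rfl ha ht'1 ?_ ?_
    · rw [← hs, ← map_mul, ← map_mul, hsy]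
    · rw [hyo]
      exact H254.Fx.coprime_six_of_prime hr.out h5
  refine hH.false_of_noSP le_rfl hHt hr.out h5 ?_ hno
  rw [← hyo]
  exact Subgroup.orderOf_dvd_natCard _ hyH

/-- **Own characteristic at least five.** -/
theorem noEv_own (hK : Fintype.card K = q ^ 2) (hn : 4 ≤ n) {p : ℕ} [hp : Fact p.Prime] [hcp : CharP K p] (hp5 : 5 ≤ p) :
    NoEv (PSU n K q) := by
  have hfin : Finite (PSU n K q) := inferInstance
  have h2 : (2 : K) ≠ 0 := by
    intro h
    have h3 : p ∣ 2 := (CharP.cast_eq_zero_iff K p 2).1 (by exact_mod_cast h)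
    have := Nat.le_of_dvd (by norm_num) h3
    omega
  have ho : Odd q := by
    obtain ⟨r, k, hr, hrc, hk, hk0⟩ := LieClassical.HermBasic.exists_prime_pow hK
    have h1 : r = p := CharP.eq K hrc hcp
    rw [hk]
    exact (hr.odd_of_ne_two (by omega)).pow
  refine key hK hn h2 ho hp5 (H818.StrP.Own.hasRGD2_PSU hK hn).noSP ?_
  intro s μ hL
  obtain ⟨y, hsy, hy1, hy⟩ := exists_unip hK hn hL
  refine ⟨y, hsy, ?_, ?_⟩
  · obtain ⟨N, hN⟩ : ∃ N, N = mat y - 1 := ⟨_, rfl⟩
    have hNx : ∀ x, N *ᵥ x = act y x - x := by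
      intro x
      rw [hN, sub_mulVec, one_mulVec]
      rfl
    have hN2 : N * N = 0 := by
      apply Matrix.ext_of_mulVec_single
      intro i
      rw [← mulVec_mulVec, zero_mulVec, hNx, hNx, hy, sub_self]
    apply mat_injective
    have h6 : ∀ k, mat (y ^ k) = mat y ^ k := by
      intro k
      induction k with
      | zero => rw [pow_zero, pow_zero, mat_one]
      | succ k ih => rw [pow_succ, pow_succ, mat_mul, ih]
    have h1 : mat y = 1 + N := by rw [hN]; abel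
    have hne : Nonempty (Fin n) := ⟨⟨0, by omega⟩⟩
    rw [h6, mat_one, h1, add_pow_char_of_commute (p := p) (Commute.one_left _), one_pow]
    obtain ⟨k, hk⟩ : ∃ k, p = 2 + k := ⟨p - 2, by omega⟩
    rw [hk, pow_add, pow_two, hN2, zero_mul, add_zero]
  · rintro ⟨κ, hκ⟩
    apply hy1
    obtain ⟨x, hx⟩ : ∃ x : Fin n → K, x ≠ 0 := ⟨Pi.single ⟨0, by omega⟩ 1, fun h => by
      have := congrFun h ⟨0, by omega⟩
      rw [Pi.single_eq_same] at this
      exact one_ne_zero this⟩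
    have h1 := hy x
    simp only [hκ] at h1
    have h3 : ((κ - 1) * (κ - 1)) • x = 0 := by
      have := sub_eq_zero.2 h1
      rw [← this]
      funext i
      simp only [Pi.sub_apply, Pi.smul_apply, smul_eq_mul]
      ring
    have h4 : κ = 1 := sub_eq_zero.1 (mul_self_eq_zero.1 ((smul_eq_zero.1 h3).resolve_right hx))
    apply ext_act
    intro z
    rw [hκ, h4, one_smul, act_one]

/-- **Cross characteristic.** -/
theorem noEv_cross (hK : Fintype.card K = q ^ 2) (hn : 4 ≤ n) (ho : Odd q) {r : ℕ} [hr : Fact r.Prime] (h5 : 5 ≤ r)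
    (hrq : r ∣ q + 1) (hrn : ¬ r ∣ n) : NoEv (PSU n K q) := by
  have hfin : Finite (PSU n K q) := inferInstance
  have hsimp : IsSimpleGroup (PSU n K q) := S0283.result hK n (by omega) (by omega)
  obtain ⟨p, k, hp, hpc, hk, hk0⟩ := LieClassical.HermBasic.exists_prime_pow hK
  have hpf : Fact p.Prime := ⟨hp⟩
  have hp2 : p ≠ 2 := by
    rintro rfl
    rw [hk] at ho
    have := (Nat.even_pow.2 ⟨even_two, hk0.ne'⟩ : Even (2 ^ k))
    exact (Nat.not_even_iff_odd.2 ho) this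
  have h2 : (2 : K) ≠ 0 := by
    intro h
    have h3 : p ∣ 2 := (CharP.cast_eq_zero_iff K p 2).1 (by exact_mod_cast h)
    exact hp2 ((Nat.prime_dvd_prime_iff_eq hp Nat.prime_two).1 h3)
  have hrp : r ≠ p := by
    rintro rfl
    have h3 : r ∣ q := by rw [hk]; exact dvd_pow_self r hk0.ne'
    have h4 : r ∣ 1 := (Nat.dvd_add_right h3).1 hrq
    have := Nat.le_of_dvd (by norm_num) h4
    omega
  refine key hK hn h2 ho h5 ?_ fun s μ hL => exists_tor hK (by omega) hL hrq hrn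
  -- a root of unity
  obtain ⟨g, hg1, hg⟩ := H724.UThree.exists_gen_norm hK
  obtain ⟨m, hm⟩ := hrq
  have hgq : g ^ (q + 1) = 1 := by rw [pow_succ', hg1]
  have hg0 : g ≠ 0 := left_ne_zero_of_mul_eq_one hg1
  have hm0 : 0 < m := by
    rcases Nat.eq_zero_or_pos m with h1 | h1
    · rw [h1, mul_zero] at hm
      omega
    · exact h1
  have hna : ¬ IsMulCommutative (PSU n K q) :=
    Cfsg.Agent.CpAut.Fix.not_comm_quot (H := ↥(Cfsg.SU n K q)) (hs := hsimp)
  refine H242.StrP.Uni.noSP_of_root (r := p) (p := r) (G := PSU n K q) hK hn hna hrp (by omega) (MulEquiv.refl _)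
    (w := Units.mk0 g hg0 ^ m) ?_ ?_ ?_
  · rw [← pow_mul, mul_comm, ← hm]
    apply Units.ext
    rw [Units.val_pow_eq_pow_val, Units.val_mk0, hgq, Units.val_one]
  · intro h
    have h1 : g ^ m = 1 := by
      have := congrArg (Units.val) h
      rwa [Units.val_pow_eq_pow_val, Units.val_mk0, Units.val_one] at this
    have h3 := Nat.le_of_dvd hm0 (hg m h1)
    have h4 : 2 * m ≤ r * m := Nat.mul_le_mul_right m hr.out.two_le
    omega
  · apply Units.ext
    rw [Units.val_pow_eq_pow_val, Units.val_pow_eq_pow_val, Units.val_mk0, ← pow_mul, mul_comm, pow_mul, hgq, one_pow,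
      Units.val_one]

/-- an odd prime power `q = 3 ^ k ≥ 5`: `q + 1` has a prime divisor `≥ 5` -/
theorem exists_prime {k : ℕ} (hk : 5 ≤ 3 ^ k) : ∃ r : ℕ, r.Prime ∧ 5 ≤ r ∧ r ∣ 3 ^ k + 1 := by
  by_contra hcon
  push Not at hcon
  -- `3 ^ k + 1` is a power of two
  have h3 : ¬ 3 ∣ 3 ^ k + 1 := by
    have hk0 : k ≠ 0 := by
      rintro rfl
      norm_num at hk
    intro h
    have h1 : 3 ∣ 1 := (Nat.dvd_add_right (dvd_pow_self 3 hk0)).1 h
    omega
  have h8 : ¬ 8 ∣ 3 ^ k + 1 := by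
    intro h
    have h1 : (3 ^ k + 1) % 8 = 0 := Nat.mod_eq_zero_of_dvd h
    have h2 : ∀ k : ℕ, 3 ^ k % 8 = 1 ∨ 3 ^ k % 8 = 3 := by
      intro k
      induction k with
      | zero => left; rfl
      | succ k ih => rw [pow_succ]; omega
    have := h2 k
    omega
  have h2 : ∀ r : ℕ, r.Prime → r ∣ 3 ^ k + 1 → r = 2 := by
    intro r hr hd
    have h1 := hr.two_le
    by_contra hne
    rcases Nat.lt_or_ge r 5 with h5 | h5
    · have : r = 3 ∨ r = 4 := by omega
      rcases this with rfl | rfl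
      · exact h3 hd
      · exact absurd hr (by norm_num)
    · exact hcon r hr h5 hd
  have h4 : ∃ j, 3 ^ k + 1 = 2 ^ j := by
    refine ⟨_, Nat.eq_prime_pow_of_unique_prime_dvd (by positivity) fun {d} hd hdd => h2 d hd hdd⟩
  obtain ⟨j, hj⟩ := h4
  have h5 : j < 3 := by
    by_contra h6
    apply h8
    rw [hj]
    exact pow_dvd_pow 2 (by omega : 3 ≤ j)
  have h6 : 2 ^ j ≤ 2 ^ 2 := Nat.pow_le_pow_right (by norm_num) (by omega)
  omega

/-- **`PSU_4(q)`, `q ≥ 5` odd.** -/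
theorem noEv_psu4 {q : ℕ} (K : Type) [Field K] [Fintype K] (hK : Fintype.card K = q ^ 2) (ho : Odd q) (hq : 5 ≤ q) :
    NoEv (Cfsg.PSU 4 K q) := by
  obtain ⟨p, k, hp, hpc, hk, hk0⟩ := LieClassical.HermBasic.exists_prime_pow hK
  have hpf : Fact p.Prime := ⟨hp⟩
  by_cases hp5 : 5 ≤ p
  · exact noEv_own hK le_rfl hp5
  · have hp3 : p = 3 := by
      have h2 := hp.two_le
      have : p = 2 ∨ p = 3 ∨ p = 4 := by omega
      rcases this with rfl | rfl | rfl
      · exfalso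
        rw [hk] at ho
        exact (Nat.not_even_iff_odd.2 ho) (Nat.even_pow.2 ⟨even_two, hk0.ne'⟩)
      · rfl
      · exact absurd hp (by norm_num)
    subst hp3
    obtain ⟨r, hr, hr5, hrq⟩ := exists_prime (k := k) (by rw [← hk]; exact hq)
    have hrf : Fact r.Prime := ⟨hr⟩
    refine noEv_cross hK le_rfl ho hr5 (by rw [hk]; exact hrq) ?_
    intro h
    have := Nat.le_of_dvd (by norm_num) h
    omega

end Cfsg.Agent.H223.EvU
end

-- part: H47/PerfCent
section
/-!
# Perfect involution centralizers: `J₃`, `McL`, `Ly` (helper47, S3002, S2993)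

`C = 2^{1+4}:A₅`, `2.A₈`, `2.A₁₁`; one class of involutions in each.
-/

set_option autoImplicit false

namespace Cfsg.Agent.H47.PerfCent

open Subgroup Cfsg Cfsg.Agent.TypeM.Two

universe u

theorem comm_self_of_top {G : Type*} [Group G] {C : Subgroup G} (h : commutator ↥C = ⊤) : ⁅C, C⁆ = C := by
  rw [← Subgroup.map_subtype_commutator, h, ← MonoidHom.range_eq_map, C.range_subtype]

theorem perf_mt {G : Type u} [Group G] {n : ℕ} (L : MT n G) (h5 : 5 ≤ n) (s : G) (hs : orderOf s = 2) :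
    ⁅centralizer ({s} : Set G), centralizer ({s} : Set G)⁆ = centralizer ({s} : Set G) := by
  obtain ⟨h1, h2⟩ := MT.sq_of_orderOf hs
  obtain ⟨L', rfl⟩ := L.exists_rebase h1 h2
  exact comm_self_of_top (GTwoRows.cover_perfect L'.K h5)

theorem perf_mcl {G : Type*} [Group G] (h : Cfsg.Spor.IsoMcL G) (s : G) (hs : orderOf s = 2) :
    ⁅centralizer ({s} : Set G), centralizer ({s} : Set G)⁆ = centralizer ({s} : Set G) := by
  obtain ⟨-, -, -, ⟨L⟩⟩ := TypeM.FactsMcL.facts h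
  exact perf_mt L (by norm_num) s hs

theorem perf_ly {G : Type*} [Group G] (h : Cfsg.Spor.IsoLy G) (s : G) (hs : orderOf s = 2) :
    ⁅centralizer ({s} : Set G), centralizer ({s} : Set G)⁆ = centralizer ({s} : Set G) := by
  obtain ⟨-, -, -, ⟨L⟩⟩ := TypeM.FactsLy.facts h
  exact perf_mt L (by norm_num) s hs

theorem perf_j3 {G : Type*} [Group G] (h : Cfsg.Spor.IsoJ3 G) (s : G) (hs : orderOf s = 2) :
    ⁅centralizer ({s} : Set G), centralizer ({s} : Set G)⁆ = centralizer ({s} : Set G) := by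
  obtain ⟨-, hM, -, -⟩ := CpAutJThree.base h
  obtain ⟨-, hC, Q, v, ρ, M⟩ := hM s hs
  exact comm_self_of_top (KFacts.QMinus.perfect M)

end Cfsg.Agent.H47.PerfCent
end

-- part: H47/PerfMTwentyThree
section
/-!
# Perfect involution centralizers: `M₂₃` (helper47, S3002, S2993)

The centralizer of `z` in `M₂₃` has order 2688; its commutator subgroup contains the Sylow 2-subgroup `S` of order 128 and elements of
order 3 and 7 (explicit commutators).
-/

set_option autoImplicit false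

namespace Cfsg.Agent.H47.PerfMTwentyThree

open scoped commutatorElement
open Subgroup Cfsg Cfsg.Agent.KFacts.MM.El Cfsg.Agent.KFacts.MM.Data Cfsg.Agent.KFacts.MM.Sub
open Cfsg.Agent.KFacts.MM.Int Cfsg.Agent.KFacts.MM.El16 Cfsg.Agent.KFacts.MM.Cent
open Cfsg.Agent.SporadicA.GolayBase Cfsg.Agent.SporadicA.GolayPerm

/-- rows `(t, a, b)` with `t = [a, b]`, `a`, `b` in the centralizer of `z` in `M₂₃` -/
def tbl : List (ℕ × ℕ × ℕ) := [
  (961365507626256404119956257276790816, 975187856998378010182888329059009600, 966599397489102402560166140259238976),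
  (972512676110088067912772961567868960, 965016144069085667370957839074889152, 971791712990464534341636741177314752),
  (976448692869377735270425038196672544, 973054518210042674313238929715267616, 975039707762189751033271334713067521),
  (963721886883755259286232606933354528, 967364703173633960573103763133339074, 984276915164183401399682230840229998),
  (965128854020860192151391391390468128, 979056245813237890249459945844047982, 972447348126199389715361059769075137),
  (966182099583441531322624363496310816, 976423388700190412755939577141070929, 976448692869377735270425038196672544),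
  (967812279691448225500382947153381408, 979421602834920726024505833755261090, 982248109565342069823868368267152465),
  (968708902336673183175954409307867168, 966038785622409020378803434275569841, 979207331390849606607726029903607970),
  (970499966350631336865513127433832480, 966071705053628941903947316825587822, 980224387687010295957922729495201824),
  (971592882964418941354553515258775584, 961407117891590235850198932814664782, 983053263435328418125297387142481454),
  (975346028712660580592452217730074656, 979121071158219704299181131031480352, 966566692427023322670829421812285505),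
  (979121071158219704299181131031480352, 984597427560007516946698914572191169, 975151893267645411525093514733981218),
  (980224387687010295957922729495201824, 970283395505529608871687908877174897, 971781560465470563885298542586214449),
  (981818691054096003685363657089320992, 969851210254494050847884094317007907, 966304093634642461135266555906495523),
  (983548720921252936276249910206105632, 984493597844424984103989971758779840, 968870865627342688774000968866010656),
  (960831283963798152912375878980765728, 971228554253582003870591254948940323, 976460096102506462584848658581195205),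
  (960884477435128931241433760505432096, 969121744971674049307691893229291552, 964849852740214621349265705273851938),
  (961438956620049001677386430328277024, 965250858583673859741975371699097024, 981759000716584800037379100401765824),
  (983553802664194553885244102129681472, 971589082025163809051610880333153745, 984811896368526027902876845265194432),
  (984696111737331329197801860296180261, 984730849673303422986486049713260997, 963803164948021592400582446519684642),
  (969223603802536920586621924783686757, 983546182684691078053928387744990673, 963645666370159502909378124225528837)]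

/-- element of order 3 -/
def tP : ℕ := 984696111737331329197801860296180261

/-- element of order 7 -/
def sP : ℕ := 969223603802536920586621924783686757

/-- Boolean test for membership in the centralizer of `z` in `M₂₃` -/
def okC (P : ℕ) : Bool :=
  isPerm P && (isAut P && (Nat.beq (papp P 23) 23 && weq [P, zP] [zP, P]))

/-- the centralizer of `z` in `M₂₃` -/
def CK : Subgroup (Equiv.Perm GolayPt) := Spor.M23 ⊓ centralizer ({z} : Set (Equiv.Perm GolayPt))

theorem mem_of_okC {P : ℕ} (h : okC P = true) : isPerm P = true ∧ pm P ∈ CK := by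
  unfold okC at h
  rw [Bool.and_eq_true, Bool.and_eq_true, Bool.and_eq_true] at h
  obtain ⟨h1, h2, h3, h4⟩ := h
  refine ⟨h1, mem_inf.2 ⟨(SporadicA.MathieuRecog.mem_M23_iff _).2 ⟨pm_mem_M24 h1 h2, ?_⟩, ?_⟩⟩
  · have h5 := val_pm h1 (i := 23) (by norm_num)
    rw [Nat.eq_of_beq_eq_true h3] at h5
    have h6 := pt_val (pm P) 23
    rw [h5] at h6
    exact h6.symm
  · rw [mem_centralizer_singleton_iff]
    have h5 := pr_of_weq (okl2 h1 permz) (okl2 permz h1) h4
    rw [pr_two, pr_two] at h5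
    exact h5

/-- the row gives a commutator -/
def row (r : ℕ × ℕ × ℕ) : Bool :=
  okC r.2.1 && (okC r.2.2 && (isPerm r.1 && weq [r.1, r.2.2, r.2.1] [r.2.1, r.2.2]))

theorem rows : tbl.all row = true := by decide +kernel

theorem mem_comm {P : ℕ} (h : (tbl.any fun r => Nat.beq r.1 P) = true) : pm P ∈ ⁅CK, CK⁆ := by
  obtain ⟨⟨t, a, b⟩, hr, h1⟩ := List.any_eq_true.1 h
  have e : t = P := Nat.eq_of_beq_eq_true h1
  subst e
  have h2 := List.all_eq_true.1 rows _ hr
  unfold row at h2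
  rw [Bool.and_eq_true, Bool.and_eq_true, Bool.and_eq_true] at h2
  obtain ⟨ha, hb, ht, hw⟩ := h2
  obtain ⟨ha1, ha2⟩ := mem_of_okC ha
  obtain ⟨hb1, hb2⟩ := mem_of_okC hb
  have h3 := pr_of_weq (okl3 ht hb1 ha1) (okl2 ha1 hb1) hw
  rw [pr_three, pr_two] at h3
  have h4 : pm t = ⁅pm a, pm b⁆ := by
    rw [commutatorElement_def]
    have h5 : pm t * pm b * pm a = pm a * pm b := h3
    calc pm t = pm t * pm b * pm a * (pm a)⁻¹ * (pm b)⁻¹ := by group
      _ = _ := by rw [h5]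
  show pm t ∈ _
  rw [h4]
  exact commutator_mem_commutator ha2 hb2

theorem V_mem : V ≤ ⁅CK, CK⁆ := by
  rintro _ ⟨P, hP, rfl⟩
  have h : (VL.all fun P => weq [P] [] || tbl.any fun r => Nat.beq r.1 P) = true := by decide +kernel
  have h1 := List.all_eq_true.1 h P hP
  rw [Bool.or_eq_true] at h1
  rcases h1 with h1 | h1
  · have h2 := pr_of_weq (okl1 (pV hP)) rfl h1
    rw [pr_one, pr_nil] at h2
    rw [h2]
    exact one_mem _
  · exact mem_comm h1

theorem W4_mem {P : ℕ} (hP : P ∈ W4) : pm P ∈ ⁅CK, CK⁆ := by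
  have h : (W4.all fun P => weq [P] [] || tbl.any fun r => Nat.beq r.1 P) = true := by decide +kernel
  have h1 := List.all_eq_true.1 h P hP
  rw [Bool.or_eq_true] at h1
  rcases h1 with h1 | h1
  · have h2 := pr_of_weq (okl1 (pW (W4_sub hP))) rfl h1
    rw [pr_one, pr_nil] at h2
    rw [h2]
    exact one_mem _
  · exact mem_comm h1

theorem c_mem' : c ∈ ⁅CK, CK⁆ := mem_comm (by decide +kernel)

/-- every element of `W` lies in the product of `V` and `W4` -/
theorem W_mem : W ≤ ⁅CK, CK⁆ := by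
  rintro _ ⟨P, hP, rfl⟩
  have h : (WL.all fun P => VL.any fun Q => W4.any fun R => weq [P] [Q, R]) = true := by decide +kernel
  obtain ⟨Q, hQ, h1⟩ := List.any_eq_true.1 (List.all_eq_true.1 h P hP)
  obtain ⟨R, hR, h2⟩ := List.any_eq_true.1 h1
  have h3 := pr_of_weq (okl1 (pW hP)) (okl2 (pV hQ) (pW (W4_sub hR))) h2
  rw [pr_one, pr_two] at h3
  rw [h3]
  exact mul_mem (V_mem ⟨Q, hQ, rfl⟩) (W4_mem hR)

theorem S_mem : S ≤ ⁅CK, CK⁆ := by
  intro g hg
  obtain ⟨v, hv, w, hw, h | h⟩ := mem_S.1 hg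
  · rw [h]; exact mul_mem (V_mem hv) (W_mem hw)
  · rw [h]; exact mul_mem (mul_mem (V_mem hv) (W_mem hw)) c_mem'

theorem dvd_of_mem {P p : ℕ} (hp : p.Prime) (h : (tbl.any fun r => Nat.beq r.1 P) = true) (h0 : isPerm P = true)
    (h1 : weq (List.replicate p P) [] = true) (h2 : weq [P] [] = false) :
    p ∣ Nat.card ↥⁅CK, CK⁆ := by
  have hm := mem_comm h
  have hpr : ∀ n, pr (List.replicate n P) = pm P ^ n := by
    intro n
    induction n with
    | zero => rw [List.replicate_zero, pr_nil, pow_zero]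
    | succ n ih => rw [List.replicate_succ, pr_cons, ih, pow_succ']
  have hok : okl (List.replicate p P) = true := by
    unfold okl
    rw [List.all_eq_true]
    intro x hx
    rw [List.eq_of_mem_replicate hx, h0]
  have e1 : pm P ^ p = 1 := by
    rw [← hpr, pr_of_weq hok rfl h1, pr_nil]
  have e2 : pm P ≠ 1 := by
    have := pr_ne (okl1 h0) rfl h2
    rwa [pr_one, pr_nil] at this
  have : Fact p.Prime := ⟨hp⟩
  have e3 : orderOf (pm P) = p := orderOf_eq_prime e1 e2
  rw [← e3]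
  have := orderOf_dvd_natCard (⟨pm P, hm⟩ : ↥⁅CK, CK⁆)
  rwa [Subgroup.orderOf_mk] at this

theorem card_S_eq : 2 ^ 7 ∣ Nat.card ↥⁅CK, CK⁆ := by
  have h1 : Nat.card S ∣ Nat.card ↥⁅CK, CK⁆ := card_dvd_of_le S_mem
  have h2 := card_S_ge
  have h3 : IsPGroup 2 S := isPGroup
  obtain ⟨n, hn⟩ := IsPGroup.iff_card.1 h3
  rw [hn] at h1 h2
  refine (pow_dvd_pow 2 ?_).trans h1
  by_contra hlt
  have h4 : n ≤ 6 := by omega
  have h5 : 2 ^ n ≤ 2 ^ 6 := Nat.pow_le_pow_right (by norm_num) h4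
  omega

theorem z_mem23 : z ∈ Spor.M23 := SporadicA.MathieuRecog.M22_le (V_le22 zV)

/-- `z` as an element of `M₂₃` -/
noncomputable def z' : Spor.M23 := ⟨z, z_mem23⟩

theorem zz : z * z = 1 := elV z zV

theorem orderOf_z' : orderOf z' = 2 := by
  apply orderOf_eq_prime
  · rw [pow_two]; exact Subtype.ext zz
  · intro h; exact z1 (congrArg Subtype.val h)

theorem map_cent : (centralizer ({z'} : Set Spor.M23)).map Spor.M23.subtype = CK := by
  ext g
  constructor
  · rintro ⟨y, hy, rfl⟩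
    refine mem_inf.2 ⟨y.2, ?_⟩
    rw [mem_centralizer_singleton_iff]
    exact congrArg Subtype.val (mem_centralizer_singleton_iff.1 hy)
  · intro hg
    obtain ⟨h1, h2⟩ := mem_inf.1 hg
    refine ⟨⟨g, h1⟩, ?_, rfl⟩
    rw [SetLike.mem_coe, mem_centralizer_singleton_iff]
    exact Subtype.ext (mem_centralizer_singleton_iff.1 h2)

theorem card_CK : Nat.card ↥CK = 2688 := by
  rw [← map_cent, card_map_of_injective Spor.M23.subtype_injective]
  exact H992.Stages.card_cent_m23 orderOf_z'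

/-- the centralizer of `z` is perfect -/
theorem perf_CK : ⁅CK, CK⁆ = CK := by
  have hle : ⁅CK, CK⁆ ≤ CK := by
    rw [commutator_le]
    intro a ha b hb
    exact mul_mem (mul_mem (mul_mem ha hb) (inv_mem ha)) (inv_mem hb)
  apply eq_of_le_of_card_ge hle
  rw [card_CK]
  have h3 : 3 ∣ Nat.card ↥⁅CK, CK⁆ := dvd_of_mem (P := tP) Nat.prime_three (by decide +kernel) (by decide +kernel)
    (by decide +kernel) (by decide +kernel)
  have h7 : 7 ∣ Nat.card ↥⁅CK, CK⁆ := dvd_of_mem (P := sP) (by norm_num) (by decide +kernel) (by decide +kernel)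
    (by decide +kernel) (by decide +kernel)
  have h2 := card_S_eq
  have h : 2 ^ 7 * (3 * 7) ∣ Nat.card ↥⁅CK, CK⁆ :=
    Nat.Coprime.mul_dvd_of_dvd_of_dvd (by norm_num) h2 (Nat.Coprime.mul_dvd_of_dvd_of_dvd (by norm_num) h3 h7)
  have hpos : 0 < Nat.card ↥⁅CK, CK⁆ := Nat.card_pos
  exact Nat.le_of_dvd hpos h

/-- transport along an isomorphism -/
theorem perf_equiv {G H : Type*} [Group G] [Group H] (e : G ≃* H) (s : G)
    (h : ⁅centralizer ({e s} : Set H), centralizer ({e s} : Set H)⁆ = centralizer ({e s} : Set H)) :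
    ⁅centralizer ({s} : Set G), centralizer ({s} : Set G)⁆ = centralizer ({s} : Set G) := by
  have hm : (centralizer ({s} : Set G)).map e.toMonoidHom = centralizer ({e s} : Set H) := by
    ext g
    constructor
    · rintro ⟨y, hy, rfl⟩
      rw [mem_centralizer_singleton_iff]
      show e y * e s = e s * e y
      rw [← map_mul, mem_centralizer_singleton_iff.1 hy, map_mul]
    · intro hg
      refine ⟨e.symm g, ?_, e.apply_symm_apply g⟩
      rw [SetLike.mem_coe, mem_centralizer_singleton_iff]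
      apply e.injective
      rw [map_mul, map_mul, e.apply_symm_apply]
      exact mem_centralizer_singleton_iff.1 hg
  apply map_injective (f := e.toMonoidHom) e.injective
  rw [map_commutator, hm, h]

theorem perf_z' : ⁅centralizer ({z'} : Set Spor.M23), centralizer ({z'} : Set Spor.M23)⁆ = centralizer ({z'} : Set Spor.M23) := by
  apply map_injective Spor.M23.subtype_injective
  rw [map_commutator, map_cent, perf_CK]

/-- **Perfect involution centralizers in `M₂₃`.** -/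
theorem perf_m23 {G : Type*} [Group G] (h : Cfsg.Spor.IsoM23 G) (s : G) (hs : orderOf s = 2) :
    ⁅centralizer ({s} : Set G), centralizer ({s} : Set G)⁆ = centralizer ({s} : Set G) := by
  obtain ⟨e⟩ := h
  have hs2 : orderOf (e s) = 2 := by rw [← hs]; exact MulEquiv.orderOf_eq e s
  have h2 : e s * e s = 1 := by rw [← pow_two, ← hs2, pow_orderOf_eq_one]
  have h1 : e s ≠ 1 := by
    intro h1
    rw [h1, orderOf_one] at hs2
    omega
  obtain ⟨g, hg, hgz⟩ := KFacts.MM.InvM22.inv23 (e s : Equiv.Perm GolayPt) (e s).2 (congrArg Subtype.val h2)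
    (fun h => h1 (Subtype.ext h))
  let g' : Spor.M23 := ⟨g, hg⟩
  have e1 : e s = (MulAut.conj g') z' := Subtype.ext hgz
  have key := perf_equiv (e.trans (MulAut.conj g')⁻¹) s
  apply key
  have e2 : (e.trans (MulAut.conj g')⁻¹) s = z' := by
    show (MulAut.conj g')⁻¹ (e s) = z'
    rw [e1]
    exact (MulAut.conj g').symm_apply_apply z'
  rw [e2]
  exact perf_z'

end Cfsg.Agent.H47.PerfMTwentyThree
end
end
end
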